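import Cfsg.Agent.Lib.KnownA.SL2Stem
import Mathlib

/-!
The Borel subgroup in the bound on stem extensions of `SL₂(q)`.
-/

set_option autoImplicit false

namespace CfsgLib.KnownA.SL2Stem

open Matrix
open scoped commutatorElement

variable {F : Type*} [Field F] [Fintype F]

/-- An alternating biadditive map on a finite field, invariant under multiplication of both
arguments by the same nonzero square, is trivial unless `q ∈ {4, 9}`. -/
theorem alt_invariant_trivial {Γ : Type*} [Group Γ] (h4 : Fintype.card F ≠ 4) (h9 : Fintype.card F ≠ 9)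
    (β : F → F → Γ) (hl : ∀ x y z, β (x + y) z = β x z * β y z)
    (hr : ∀ x y z, β x (y + z) = β x y * β x z) (halt : ∀ x, β x x = 1)
    (hinv : ∀ e x y : F, e ≠ 0 → β (e * e * x) (e * e * y) = β x y) : ∀ x y, β x y = 1 := by
  classical
  have hr0 : ∀ x, β x 0 = 1 := fun x => by
    have h := hr x 0 0; rw [add_zero] at h; exact mul_eq_right.mp h.symm
  have hl0 : ∀ y, β 0 y = 1 := fun y => by
    have h := hl 0 0 y; rw [add_zero] at h; exact mul_eq_right.mp h.symm
  have hskew : ∀ x y, β y x = (β x y)⁻¹ := fun x y => by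
    have h := halt (x + y)
    rw [hl, hr, hr, halt, halt, one_mul, mul_one] at h
    exact eq_inv_of_mul_eq_one_right h
  have hneg : ∀ x y, β x (-y) = (β x y)⁻¹ := fun x y => by
    apply eq_inv_of_mul_eq_one_right
    rw [← hr, add_neg_cancel, hr0]
  let Adj : F → F → Prop := fun c c' => ∀ x y, β (c * x) y = β x (c' * y)
  have adj_sq : ∀ e : F, Adj (e * e) (e * e)⁻¹ := by
    intro e x y
    rcases eq_or_ne e 0 with rfl | he
    · simp [hl0, hr0]
    · rw [← hinv e x ((e * e)⁻¹ * y) he, ← mul_assoc, mul_inv_cancel₀ (mul_ne_zero he he), one_mul]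
  have adj_add : ∀ c c' d d', Adj c c' → Adj d d' → Adj (c + d) (c' + d') := fun c c' d d' hc hd x y => by
    rw [add_mul, hl, hc, hd, add_mul, hr]
  have adj_neg : ∀ c c', Adj c c' → Adj (-c) (-c') := fun c c' hc x y => by
    have h1 : β (-c * x) y = (β (c * x) y)⁻¹ := by
      apply eq_inv_of_mul_eq_one_left
      rw [← hl, show -c * x + c * x = 0 by ring, hl0]
    rw [h1, hc, neg_mul, hneg]
  have adj_all : ∀ c, ∃ c', Adj c c' := by
    intro c
    by_cases h2 : (2 : F) = 0
    · haveI : CharP F 2 := CharTwo.of_one_ne_zero_of_two_eq_zero one_ne_zero h2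
      obtain ⟨e, he⟩ := surjective_frobenius F 2 c
      rw [frobenius_def, pow_two] at he
      exact ⟨_, he ▸ adj_sq e⟩
    · refine ⟨_, (?_ : c = ((c + 1) / 2) * ((c + 1) / 2) + -(((c - 1) / 2) * ((c - 1) / 2))) ▸
        adj_add _ _ _ _ (adj_sq _) (adj_neg _ _ (adj_sq _))⟩
      field_simp
      ring
  by_cases hrad : ∃ z0 : F, z0 ≠ 0 ∧ ∀ x, β x z0 = 1
  · obtain ⟨z0, hz0, hz⟩ := hrad
    intro x y
    obtain ⟨c', hc'⟩ := adj_all (y / z0)
    rw [hskew y x, inv_eq_one]
    have := hc' z0 x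
    rw [div_mul_cancel₀ _ hz0] at this
    rw [this, hskew _ z0, hz, inv_one]
  push Not at hrad
  have huniq : ∀ z z', (∀ x, β x z = β x z') → z = z' := by
    intro z z' h
    by_contra hne
    obtain ⟨x, hx⟩ := hrad (z - z') (sub_ne_zero.mpr hne)
    apply hx
    rw [sub_eq_add_neg, hr, hneg, h x, mul_inv_cancel]
  choose s hs using adj_all
  have hsadd : ∀ c d, s (c + d) = s c + s d := fun c d => by
    have := huniq (s (c + d) * 1) ((s c + s d) * 1) fun x => by
      rw [← hs (c + d) x 1, ← adj_add _ _ _ _ (hs c) (hs d) x 1]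
    simpa using this
  have hsmul : ∀ c d, s (c * d) = s d * s c := fun c d => by
    have := huniq (s (c * d) * 1) (s d * s c * 1) fun x => by
      rw [← hs (c * d) x 1, mul_assoc, hs c, hs d, mul_one, mul_one]
    simpa using this
  have hssq : ∀ e, s (e * e) = (e * e)⁻¹ := fun e => by
    have := huniq (s (e * e) * 1) ((e * e)⁻¹ * 1) fun x => by
      rw [← hs (e * e) x 1, ← adj_sq e x 1]
    simpa using this
  have hsq : ∀ x, x ≠ 0 → ∃ e : F, (e = 1 ∨ e = -1) ∧ s x = e / x := by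
    intro x hx
    refine ⟨s x * x, mul_self_eq_one_iff.mp ?_, by field_simp⟩
    calc s x * x * (s x * x) = s x * s x * (x * x) := by ring
      _ = 1 := by rw [← hsmul, hssq, inv_mul_cancel₀ (mul_ne_zero hx hx)]
  have hs1 : s 1 = 1 := by simpa using hssq 1
  have hquad : ∀ x : F, x ≠ 0 → x + 1 ≠ 0 → ∃ e d : F, (e = 1 ∨ e = -1) ∧ (d = 1 ∨ d = -1) ∧
      x * x + (1 + d - e) * x + d = 0 := by
    intro x hx hx1
    obtain ⟨e, he, hse⟩ := hsq (x + 1) hx1
    obtain ⟨d, hd, hsd⟩ := hsq x hx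
    refine ⟨e, d, he, hd, ?_⟩
    have h := hsadd x 1
    rw [hse, hsd, hs1] at h
    field_simp at h
    linear_combination -h
  have root2 : ∀ B C : F, (Finset.univ.filter fun x : F => x * x + B * x + C = 0).card ≤ 2 := by
    intro B C
    by_cases h : ∃ r, r * r + B * r + C = 0
    · obtain ⟨r, hr'⟩ := h
      refine (Finset.card_le_card (t := {r, -B - r}) ?_).trans Finset.card_le_two
      intro x hx
      rw [Finset.mem_filter] at hx
      simp only [Finset.mem_insert, Finset.mem_singleton]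
      have : (x - r) * (x - (-B - r)) = 0 := by linear_combination hx.2 - hr'
      rcases mul_eq_zero.mp this with h | h
      · exact Or.inl (sub_eq_zero.mp h)
      · exact Or.inr (sub_eq_zero.mp h)
    · push Not at h
      rw [Finset.filter_false_of_mem (fun x _ => h x)]
      simp
  set R := fun e d : F => Finset.univ.filter fun x : F => x * x + (1 + d - e) * x + d = 0 with hR
  have hcover : (Finset.univ : Finset F) ⊆
      {0, -1} ∪ (R 1 1 ∪ R 1 (-1) ∪ R (-1) 1 ∪ R (-1) (-1)) := by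
    intro x _
    by_cases h0 : x = 0
    · simp [h0]
    by_cases h1 : x + 1 = 0
    · simp [eq_neg_of_add_eq_zero_left h1]
    obtain ⟨e, d, he, hd, heq⟩ := hquad x h0 h1
    apply Finset.mem_union_right
    simp only [Finset.mem_union, hR, Finset.mem_filter, Finset.mem_univ, true_and]
    rcases he with rfl | rfl <;> rcases hd with rfl | rfl
    · exact Or.inl (Or.inl (Or.inl heq))
    · exact Or.inl (Or.inl (Or.inr heq))
    · exact Or.inl (Or.inr heq)
    · exact Or.inr heq
  set q := Fintype.card F with hq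
  have hb := Finset.card_le_card hcover
  rw [Finset.card_univ, ← hq] at hb
  have r1 : ∀ e d, (R e d).card ≤ 2 := fun e d => root2 _ _
  have hb2 := Finset.card_union_le ({0, -1} : Finset F) (R 1 1 ∪ R 1 (-1) ∪ R (-1) 1 ∪ R (-1) (-1))
  have hc2 : ({0, -1} : Finset F).card ≤ 2 := Finset.card_le_two
  have hprime : q.Prime := by
    obtain ⟨n, hp, hn⟩ := FiniteField.card F (ringChar F)
    by_cases h2 : (2 : F) = 0
    · haveI : CharP F 2 := CharTwo.of_one_ne_zero_of_two_eq_zero one_ne_zero h2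
      have hn1 : ringChar F = 2 := ringChar.eq F 2
      have heq : ∀ e d, (e = 1 ∨ e = -1) → (d = 1 ∨ d = -1) → R e d = R 1 1 := fun e d he hd => by
        have e1 : e = 1 := by rcases he with rfl | rfl; rfl; exact CharTwo.neg_eq 1
        have d1 : d = 1 := by rcases hd with rfl | rfl; rfl; exact CharTwo.neg_eq 1
        rw [e1, d1]
      rw [heq 1 (-1) (Or.inl rfl) (Or.inr rfl), heq (-1) 1 (Or.inr rfl) (Or.inl rfl),
        heq (-1) (-1) (Or.inr rfl) (Or.inr rfl), Finset.union_self, Finset.union_self, Finset.union_self] at hb hb2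
      have := r1 1 1
      rw [hn1] at hn
      rcases Nat.lt_or_ge (n : ℕ) 2 with hlt | hge
      · rw [hq, hn, show (n : ℕ) = 1 by have := n.pos; omega, pow_one]; exact Nat.prime_two
      · exfalso
        have : 2 ^ 2 ≤ 2 ^ (n : ℕ) := Nat.pow_le_pow_right (by omega) hge
        omega
    · have hne : ringChar F ≠ 2 := fun h => h2 (by
        have := ringChar.Nat.cast_ringChar (R := F); rw [h] at this; exact_mod_cast this)
      have hodd : ¬ 2 ∣ q := fun h => hne (FiniteField.even_card_iff_char_two.mpr (Nat.dvd_iff_mod_eq_zero.mp h))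
      have u1 := Finset.card_union_le (R 1 1 ∪ R 1 (-1) ∪ R (-1) 1) (R (-1) (-1))
      have u2 := Finset.card_union_le (R 1 1 ∪ R 1 (-1)) (R (-1) 1)
      have u3 := Finset.card_union_le (R 1 1) (R 1 (-1))
      have := r1 1 1; have := r1 1 (-1); have := r1 (-1) 1; have := r1 (-1) (-1)
      have hle : q ≤ 10 := by omega
      have hgt : 1 < q := Fintype.one_lt_card
      interval_cases hqv : q <;> first | omega | norm_num
  intro x y
  haveI : Fact q.Prime := ⟨hprime⟩
  haveI : CharP F q := charP_of_card_eq_prime rfl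
  have hbij : Function.Bijective (ZMod.castHom (dvd_refl q) F) := by
    rw [Fintype.bijective_iff_injective_and_card]
    exact ⟨ZMod.castHom_injective F, by simp [hq]⟩
  have hnat : ∀ x : F, ∃ m : ℕ, x = m := fun x => by
    obtain ⟨z, rfl⟩ := hbij.2 x
    exact ⟨z.val, by rw [← map_natCast (ZMod.castHom (dvd_refl q) F), ZMod.natCast_zmod_val]⟩
  obtain ⟨m, rfl⟩ := hnat x
  obtain ⟨k, rfl⟩ := hnat y
  have e1 : ∀ (m : ℕ) (y : F), β (m : F) y = β 1 y ^ m := by
    intro m y
    induction m with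
    | zero => simp [hl0]
    | succ m ih => rw [Nat.cast_succ, hl, ih, pow_succ]
  rw [e1, hskew (k : F) 1, e1, halt, one_pow, inv_one, one_pow]

/-- The upper triangular subgroup. -/
def borel : Subgroup (Matrix.SpecialLinearGroup (Fin 2) F) where
  carrier := {M | M.1 1 0 = 0}
  one_mem' := by simp
  mul_mem' := by
    intro A B hA hB
    simp only [Set.mem_setOf_eq] at *
    simp [Matrix.SpecialLinearGroup.coe_mul, Matrix.mul_apply, Fin.sum_univ_two, hA, hB]
  inv_mem' := by
    intro A hA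
    simp only [Set.mem_setOf_eq] at *
    simp [Matrix.SpecialLinearGroup.coe_inv, Matrix.adjugate_fin_two, hA]

theorem eq_dg_ut {M : Matrix.SpecialLinearGroup (Fin 2) F} (hM : M.1 1 0 = 0) :
    ∃ (a : Fˣ) (x : F), M = dg a * ut (Multiplicative.ofAdd x) := by
  have hd := M.2
  rw [Matrix.det_fin_two, hM, mul_zero, sub_zero] at hd
  let a : Fˣ := Units.mk0 (M.1 0 0) (left_ne_zero_of_mul_eq_one hd)
  refine ⟨a, (M.1 0 0)⁻¹ * M.1 0 1, ?_⟩
  apply Subtype.ext
  rw [Matrix.SpecialLinearGroup.coe_mul, dg_val, ut_val]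
  have ha : M.1 0 0 ≠ 0 := left_ne_zero_of_mul_eq_one hd
  have h11 : M.1 1 1 = (M.1 0 0)⁻¹ := eq_inv_of_mul_eq_one_right hd
  rw [Matrix.mul_fin_two]
  ext i j
  fin_cases i <;> fin_cases j <;> simp [a, hM, h11, ha]

theorem borel_index : (borel (F := F)).index = Fintype.card F + 1 := by
  classical
  have e : (Fˣ × F) ≃ ↥(borel (F := F)) := Equiv.ofBijective
    (fun ax => ⟨dg ax.1 * ut (Multiplicative.ofAdd ax.2), by
      change _ = (0 : F)
      simp [Matrix.SpecialLinearGroup.coe_mul, dg_val, ut_val]⟩)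
    ⟨fun u v h => by
      have h' : (dg u.1).1 * (ut (Multiplicative.ofAdd u.2)).1 = (dg v.1).1 * (ut (Multiplicative.ofAdd v.2)).1 :=
        congrArg (fun M : ↥(borel (F := F)) => M.1.1) h
      rw [dg_val, dg_val, ut_val, ut_val, Matrix.mul_fin_two, Matrix.mul_fin_two] at h'
      have h00 := congrFun (congrFun h' 0) 0
      have h01 := congrFun (congrFun h' 0) 1
      simp at h00 h01
      refine Prod.ext (Units.ext h00) ?_
      rw [h00] at h01
      exact mul_left_cancel₀ v.1.ne_zero (by simpa using h01),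
     fun M => by
      obtain ⟨a, x, h⟩ := eq_dg_ut M.2
      exact ⟨(a, x), Subtype.ext h.symm⟩⟩
  have h := (borel (F := F)).index_mul_card
  rw [← Nat.card_congr e, card_sl2, Nat.card_prod, Nat.card_units, Nat.card_eq_fintype_card] at h
  have hq : 2 ≤ Fintype.card F := Fintype.one_lt_card
  exact Nat.eq_of_mul_eq_mul_right (Nat.mul_pos (by omega) (by omega)) (h.trans (by ring))

variable {Γ : Type*} [Group Γ] [Finite Γ] {σ : Γ →* Matrix.SpecialLinearGroup (Fin 2) F}

set_option maxHeartbeats 1000000 in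
theorem borel_kill (h4 : Fintype.card F ≠ 4) (h9 : Fintype.card F ≠ 9) (hσ : Cfsg.IsStemExtension σ)
    (z : Γ) (hz : z ∈ σ.ker) : z ^ (Fintype.card F + 1) = 1 := by
  classical
  rw [← borel_index]
  refine stem_pow_index_eq_one hσ _ ?_ z hz
  have cen : ∀ a ∈ σ.ker, ∀ g : Γ, g * a = a * g := fun a ha g =>
    Subgroup.mem_center_iff.mp (hσ.2.1 ha) g
  choose r hr using fun x : F => hσ.1 (ut (Multiplicative.ofAdd x))
  choose d hd using fun a : Fˣ => hσ.1 (dg a)
  have decomp : ∀ (g : Γ) (x : F), σ g = ut (Multiplicative.ofAdd x) → ∃ a ∈ σ.ker, g = a * r x := by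
    intro g x hg
    refine ⟨g * (r x)⁻¹, ?_, by group⟩
    rw [MonoidHom.mem_ker, map_mul, map_inv, hg, hr, mul_inv_cancel]
  -- the commutator pairing
  have hcen : ∀ x y, ⁅r x, r y⁆ ∈ σ.ker := fun x y => by
    rw [MonoidHom.mem_ker, map_commutatorElement, hr, hr, commutatorElement_eq_one_iff_mul_comm]
    exact ((Commute.all _ _).map ut).eq
  have hcl : ∀ a ∈ σ.ker, ∀ g h : Γ, ⁅a * g, h⁆ = ⁅g, h⁆ := fun a ha g h => by
    have hh : a * g * h * g⁻¹ * a⁻¹ = g * h * g⁻¹ := by
      rw [show a * g * h * g⁻¹ * a⁻¹ = a * (g * h * g⁻¹) * a⁻¹ by group, ← cen a ha, mul_inv_cancel_right]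
    calc ⁅a * g, h⁆ = (a * g * h * g⁻¹ * a⁻¹) * h⁻¹ := by rw [commutatorElement_def]; group
      _ = ⁅g, h⁆ := by rw [hh, commutatorElement_def]
  have hcr : ∀ a ∈ σ.ker, ∀ g h : Γ, ⁅g, a * h⁆ = ⁅g, h⁆ := fun a ha g h => by
    rw [← commutatorElement_inv, hcl a ha, commutatorElement_inv]
  have hbl : ∀ x y w, ⁅r (x + y), r w⁆ = ⁅r x, r w⁆ * ⁅r y, r w⁆ := by
    intro x y w
    obtain ⟨a, ha, he⟩ := decomp (r x * r y) (x + y) (by rw [map_mul, hr, hr, ← map_mul, ← ofAdd_add])
    rw [← hcl a ha (r (x + y)), ← he]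
    calc ⁅r x * r y, r w⁆ = r x * ⁅r y, r w⁆ * (r x)⁻¹ * ⁅r x, r w⁆ := by simp only [commutatorElement_def]; group
      _ = ⁅r y, r w⁆ * ⁅r x, r w⁆ := by rw [cen _ (hcen y w), mul_inv_cancel_right]
      _ = ⁅r x, r w⁆ * ⁅r y, r w⁆ := cen _ (hcen x w) _
  have hbr : ∀ x y w, ⁅r x, r (y + w)⁆ = ⁅r x, r y⁆ * ⁅r x, r w⁆ := by
    intro x y w
    rw [← commutatorElement_inv, hbl, _root_.mul_inv_rev, commutatorElement_inv, commutatorElement_inv]
    exact (cen _ (hcen x w) _).symm
  have hinv : ∀ e x y : F, e ≠ 0 → ⁅r (e * e * x), r (e * e * y)⁆ = ⁅r x, r y⁆ := by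
    intro e x y he
    set u := Units.mk0 e he
    have hx : ∀ x, ∃ a ∈ σ.ker, d u * r x * (d u)⁻¹ = a * r (e * e * x) := fun x =>
      decomp _ _ (by rw [map_mul, map_mul, map_inv, hd, hr, dg_ut]; rfl)
    obtain ⟨a, ha, hax⟩ := hx x
    obtain ⟨a', ha', hay⟩ := hx y
    rw [← hcl a ha (r (e * e * x)), ← hcr a' ha', ← hax, ← hay]
    calc ⁅d u * r x * (d u)⁻¹, d u * r y * (d u)⁻¹⁆ = d u * ⁅r x, r y⁆ * (d u)⁻¹ := by
          simp only [commutatorElement_def]; group
      _ = ⁅r x, r y⁆ := by rw [cen _ (hcen x y), mul_inv_cancel_right]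
  have hβ := alt_invariant_trivial h4 h9 (fun x y => ⁅r x, r y⁆) hbl hbr (fun x => commutatorElement_self _) hinv
  -- the preimage of the unipotent group is commutative
  set U : Subgroup Γ := (ut (F := F)).range.comap σ with hU
  have hUc : ∀ g ∈ U, ∀ h ∈ U, g * h = h * g := by
    intro g hg h hh
    obtain ⟨x, hx⟩ := hg
    obtain ⟨y, hy⟩ := hh
    obtain ⟨a, ha, rfl⟩ := decomp g x.toAdd hx.symm
    obtain ⟨b, hb, rfl⟩ := decomp h y.toAdd hy.symm
    rw [← commutatorElement_eq_one_iff_mul_comm, hcl a ha, hcr b hb]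
    exact hβ _ _
  obtain ⟨a₀, ha₀⟩ := IsCyclic.exists_generator (α := Fˣ)
  set h₀ := d a₀ with hh₀
  have hUconj : ∀ g ∈ U, h₀ * g * h₀⁻¹ ∈ U := by
    rintro g ⟨x, hx⟩
    refine ⟨Multiplicative.ofAdd ((a₀ : F) * a₀ * x.toAdd), ?_⟩
    rw [map_mul σ, map_mul σ, map_inv σ, hh₀, hd, ← hx, dg_ut]
  -- `δ g = [h₀, g]` is multiplicative on `U`
  have hδU : ∀ g ∈ U, ⁅h₀, g⁆ ∈ U := fun g hg => by
    rw [commutatorElement_def]; exact mul_mem (hUconj g hg) (inv_mem hg)
  let δ : U →* Γ := MonoidHom.mk' (fun g => ⁅h₀, (g : Γ)⁆) fun g k => by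
    change ⁅h₀, (g : Γ) * k⁆ = ⁅h₀, (g : Γ)⁆ * ⁅h₀, (k : Γ)⁆
    calc ⁅h₀, (g : Γ) * k⁆ = ⁅h₀, (g : Γ)⁆ * (g * ⁅h₀, (k : Γ)⁆ * (g : Γ)⁻¹) := by
          simp only [commutatorElement_def]; group
      _ = ⁅h₀, (g : Γ)⁆ * ⁅h₀, (k : Γ)⁆ := by rw [hUc g g.2 _ (hδU k k.2), mul_inv_cancel_right]
  have hδker : ∀ g : U, δ g ∈ σ.ker → δ g = 1 := by
    intro g hg
    obtain ⟨x, hx⟩ := g.2
    have hgσ : σ (g : Γ) = ut x := hx.symm
    have hcommσ : dg a₀ * ut x * (dg a₀)⁻¹ = ut x := by
      have h := MonoidHom.mem_ker.mp hg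
      change σ ⁅h₀, (g : Γ)⁆ = 1 at h
      rw [map_commutatorElement, hd, hgσ, commutatorElement_def] at h
      exact mul_inv_eq_one.mp h
    rw [dg_ut] at hcommσ
    have hfix : (a₀ : F) * a₀ * x.toAdd = x.toAdd := by
      have := congrArg (fun M : Matrix.SpecialLinearGroup (Fin 2) F => M.1 0 1) hcommσ
      simpa [ut_val] using this
    by_cases ha : (a₀ : F) * a₀ = 1
    · -- `q ≤ 3`
      have hac : ∀ k : Γ, k * δ g = δ g * k := cen _ hg
      have hq : δ g ^ 2 = 1 := by
        have h2 : h₀ * h₀ ∈ σ.ker := by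
          rw [MonoidHom.mem_ker, map_mul, hd, ← map_mul,
            show a₀ * a₀ = 1 from Units.ext (by rw [Units.val_mul, ha, Units.val_one]), map_one]
        have e : h₀ * (g : Γ) * h₀⁻¹ = δ g * g := by
          change _ = ⁅h₀, (g : Γ)⁆ * g
          rw [commutatorElement_def]; group
        have e2 : (h₀ * h₀) * (g : Γ) * (h₀ * h₀)⁻¹ = δ g * δ g * g := by
          calc (h₀ * h₀) * (g : Γ) * (h₀ * h₀)⁻¹ = h₀ * (h₀ * (g : Γ) * h₀⁻¹) * h₀⁻¹ := by group
            _ = h₀ * (δ g * (g : Γ)) * h₀⁻¹ := by rw [e]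
            _ = h₀ * δ g * h₀⁻¹ * (h₀ * (g : Γ) * h₀⁻¹) := by group
            _ = δ g * δ g * g := by rw [hac, mul_inv_cancel_right, e, mul_assoc]
        rw [← cen _ h2, mul_inv_cancel_right] at e2
        rw [pow_two]
        exact mul_eq_right.mp e2.symm
      have hp : δ g ^ ringChar F = 1 := by
        have hk : ((g : Γ) ^ ringChar F) ∈ σ.ker := by
          rw [MonoidHom.mem_ker, map_pow, hgσ, ← map_pow]
          have : x ^ ringChar F = 1 := by
            apply Multiplicative.toAdd.injective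
            rw [toAdd_pow, nsmul_eq_mul, ringChar.Nat.cast_ringChar, zero_mul, toAdd_one]
          rw [this, map_one]
        rw [← map_pow]
        change ⁅h₀, ((g : Γ) ^ ringChar F)⁆ = 1
        rw [commutatorElement_eq_one_iff_mul_comm]
        exact cen _ hk h₀
      by_cases h2 : ringChar F = 2
      · have : h₀ ∈ σ.ker := by
          haveI : CharP F 2 := ringChar.of_eq h2
          rcases mul_self_eq_one_iff.mp ha with h | h
          · rw [MonoidHom.mem_ker, hd, show a₀ = 1 from Units.ext h, map_one]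
          · rw [CharTwo.neg_eq] at h
            rw [MonoidHom.mem_ker, hd, show a₀ = 1 from Units.ext h, map_one]
        change ⁅h₀, (g : Γ)⁆ = 1
        rw [commutatorElement_eq_one_iff_mul_comm]
        exact (cen _ this _).symm
      · have hpp : (ringChar F).Prime := CharP.char_is_prime F _
        have hd1 : orderOf (δ g) ∣ Nat.gcd 2 (ringChar F) :=
          Nat.dvd_gcd (orderOf_dvd_of_pow_eq_one hq) (orderOf_dvd_of_pow_eq_one hp)
        rw [(Nat.coprime_primes Nat.prime_two hpp).mpr (Ne.symm h2)] at hd1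
        exact orderOf_eq_one_iff.mp (Nat.dvd_one.mp hd1)
    · have hx0 : x.toAdd = 0 := by
        have : ((a₀ : F) * a₀ - 1) * x.toAdd = 0 := by linear_combination hfix
        exact (mul_eq_zero.mp this).resolve_left (sub_ne_zero.mpr ha)
      have hgk : (g : Γ) ∈ σ.ker := by
        rw [MonoidHom.mem_ker, hgσ, show x = 1 from Multiplicative.toAdd.injective (by rw [hx0, toAdd_one]), map_one]
      change ⁅h₀, (g : Γ)⁆ = 1
      rw [commutatorElement_eq_one_iff_mul_comm]
      exact cen _ hgk h₀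
  set S : Set Γ := (U : Set Γ) ∪ {h₀} with hS
  have hM : (borel (F := F)).comap σ ≤ Subgroup.closure S := by
    intro g hg
    obtain ⟨a, x, hax⟩ := eq_dg_ut hg
    obtain ⟨j, hj⟩ := Subgroup.mem_zpowers_iff.mp (ha₀ a)
    have hmem : (h₀ ^ j)⁻¹ * g ∈ U := ⟨Multiplicative.ofAdd x, by
      rw [map_mul, map_inv, map_zpow, hd, hax, ← map_zpow, hj, inv_mul_cancel_left]⟩
    have := mul_mem (zpow_mem (Subgroup.subset_closure (Or.inr rfl) : h₀ ∈ Subgroup.closure S) j)
      (Subgroup.subset_closure (Or.inl hmem))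
    rwa [mul_inv_cancel_left] at this
  have hI : ⁅Subgroup.closure S, Subgroup.closure S⁆ ≤ δ.range := by
    refine commutator_closure_le S _ ?_ ?_
    · have hconjI : ∀ y ∈ δ.range, h₀ * y * h₀⁻¹ ∈ δ.range := by
        rintro _ ⟨g, rfl⟩
        refine ⟨⟨_, hUconj g g.2⟩, ?_⟩
        change ⁅h₀, h₀ * (g : Γ) * h₀⁻¹⁆ = h₀ * ⁅h₀, (g : Γ)⁆ * h₀⁻¹
        simp only [commutatorElement_def]; group
      intro s hs
      rcases hs with hs | hs
      · rw [Subgroup.mem_normalizer_iff]
        intro y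
        constructor
        · rintro ⟨g, rfl⟩
          exact ⟨g, by change ⁅h₀, (g : Γ)⁆ = s * ⁅h₀, (g : Γ)⁆ * s⁻¹; rw [hUc s hs _ (hδU g g.2), mul_inv_cancel_right]⟩
        · rintro ⟨g, hg⟩
          refine ⟨g, hg.trans ?_⟩
          have hyU : y ∈ U := by
            have hy : y = s⁻¹ * δ g * s := by rw [hg]; group
            rw [hy]
            exact mul_mem (mul_mem (inv_mem hs) (hδU g g.2)) hs
          rw [hUc s hs y hyU, mul_inv_cancel_right]
      · rw [Set.mem_singleton_iff.mp hs]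
        have hle : δ.range.map (MulAut.conj h₀).toMonoidHom ≤ δ.range := by
          rintro _ ⟨y, hy, rfl⟩; exact hconjI y hy
        have heq := Subgroup.eq_of_le_of_card_ge hle (le_of_eq (Nat.card_congr
          ((δ.range.equivMapOfInjective _ (MulAut.conj h₀).injective).toEquiv)))
        rw [Subgroup.mem_normalizer_iff]
        intro y
        refine ⟨hconjI y, fun hy => ?_⟩
        rw [← heq] at hy
        obtain ⟨y', hy', e⟩ := hy
        change h₀ * y' * h₀⁻¹ = h₀ * y * h₀⁻¹ at e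
        rwa [← mul_left_cancel (mul_right_cancel e)]
    · intro s hs u hu
      rcases hs with hs | hs <;> rcases hu with hu | hu
      · rw [commutatorElement_eq_one_iff_mul_comm.mpr (hUc s hs u hu)]; exact one_mem _
      · rw [Set.mem_singleton_iff.mp hu, ← commutatorElement_inv]
        exact inv_mem ⟨⟨s, hs⟩, rfl⟩
      · rw [Set.mem_singleton_iff.mp hs]; exact ⟨⟨u, hu⟩, rfl⟩
      · rw [Set.mem_singleton_iff.mp hs, Set.mem_singleton_iff.mp hu, commutatorElement_self]; exact one_mem _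
  intro y hy hyM
  obtain ⟨g, rfl⟩ := hI (Subgroup.commutator_mono hM hM hyM)
  exact hδker g hy

theorem stem_sl2_trivial (h4 : Fintype.card F ≠ 4) (h9 : Fintype.card F ≠ 9)
    (hσ : Cfsg.IsStemExtension σ) : σ.ker = ⊥ := by
  rw [Subgroup.eq_bot_iff_forall]
  intro z hz
  obtain ⟨i, hi, hzi⟩ := split_torus hσ
  obtain ⟨j, hj, hzj⟩ := nonsplit_torus hσ
  have hB := orderOf_dvd_of_pow_eq_one (borel_kill h4 h9 hσ z hz)
  have h1 := (Nat.mul_dvd_mul_left 2 (orderOf_dvd_of_pow_eq_one (hzi z hz))).trans hi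
  have h2 := (Nat.mul_dvd_mul_left 2 (orderOf_dvd_of_pow_eq_one (hzj z hz))).trans hj
  have h3 := Nat.dvd_sub h1 h2
  have hq : 1 ≤ Fintype.card F := Fintype.card_pos
  rw [← Nat.mul_sub, show Fintype.card F + 1 - (Fintype.card F - 1) = 2 by omega, mul_comm (Fintype.card F) 2] at h3
  have h4' : orderOf z ∣ Fintype.card F := Nat.dvd_of_mul_dvd_mul_left (by norm_num) h3
  have h5 := Nat.dvd_sub hB h4'
  rw [Nat.add_sub_cancel_left, Nat.dvd_one, orderOf_eq_one_iff] at h5
  exact h5

end CfsgLib.KnownA.SL2Stem
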