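import Cfsg.Agent.Lib.Coprime.SchurAbelian

/-!
A stem extension by a group with trivial multiplier computes the multiplier of the quotient.
-/

set_option autoImplicit false

namespace CfsgLib.KnownA

open Subgroup

universe u v

/-- If `τ : X → G` is a stem extension and `X` has no non-trivial stem extensions, the multiplier
of `G` is the kernel of `τ`. -/
theorem hasCyclicSchurMultiplier_of_cover {G : Type u} [Group G] [Finite G] {X : Type v} [Group X]
    [Finite X] {τ : X →* G} (hτ : Cfsg.IsStemExtension τ) (n : ℕ) (hcard : Nat.card τ.ker = n)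
    (hcyc : IsCyclic τ.ker) (hX : Cfsg.HasCyclicSchurMultiplier X 1) :
    Cfsg.HasCyclicSchurMultiplier G n := by
  obtain ⟨Γ, _, _, σ, hσ, ⟨e⟩, β, hβ, hcomp⟩ := CfsgLib.Schur.exists_cover_over hτ
  have hle : β.ker ≤ σ.ker := fun x hx => by
    rw [MonoidHom.mem_ker, ← hcomp, MonoidHom.comp_apply, MonoidHom.mem_ker.mp hx, map_one]
  have hstem : Cfsg.IsStemExtension β := ⟨hβ, hle.trans hσ.2.1, hle.trans hσ.2.2⟩
  have hinj : Function.Injective β :=
    (MonoidHom.ker_eq_bot_iff β).1 (CfsgLib.Schur.ker_eq_bot_of_cyclic_one hX hstem)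
  have hmap : σ.ker.map β = τ.ker := by
    rw [← hcomp, ← MonoidHom.comap_ker, Subgroup.map_comap_eq_self_of_surjective hβ]
  let f : σ.ker ≃* τ.ker := (σ.ker.equivMapOfInjective β hinj).trans (MulEquiv.subgroupCongr hmap)
  refine CfsgLib.Schur.hasCyclicSchurMultiplier_iff.mpr ⟨(e.symm.trans f).isCyclic.mpr hcyc, ?_⟩
  rw [Nat.card_congr (e.symm.trans f).toEquiv, hcard]

end CfsgLib.KnownA
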