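import Cfsg.Agent.Lib.KnownA.CExt.Pair
import Cfsg.Agent.Lib.KnownB.SLnSteinberg
import Cfsg.Prelude.Def_KGroupFacts

/-!
`SL_n` has no proper stem extensions, `n ≥ 3`, apart from small exceptions.
-/

set_option autoImplicit false
set_option linter.unusedSectionVars false

namespace CfsgLib.KnownA.SLStem

open Matrix CfsgLib.KnownA.CExt
open scoped commutatorElement

variable {n : ℕ} {F : Type*} [Field F] [Fintype F]

/-- Elementary transvections, with junk value on the diagonal. -/
def tv (i j : Fin n) (t : F) : Matrix.SpecialLinearGroup (Fin n) F :=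
  if h : i ≠ j then Matrix.SpecialLinearGroup.transvection h t else 1

theorem tv_eq {i j : Fin n} (h : i ≠ j) (t : F) :
    tv i j t = Matrix.SpecialLinearGroup.transvection h t := dif_pos h

theorem tv_val {i j : Fin n} (h : i ≠ j) (t : F) :
    (tv i j t : Matrix (Fin n) (Fin n) F) = Matrix.transvection i j t := by
  rw [tv_eq h]; rfl

theorem tv_add {i j : Fin n} (h : i ≠ j) (t u : F) : tv i j t * tv i j u = tv i j (t + u) := by
  simp only [tv_eq h]
  exact Subtype.ext (Matrix.transvection_mul_transvection_same i j h t u)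

theorem tv_zero {i j : Fin n} (h : i ≠ j) : tv i j (0 : F) = 1 := by
  have := tv_add h (0 : F) 0
  rwa [add_zero, mul_eq_left] at this

theorem tv_comm {i j k l : Fin n} (h1 : i ≠ j) (h2 : k ≠ l) (h3 : i ≠ l) (h4 : j ≠ k) (t u : F) :
    tv i j t * tv k l u = tv k l u * tv i j t := by
  refine Subtype.ext ?_
  simp only [Matrix.SpecialLinearGroup.coe_mul, tv_val h1, tv_val h2]
  simp [Matrix.transvection, mul_add, add_mul, h3.symm, h4, Matrix.single_mul_single_of_ne, add_assoc,
    add_left_comm, add_comm]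

theorem tv_commutator {i j k : Fin n} (h1 : i ≠ j) (h2 : j ≠ k) (h3 : i ≠ k) (t u : F) :
    ⁅tv i j t, tv j k u⁆ = tv i k (t * u) := by
  simp only [tv_eq h1, tv_eq h2, tv_eq h3]
  exact CfsgLib.Classical.commutator_transvection_transvection h1 h2 h3 t u

/-- Diagonal elements. -/
def tor (d : Fin n → F) (hd : ∏ i, d i = 1) : Matrix.SpecialLinearGroup (Fin n) F :=
  ⟨Matrix.diagonal d, by rw [Matrix.det_diagonal, hd]⟩

theorem tor_val (d : Fin n → F) (hd : ∏ i, d i = 1) :
    (tor d hd : Matrix (Fin n) (Fin n) F) = Matrix.diagonal d := rfl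

theorem tor_conj (d : Fin n → F) (hd : ∏ i, d i = 1) {i j : Fin n} (h : i ≠ j) (t : F) :
    tor d hd * tv i j t * (tor d hd)⁻¹ = tv i j (d i / d j * t) := by
  have hj : d j ≠ 0 := fun e => one_ne_zero (hd.symm.trans (Finset.prod_eq_zero (Finset.mem_univ j) e))
  rw [mul_inv_eq_iff_eq_mul]
  refine Subtype.ext ?_
  simp only [Matrix.SpecialLinearGroup.coe_mul, tv_val h, tor_val]
  ext a b
  simp only [Matrix.diagonal_mul, Matrix.mul_diagonal, Matrix.transvection, Matrix.add_apply,
    Matrix.one_apply, Matrix.single_apply]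
  by_cases hab : a = b
  · subst hab
    rw [if_pos rfl, if_neg (fun e => h (e.1.trans e.2.symm)), if_neg (fun e => h (e.1.trans e.2.symm))]
    simp
  · simp only [if_neg hab, zero_add]
    split_ifs with e
    · rw [← e.1, ← e.2]; field_simp
    · simp

theorem exists_tor_two {k l : Fin n} (hkl : k ≠ l) {c : F} (hc : c ≠ 0) :
    ∃ (d : Fin n → F) (_ : ∏ i, d i = 1), d k = c ∧ d l = c⁻¹ ∧ ∀ m, m ≠ k → m ≠ l → d m = 1 := by
  refine ⟨fun m => if m = k then c else if m = l then c⁻¹ else 1, ?_, by simp, by simp [hkl.symm],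
    fun m a b => by simp [a, b]⟩
  rw [← Finset.prod_subset (Finset.subset_univ {k, l}) (fun m _ hm => ?_)]
  · rw [Finset.prod_pair hkl]; simp [hkl.symm, hc]
  · simp only [Finset.mem_insert, Finset.mem_singleton, not_or] at hm
    simp [hm.1, hm.2]

variable {E : Type*} [Group E] {π : E →* Matrix.SpecialLinearGroup (Fin n) F} (hπ : IsCentralSurj π)
include hπ

/-- The pairing is invariant under conjugation on commuting pairs. -/
theorem cpair_conj_invariant (h a b : Matrix.SpecialLinearGroup (Fin n) F) (hab : a * b = b * a) :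
    cpair hπ (h * a * h⁻¹) (h * b * h⁻¹) = cpair hπ a b := by
  obtain ⟨x, rfl⟩ := hπ.surj h
  rw [← conj_cpair, hπ.conj_ker (cpair_mem_ker hπ hab)]

theorem exists_pow_three_ne (h2 : Fintype.card F ≠ 2) (h4 : Fintype.card F ≠ 4) :
    ∃ a : F, a ≠ 0 ∧ a ^ 3 ≠ 1 := by
  obtain ⟨g, hg⟩ := IsCyclic.exists_generator (α := Fˣ)
  refine ⟨(g : F), g.ne_zero, fun h => ?_⟩
  have h' : g ^ 3 = 1 := Units.ext (by simpa using h)
  have hd : orderOf g ∣ 3 := orderOf_dvd_of_pow_eq_one h'
  rw [orderOf_eq_card_of_forall_mem_zpowers hg, Nat.card_units, Nat.card_eq_fintype_card] at hd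
  have := Fintype.one_lt_card (α := F)
  rcases (Nat.dvd_prime Nat.prime_three).1 hd with e | e <;> omega

/-- Lifts of commuting root elements commute. -/
theorem cpair_tv (hn : 3 ≤ n) (hq : Fintype.card F = 2 → 5 ≤ n) (hq4 : Fintype.card F = 4 → 4 ≤ n)
    {i j k l : Fin n} (h1 : i ≠ j) (h2 : k ≠ l) (h3 : i ≠ l) (h4 : j ≠ k) (t u : F) :
    cpair hπ (tv i j t) (tv k l u) = 1 := by
  classical
  have comm : ∀ t u : F, tv i j t * tv k l u = tv k l u * tv i j t := tv_comm h1 h2 h3 h4
  by_cases hex : ∃ p, p ≠ i ∧ p ≠ j ∧ p ≠ k ∧ p ≠ l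
  · obtain ⟨p, pi, pj, pk, pl⟩ := hex
    rw [← mul_one u, ← tv_commutator pk.symm pl h2 u 1]
    exact cpair_commutator hπ (tv_comm h1 pk.symm pi.symm h4 t u) (tv_comm h1 pl h3 pj.symm t 1)
  simp only [not_exists, not_and, not_not] at hex
  have addR : ∀ t u u', cpair hπ (tv i j t) (tv k l (u + u')) =
      cpair hπ (tv i j t) (tv k l u) * cpair hπ (tv i j t) (tv k l u') := fun t u u' => by
    rw [← tv_add h2, cpair_mul_right_of_comm hπ (comm t u')]
  have addL : ∀ t t' u, cpair hπ (tv i j (t + t')) (tv k l u) =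
      cpair hπ (tv i j t) (tv k l u) * cpair hπ (tv i j t') (tv k l u) := fun t t' u => by
    rw [← tv_add h1, cpair_mul_left_of_comm hπ (comm t u) (comm t' u)]
  -- a torus fixing `e_ij` and moving `e_kl`
  have finish : ∀ (d : Fin n → F) (hd : ∏ m, d m = 1), d i = d j → d k ≠ d l →
      cpair hπ (tv i j t) (tv k l u) = 1 := by
    intro d hd he hne
    have hl : d l ≠ 0 := fun e => one_ne_zero (hd.symm.trans (Finset.prod_eq_zero (Finset.mem_univ l) e))
    have hj : d j ≠ 0 := fun e => one_ne_zero (hd.symm.trans (Finset.prod_eq_zero (Finset.mem_univ j) e))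
    have hb : d k / d l - 1 ≠ 0 := by rwa [sub_ne_zero, ne_eq, div_eq_one_iff_eq hl]
    have key : ∀ v, cpair hπ (tv i j t) (tv k l ((d k / d l - 1) * v)) = 1 := fun v => by
      have e := cpair_conj_invariant hπ (tor d hd) _ _ (comm t v)
      rw [tor_conj d hd h1, tor_conj d hd h2, he, div_self hj, one_mul,
        show d k / d l * v = (d k / d l - 1) * v + v by ring, addR] at e
      exact mul_eq_right.1 e
    have := key (u / (d k / d l - 1))
    rwa [mul_div_cancel₀ _ hb] at this
  by_cases hik : i = k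
  · subst hik
    have hjl : j = l ∨ j ≠ l := eq_or_ne j l
    rcases hjl with rfl | hjl
    · exfalso
      have hsub : (Finset.univ : Finset (Fin n)) ⊆ {i, j} := fun p _ => by
        simp only [Finset.mem_insert, Finset.mem_singleton]
        by_contra hp
        rw [not_or] at hp
        exact hp.2 (hex p hp.1 hp.2 hp.1)
      have := (Finset.card_le_card hsub).trans Finset.card_le_two
      rw [Finset.card_univ, Fintype.card_fin] at this
      omega
    have huniv : (Finset.univ : Finset (Fin n)) = {i, j, l} :=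
      Finset.eq_of_subset_of_card_le (fun p _ => by
        simp only [Finset.mem_insert, Finset.mem_singleton]
        by_contra hp
        simp only [not_or] at hp
        exact hp.2.2 (hex p hp.1 hp.2.1 hp.1)) (Finset.card_le_univ _)
    have hn3 : n = 3 := by
      have := congrArg Finset.card huniv
      rw [Finset.card_univ, Fintype.card_fin, Finset.card_insert_of_notMem (by simp [h1, h3]),
        Finset.card_pair hjl] at this
      omega
    obtain ⟨a, ha, ha3⟩ := exists_pow_three_ne hπ (fun e => absurd (hq e) (by omega))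
      (fun e => absurd (hq4 e) (by omega))
    refine finish (fun m => if m = l then (a⁻¹) ^ 2 else a) ?_ (by simp [h3, hjl]) ?_
    · rw [huniv, Finset.prod_insert (by simp [h1, h3]), Finset.prod_pair hjl]
      simp [h3, hjl]; field_simp
    · simp only [if_neg h3, if_true]
      intro e
      apply ha3
      field_simp at e
      linear_combination e
  by_cases hjl : j = l
  · subst hjl
    have huniv : (Finset.univ : Finset (Fin n)) = {i, j, k} :=
      Finset.eq_of_subset_of_card_le (fun p _ => by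
        simp only [Finset.mem_insert, Finset.mem_singleton]
        by_contra hp
        simp only [not_or] at hp
        exact hp.2.1 (hex p hp.1 hp.2.1 hp.2.2)) (Finset.card_le_univ _)
    have hn3 : n = 3 := by
      have := congrArg Finset.card huniv
      rw [Finset.card_univ, Fintype.card_fin, Finset.card_insert_of_notMem (by simp [h1, hik]),
        Finset.card_pair h4] at this
      omega
    obtain ⟨a, ha, ha3⟩ := exists_pow_three_ne hπ (fun e => absurd (hq e) (by omega))
      (fun e => absurd (hq4 e) (by omega))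
    refine finish (fun m => if m = k then (a⁻¹) ^ 2 else a) ?_ (by simp [hik, h4]) ?_
    · rw [huniv, Finset.prod_insert (by simp [h1, hik]), Finset.prod_pair h4]
      simp [hik, h4]; field_simp
    · simp only [if_true, if_neg h4]
      intro e
      apply ha3
      field_simp at e
      linear_combination -e
  -- four distinct indices
  have huniv : (Finset.univ : Finset (Fin n)) = {i, j, k, l} :=
    Finset.eq_of_subset_of_card_le (fun p _ => by
      simp only [Finset.mem_insert, Finset.mem_singleton]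
      by_contra hp
      simp only [not_or] at hp
      exact hp.2.2.2 (hex p hp.1 hp.2.1 hp.2.2.1)) (Finset.card_le_univ _)
  have hn4 : n = 4 := by
    have := congrArg Finset.card huniv
    rw [Finset.card_univ, Fintype.card_fin, Finset.card_insert_of_notMem (by simp [h1, hik, h3]),
      Finset.card_insert_of_notMem (by simp [h4, hjl]), Finset.card_pair h2] at this
    omega
  by_cases hsq : ∃ c : F, c ≠ 0 ∧ c ^ 2 ≠ 1
  · obtain ⟨c, hc, hc2⟩ := hsq
    obtain ⟨d, hd, dk, dl, d1⟩ := exists_tor_two (n := n) h2 hc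
    refine finish d hd (by rw [d1 i hik h3, d1 j h4 hjl]) ?_
    rw [dk, dl]
    intro e
    apply hc2
    field_simp at e
    linear_combination e
  simp only [not_exists, not_and, not_not] at hsq
  -- three elements: antisymmetry
  have hpm : ∀ c : F, c = 0 ∨ c = 1 ∨ c = -1 := fun c => by
    by_cases hc : c = 0
    · exact Or.inl hc
    · exact Or.inr (sq_eq_one_iff.1 (hsq c hc))
  have hne : (-1 : F) ≠ 1 := by
    intro e
    have hsub : (Finset.univ : Finset F) ⊆ {0, 1} := fun c _ => by
      rcases hpm c with h | h | h <;> simp [h, e]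
    have := (Finset.card_le_card hsub).trans Finset.card_le_two
    rw [Finset.card_univ] at this
    exact absurd (hq (by have := Fintype.one_lt_card (α := F); omega)) (by omega)
  have h30 : (3 : F) = 0 := by
    have h20 : (2 : F) ≠ 0 := fun e => hne (by linear_combination -e)
    rcases hpm 2 with h | h | h
    · exact absurd h h20
    · exact absurd (show (1 : F) = 0 by linear_combination h) one_ne_zero
    · linear_combination h
  -- the index swap
  let σ : Equiv.Perm (Fin n) := Equiv.swap i k * Equiv.swap j l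
  have hs : Equiv.Perm.sign σ = 1 := by
    rw [map_mul, Equiv.Perm.sign_swap hik, Equiv.Perm.sign_swap hjl]; rfl
  let w : Matrix.SpecialLinearGroup (Fin n) F :=
    ⟨σ.permMatrix F, by rw [Matrix.det_permutation, hs]; simp⟩
  have hw : ∀ {a b : Fin n} (hab : a ≠ b) (s : F), w * tv (σ a) (σ b) s * w⁻¹ = tv a b s := by
    intro a b hab s
    rw [mul_inv_eq_iff_eq_mul]
    refine Subtype.ext ?_
    show (σ.toPEquiv.toMatrix : Matrix (Fin n) (Fin n) F) * (tv (σ a) (σ b) s : Matrix (Fin n) (Fin n) F) =
      (tv a b s : Matrix (Fin n) (Fin n) F) * σ.toPEquiv.toMatrix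
    rw [tv_val (σ.injective.ne hab), tv_val hab]
    rw [PEquiv.toMatrix_toPEquiv_mul, PEquiv.mul_toMatrix_toPEquiv]
    ext p r
    simp [Matrix.transvection, Matrix.one_apply, Matrix.single_apply, Equiv.eq_symm_apply]
  have σi : σ i = k := by
    simp only [σ, Equiv.Perm.mul_apply]
    rw [Equiv.swap_apply_of_ne_of_ne h1 h3, Equiv.swap_apply_left]
  have σj : σ j = l := by
    simp only [σ, Equiv.Perm.mul_apply]
    rw [Equiv.swap_apply_left, Equiv.swap_apply_of_ne_of_ne h3.symm h2.symm]
  have σk : σ k = i := by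
    simp only [σ, Equiv.Perm.mul_apply]
    rw [Equiv.swap_apply_of_ne_of_ne h4.symm h2, Equiv.swap_apply_right]
  have σl : σ l = j := by
    simp only [σ, Equiv.Perm.mul_apply]
    rw [Equiv.swap_apply_right, Equiv.swap_apply_of_ne_of_ne h1.symm h4]
  set P := cpair hπ (tv i j 1) (tv k l 1) with hP
  have hP1 : P = 1 := by
    have e1 : P = cpair hπ (tv k l 1) (tv i j (1 : F)) := by
      have e := cpair_conj_invariant hπ w _ _ (comm 1 1)
      have a := hw h2 (1 : F)
      have b := hw h1 (1 : F)
      rw [σk, σl] at a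
      rw [σi, σj] at b
      rw [a, b] at e
      exact e.symm
    rw [cpair_swap hπ (tv i j 1) (tv k l 1)] at e1
    have p2 : P * P = 1 := by
      calc P * P = P * P⁻¹ := by nth_rewrite 2 [e1]; rfl
        _ = 1 := mul_inv_cancel _
    have p3 : P * P * P = 1 := by
      rw [hP, ← addR, ← addR, show (1 : F) + 1 + 1 = 0 by linear_combination h30, tv_zero h2,
        cpair_one_right]
    rwa [p2, one_mul] at p3
  have hone : ∀ u, cpair hπ (tv i j 1) (tv k l u) = 1 := fun u => by
    rcases hpm u with rfl | rfl | rfl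
    · rw [tv_zero h2, cpair_one_right]
    · exact hP1
    · have := addR 1 1 (-1)
      rw [add_neg_cancel, tv_zero h2, cpair_one_right, ← hP, hP1, one_mul] at this
      exact this.symm
  rcases hpm t with rfl | rfl | rfl
  · rw [tv_zero h1, cpair_one_left]
  · exact hone u
  · have := addL 1 (-1) u
    rw [add_neg_cancel, tv_zero h1, cpair_one_left, hone, one_mul] at this
    exact this.symm

/-- `SL_n` is centrally closed once lifts of commuting root elements commute. -/
theorem stem_sl_trivial_of_comm [Finite E] (hn : 3 ≤ n)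
    (h3 : n = 3 → Fintype.card F ≠ 2 ∧ Fintype.card F ≠ 4)
    (hcp : ∀ {i j k l : Fin n}, i ≠ j → k ≠ l → i ≠ l → j ≠ k → ∀ t u : F,
      cpair hπ (tv i j t) (tv k l u) = 1) (hcomm : π.ker ≤ commutator E) : π.ker = ⊥ := by
  classical
  have third : ∀ a b : Fin n, ∃ k : Fin n, k ≠ a ∧ k ≠ b := fun a b => by
    have h : ({a, b} : Finset (Fin n))ᶜ.Nonempty := Finset.card_pos.1 (by
      rw [Finset.card_compl, Fintype.card_fin]
      have := Finset.card_le_two (a := a) (b := b)
      omega)
    obtain ⟨k, hk⟩ := h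
    simp only [Finset.mem_compl, Finset.mem_insert, Finset.mem_singleton, not_or] at hk
    exact ⟨k, hk⟩
  let Y : Fin n → Fin n → Fin n → F → F → E := fun k i j t u => cpair hπ (tv i k t) (tv k j u)
  have hY : ∀ {i j k}, i ≠ j → k ≠ i → k ≠ j → ∀ t u, π (Y k i j t u) = tv i j (t * u) :=
    fun hij hki hkj t u => by
      simp only [Y]; rw [map_cpair, tv_commutator hki.symm hkj hij]
  have commY : ∀ {i j k}, i ≠ j → k ≠ i → k ≠ j → ∀ {a b : Fin n}, a ≠ b → a ≠ j → b ≠ i →
      ∀ t u (s : F) (e : E), π e = tv a b s → e * Y k i j t u = Y k i j t u * e :=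
    fun {i j k} hij hki hkj {a b} hab haj hbi t u s e he =>
      lift_comm hπ (hcp hab hij haj hbi s (t * u)) he (hY hij hki hkj t u)
  have addR : ∀ {i j k}, i ≠ j → k ≠ i → k ≠ j → ∀ t u u',
      Y k i j t (u + u') = Y k i j t u * Y k i j t u' := fun {i j k} hij hki hkj t u u' => by
    obtain ⟨y, hy⟩ := hπ.surj (tv k j u)
    simp only [Y]
    rw [← tv_add hkj, cpair_mul_right hπ _ _ _ hy,
      commY hij hki hkj hkj hkj hij.symm t u' u y hy, mul_inv_cancel_right]
  have addL : ∀ {i j k}, i ≠ j → k ≠ i → k ≠ j → ∀ t t' u,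
      Y k i j (t + t') u = Y k i j t u * Y k i j t' u := fun {i j k} hij hki hkj t t' u => by
    obtain ⟨x, hx⟩ := hπ.surj (tv i k t)
    have e : Y k i j (t + t') u = Y k i j t' u * Y k i j t u := by
      simp only [Y]
      rw [← tv_add hki.symm, cpair_mul_left hπ _ _ _ hx,
        commY hij hki hkj hki.symm hij hki t' u t x hx, mul_inv_cancel_right]
    rw [e]
    exact commY hij hki hkj hij hij hij.symm t u (t' * u) _ (hY hij hki hkj t' u)
  -- a single product variable
  have prod1 : ∀ {i j k}, i ≠ j → k ≠ i → k ≠ j → ∀ t u, Y k i j t u = Y k i j (t * u) 1 := by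
    intro i j k hij hki hkj t u
    by_cases hq2 : Fintype.card F = 2
    · have hsub : ∀ c : F, c = 0 ∨ c = 1 := fun c => by
        by_contra h
        rw [not_or] at h
        have hle : ({0, 1, c} : Finset F).card ≤ 2 := hq2 ▸ Finset.card_le_univ _
        rw [Finset.card_insert_of_notMem (by simp [Ne.symm h.1]), Finset.card_pair (Ne.symm h.2)] at hle
        omega
      rcases hsub u with rfl | rfl
      · simp only [mul_zero, Y, tv_zero hkj, tv_zero hki.symm, cpair_one_left, cpair_one_right]
      · rw [mul_one]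
    obtain ⟨d, hd, hkj', hik'⟩ : ∃ (d : Fin n → F) (_ : ∏ m, d m = 1), d k = d j ∧ d i ≠ d k := by
      rcases Nat.lt_or_ge n 4 with h4 | h4
      · obtain ⟨a, ha, ha3⟩ := exists_pow_three_ne hπ (h3 (by omega)).1
          (h3 (by omega)).2
        have huniv : (Finset.univ : Finset (Fin n)) = {i, j, k} :=
          (Finset.eq_of_subset_of_card_le (Finset.subset_univ _) (by
            rw [Finset.card_univ, Fintype.card_fin, Finset.card_insert_of_notMem (by simp [hij, hki.symm]),
              Finset.card_pair hkj.symm]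
            omega)).symm
        refine ⟨fun m => if m = i then (a⁻¹) ^ 2 else a, ?_, by simp [hki, hij.symm], ?_⟩
        · rw [huniv, Finset.prod_insert (by simp [hij, hki.symm]), Finset.prod_pair hkj.symm]
          simp [hij.symm, hki]; field_simp
        · simp only [if_true, if_neg hki]
          intro e
          apply ha3
          field_simp at e
          linear_combination -e
      · obtain ⟨l, hl⟩ := Finset.card_pos.1 (show 0 < ({i, j, k} : Finset (Fin n))ᶜ.card by
          rw [Finset.card_compl, Fintype.card_fin]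
          have := Finset.card_le_three (a := i) (b := j) (c := k)
          omega)
        simp only [Finset.mem_compl, Finset.mem_insert, Finset.mem_singleton, not_or] at hl
        obtain ⟨c, hc, hc1⟩ : ∃ c : F, c ≠ 0 ∧ c ≠ 1 := by
          by_contra h
          simp only [not_exists, not_and, not_not] at h
          have hsub : (Finset.univ : Finset F) ⊆ {0, 1} := fun c _ => by
            by_cases hc : c = 0
            · simp [hc]
            · simp [h c hc]
          have := (Finset.card_le_card hsub).trans Finset.card_le_two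
          rw [Finset.card_univ] at this
          have := Fintype.one_lt_card (α := F)
          omega
        obtain ⟨d, hd, di, dl, d1⟩ := exists_tor_two (n := n) (Ne.symm hl.1) hc
        exact ⟨d, hd, by rw [d1 k hki (Ne.symm hl.2.2), d1 j hij.symm (Ne.symm hl.2.1)],
          by rw [di, d1 k hki (Ne.symm hl.2.2)]; exact hc1⟩
    have hj : d j ≠ 0 := fun e => one_ne_zero (hd.symm.trans (Finset.prod_eq_zero (Finset.mem_univ j) e))
    set α := d i / d k with hα
    obtain ⟨H, hH⟩ := hπ.surj (tor d hd)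
    have hconj : ∀ t u, H * Y k i j t u * H⁻¹ = Y k i j (α * t) u := fun t u => by
      simp only [Y]
      rw [conj_cpair, hH, tor_conj d hd hki.symm, tor_conj d hd hkj, ← hα, hkj', div_self hj, one_mul]
    let g : F → E := fun t => Y k i j t u * (Y k i j (t * u) 1)⁻¹
    have hg : ∀ t, g t ∈ π.ker := fun t => by
      simp only [g, MonoidHom.mem_ker, map_mul, map_inv, hY hij hki hkj, mul_one, mul_inv_cancel]
    have hgα : ∀ t, g (α * t) = g t := fun t => by
      simp only [g]
      refine Eq.trans ?_ (hπ.conj_ker (hg t) H)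
      simp only [g]
      rw [show α * t * u = α * (t * u) by ring, ← hconj, ← hconj]
      group
    have hgadd : ∀ t t', g (t + t') = g t * g t' := fun t t' => by
      simp only [g]
      rw [addL hij hki hkj, add_mul, addL hij hki hkj, _root_.mul_inv_rev]
      have := hπ.comm (hg t') (Y k i j t u)
      have h2 := hπ.comm (hg t') ((Y k i j (t * u) 1)⁻¹)
      calc Y k i j t u * Y k i j t' u * ((Y k i j (t' * u) 1)⁻¹ * (Y k i j (t * u) 1)⁻¹)
          = Y k i j t u * (g t' * (Y k i j (t * u) 1)⁻¹) := by simp only [g]; group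
        _ = _ := by rw [← h2]; simp only [g]; group
    have hα1 : α - 1 ≠ 0 := by
      rw [hα, sub_ne_zero, ne_eq, div_eq_one_iff_eq (hkj' ▸ hj)]
      exact hik'
    have : g t = 1 := by
      have e := hgα (t / (α - 1))
      rw [show α * (t / (α - 1)) = t + t / (α - 1) by field_simp; ring, hgadd, mul_eq_right] at e
      exact e
    exact mul_inv_eq_one.1 this
  -- the middle index does not matter
  have indep : ∀ {i j k l}, i ≠ j → k ≠ i → k ≠ j → l ≠ i → l ≠ j → k ≠ l → ∀ a c,
      Y l i j a c = Y k i j a c := by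
    intro i j k l hij hki hkj hli hlj hkl a c
    obtain ⟨x, hx⟩ := hπ.surj (tv i l a)
    obtain ⟨y, hy⟩ := hπ.surj (tv l k 1)
    obtain ⟨z, hz⟩ := hπ.surj (tv k j c)
    have hxy : π ⁅x, y⁆ = tv i k a := by
      rw [map_commutatorElement, hx, hy, tv_commutator hli.symm hkl.symm hki.symm, mul_one]
    have hyz : π ⁅y, z⁆ = tv l j c := by
      rw [map_commutatorElement, hy, hz, tv_commutator hkl.symm hkj hlj, one_mul]
    have e1 : Y l i j a c = ⁅x, ⁅y, z⁆⁆ := cpair_eq hπ hx hyz
    have e2 : Y k i j a c = ⁅⁅x, y⁆, z⁆ := cpair_eq hπ hxy hz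
    have cxz : x * z = z * x := lift_comm hπ (hcp hli.symm hkj hij hkl.symm a c) hx hz
    have cuv : ⁅x, y⁆ * ⁅y, z⁆ = ⁅y, z⁆ * ⁅x, y⁆ :=
      lift_comm hπ (hcp hki.symm hlj hij hkl a c) hxy hyz
    have cwv : ⁅⁅x, y⁆, z⁆ * ⁅y, z⁆ = ⁅y, z⁆ * ⁅⁅x, y⁆, z⁆ := by
      rw [← e2]
      exact (commY hij hki hkj hlj hlj hij.symm a c c _ hyz).symm
    have h1 : ⁅x, ⁅y, z⁆⁆ * ⁅y, z⁆ = x * ⁅y, z⁆ * x⁻¹ := by simp only [commutatorElement_def]; group
    have h2 : x * ⁅y, z⁆ * x⁻¹ = ⁅⁅x, y⁆ * y, z⁆ := by
      have hz' : x * z * x⁻¹ = z := by rw [cxz, mul_inv_cancel_right]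
      calc x * ⁅y, z⁆ * x⁻¹ = ⁅x * y * x⁻¹, x * z * x⁻¹⁆ := by simp only [commutatorElement_def]; group
        _ = ⁅⁅x, y⁆ * y, z⁆ := by rw [hz']; simp only [commutatorElement_def]; group
    have h3 : ⁅⁅x, y⁆ * y, z⁆ = ⁅x, y⁆ * ⁅y, z⁆ * ⁅x, y⁆⁻¹ * ⁅⁅x, y⁆, z⁆ := by
      simp only [commutatorElement_def]; group
    rw [e1, e2]
    apply mul_right_cancel (b := ⁅y, z⁆)
    rw [h1, h2, h3, cuv, mul_inv_cancel_right, cwv]
  choose κ hκ1 hκ2 using third
  let X : Fin n → Fin n → F → E := fun i j t => Y (κ i j) i j t 1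
  have hπX : ∀ {i j}, i ≠ j → ∀ t, π (X i j t) = tv i j t := fun {i j} hij t => by
    simp only [X]; rw [hY hij (hκ1 i j) (hκ2 i j), mul_one]
  have R : CfsgLib.KnownB.SLnSt.Fam X :=
    { add := fun i j hij t u => (addL hij (hκ1 i j) (hκ2 i j) t u 1).symm
      comm0 := fun i j k l a b c d t u => by
        rw [← commutatorElement_def, commutatorElement_eq_one_iff_mul_comm]
        exact lift_comm hπ (hcp a b c d t u) (hπX a t) (hπX b u)
      comm1 := fun i j k a b c t u => by
        rw [← commutatorElement_def, ← cpair_eq hπ (hπX a t) (hπX b u)]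
        show Y j i k t u = X i k (t * u)
        rw [prod1 c a.symm b]
        rcases eq_or_ne (κ i k) j with e | e
        · simp only [X, e]
        · exact indep c (hκ1 i k) (hκ2 i k) a.symm b e _ _ }
  obtain ⟨e, he⟩ := CfsgLib.KnownB.SLnSt.present (K := F) n hn
  let f : {ij : Fin n × Fin n // ij.1 ≠ ij.2} × F → E := fun p => X p.1.1.1 p.1.1.2 p.2
  have hrel : ∀ r ∈ ({g : FreeGroup ({ij : Fin n × Fin n // ij.1 ≠ ij.2} × F) | ∃ (a : {ij : Fin n × Fin n // ij.1 ≠ ij.2}) (t u : F),
            g = FreeGroup.of (a, t) * FreeGroup.of (a, u) * (FreeGroup.of (a, t + u))⁻¹} ∪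
          {g | ∃ (a b : {ij : Fin n × Fin n // ij.1 ≠ ij.2}) (t u : F), a.1.1 ≠ b.1.2 ∧ a.1.2 ≠ b.1.1 ∧
            g = FreeGroup.of (a, t) * FreeGroup.of (b, u) * (FreeGroup.of (a, t))⁻¹ * (FreeGroup.of (b, u))⁻¹} ∪
          {g | ∃ (a b : {ij : Fin n × Fin n // ij.1 ≠ ij.2}) (h : a.1.1 ≠ b.1.2) (t u : F), a.1.2 = b.1.1 ∧
            g = FreeGroup.of (a, t) * FreeGroup.of (b, u) * (FreeGroup.of (a, t))⁻¹ * (FreeGroup.of (b, u))⁻¹ *
              (FreeGroup.of (⟨(a.1.1, b.1.2), h⟩, t * u))⁻¹}), FreeGroup.lift f r = 1 := by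
    rintro r ((⟨a, t, u, rfl⟩ | ⟨a, b, t, u, c, d, rfl⟩) | ⟨a, b, h, t, u, d, rfl⟩) <;>
      simp only [map_mul, map_inv, FreeGroup.lift_apply_of, f]
    · rw [R.add _ _ a.2, mul_inv_cancel]
    · exact R.comm0 _ _ _ _ a.2 b.2 c d t u
    · obtain ⟨⟨i, j⟩, hij⟩ := a
      obtain ⟨⟨j', k⟩, hjk⟩ := b
      simp only at d hij hjk h
      subst d
      rw [R.comm1 i j k hij hjk h, mul_inv_cancel]
  let τ : Matrix.SpecialLinearGroup (Fin n) F →* E :=
    (PresentedGroup.toGroup hrel).comp e.symm.toMonoidHom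
  have hτ : ∀ g, π (τ g) = g := by
    have : π.comp τ = MonoidHom.id _ := by
      have h : (π.comp (PresentedGroup.toGroup hrel)) = e.toMonoidHom := by
        refine PresentedGroup.ext fun p => Subtype.ext ?_
        rw [MonoidHom.comp_apply, PresentedGroup.toGroup.of]
        show ((π (X p.1.1.1 p.1.1.2 p.2)) : Matrix (Fin n) (Fin n) F) = _
        rw [hπX p.1.2, tv_val p.1.2]
        exact (he p.1 p.2).symm
      ext1 g
      show π (PresentedGroup.toGroup hrel (e.symm g)) = g
      have h' := DFunLike.congr_fun h (e.symm g)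
      simpa using h'
    exact fun g => DFunLike.congr_fun this g
  have hsplit : ∀ x : E, ∃ w, ∃ z ∈ π.ker, x = τ w * z := fun x =>
    ⟨π x, hπ.eq_mul_of_map_eq (hτ (π x)).symm⟩
  have hle : commutator E ≤ τ.range := by
    rw [commutator_def, Subgroup.commutator_le]
    intro x _ y _
    obtain ⟨v, a, ha, rfl⟩ := hsplit x
    obtain ⟨w, b, hb, rfl⟩ := hsplit y
    rw [comm_mul_ker_left hπ _ _ ha, comm_mul_ker_right hπ _ _ hb, ← map_commutatorElement]
    exact ⟨_, rfl⟩
  rw [eq_bot_iff]
  intro x hx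
  obtain ⟨g, rfl⟩ := hle (hcomm hx)
  rw [MonoidHom.mem_ker, hτ] at hx
  rw [hx, map_one]
  exact one_mem _

/-- `SL_n` is centrally closed. -/
theorem stem_sl_trivial [Finite E] (hn : 3 ≤ n) (hq : Fintype.card F = 2 → 5 ≤ n)
    (hq4 : Fintype.card F = 4 → 4 ≤ n) (hcomm : π.ker ≤ commutator E) : π.ker = ⊥ :=
  stem_sl_trivial_of_comm hπ hn
    (fun h => ⟨fun e => by have := hq e; omega, fun e => by have := hq4 e; omega⟩)
    (fun a b c d => cpair_tv hπ hn hq hq4 a b c d) hcomm

end CfsgLib.KnownA.SLStem
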