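import Cfsg.Prelude.Def_KGroupFacts
import Mathlib.GroupTheory.Transfer
import Mathlib.GroupTheory.Abelianization.Defs
import Mathlib.GroupTheory.OrderOfElement
import Mathlib.Tactic

/-!
Bounding the kernel of a stem extension by transfer.
-/

set_option autoImplicit false

namespace CfsgLib.KnownA

open scoped commutatorElement

/-- If the kernel meets the derived subgroup of the preimage of `N` trivially, the kernel is killed
by the index of `N`. -/
theorem stem_pow_index_eq_one {Γ G : Type*} [Group Γ] [Finite Γ] [Group G] {σ : Γ →* G}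
    (hσ : Cfsg.IsStemExtension σ) (N : Subgroup G)
    (hN : ∀ x ∈ σ.ker, x ∈ ⁅N.comap σ, N.comap σ⁆ → x = 1) (z : Γ) (hz : z ∈ σ.ker) :
    z ^ N.index = 1 := by
  set M := N.comap σ with hM
  have hidx : M.index = N.index := N.index_comap_of_surjective hσ.1
  have hzc := hσ.2.1 hz
  have key : ∀ (k : ℕ) (g₀ : Γ), g₀⁻¹ * z ^ k * g₀ ∈ M → g₀⁻¹ * z ^ k * g₀ = z ^ k := fun k g₀ _ => by
    rw [mul_assoc, ← Subgroup.mem_center_iff.mp (pow_mem hzc k) g₀, inv_mul_cancel_left]
  have h1 : MonoidHom.transfer (H := M) (Abelianization.of (G := M)) z = 1 :=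
    MonoidHom.mem_ker.mp (Abelianization.commutator_subset_ker _ (hσ.2.2 hz))
  rw [MonoidHom.transfer_eq_pow _ z key, ← MonoidHom.mem_ker, Abelianization.ker_of] at h1
  have h2 : z ^ M.index ∈ ⁅M, M⁆ := by
    rw [← Subgroup.map_subtype_commutator]
    exact ⟨_, h1, rfl⟩
  rw [← hidx]
  exact hN _ (pow_mem hz _) h2

/-- A subgroup normalised by generators and containing their commutators contains the derived
subgroup. -/
theorem commutator_closure_le {G : Type*} [Group G] (S : Set G) (I : Subgroup G)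
    (hnorm : ∀ s ∈ S, s ∈ Subgroup.normalizer (I : Set G)) (hcomm : ∀ s ∈ S, ∀ t ∈ S, ⁅s, t⁆ ∈ I) :
    ⁅Subgroup.closure S, Subgroup.closure S⁆ ≤ I := by
  have hle : Subgroup.closure S ≤ Subgroup.normalizer (I : Set G) := (Subgroup.closure_le _).mpr hnorm
  have conjI : ∀ g ∈ Subgroup.closure S, ∀ x ∈ I, g * x * g⁻¹ ∈ I := fun g hg x hx =>
    (Subgroup.mem_normalizer_iff.mp (hle hg) x).mp hx
  have conjI' : ∀ g ∈ Subgroup.closure S, ∀ x ∈ I, g⁻¹ * x * g ∈ I := fun g hg x hx => by
    simpa using conjI _ (inv_mem hg) x hx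
  have hleft : ∀ x ∈ Subgroup.closure S, ∀ t ∈ S, ⁅x, t⁆ ∈ I := by
    intro x hx t ht
    induction hx using Subgroup.closure_induction with
    | mem s hs => exact hcomm s hs t ht
    | one => rw [commutatorElement_one_left]; exact one_mem I
    | mul a b ha hb iha ihb =>
      have e : ⁅a * b, t⁆ = a * ⁅b, t⁆ * a⁻¹ * ⁅a, t⁆ := by simp only [commutatorElement_def]; group
      rw [e]; exact mul_mem (conjI a ha _ ihb) iha
    | inv a ha iha =>
      have e : ⁅a⁻¹, t⁆ = a⁻¹ * ⁅a, t⁆⁻¹ * a := by simp only [commutatorElement_def]; group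
      rw [e]; exact conjI' a ha _ (inv_mem iha)
  rw [Subgroup.commutator_le]
  intro x hx y hy
  induction hy using Subgroup.closure_induction with
  | mem t ht => exact hleft x hx t ht
  | one => rw [commutatorElement_one_right]; exact one_mem I
  | mul a b ha hb iha ihb =>
    have e : ⁅x, a * b⁆ = ⁅x, a⁆ * (a * ⁅x, b⁆ * a⁻¹) := by simp only [commutatorElement_def]; group
    rw [e]; exact mul_mem iha (conjI a ha _ ihb)
  | inv a ha iha =>
    have e : ⁅x, a⁻¹⁆ = a⁻¹ * ⁅x, a⁆⁻¹ * a := by simp only [commutatorElement_def]; group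
    rw [e]; exact conjI' a ha _ (inv_mem iha)

theorem mem_normalizer_zpowers {G : Type*} [Group G] {s c : G}
    (h : s * c * s⁻¹ = c ∨ s * c * s⁻¹ = c⁻¹) :
    s ∈ Subgroup.normalizer (Subgroup.zpowers c : Set G) := by
  have h' : (Subgroup.zpowers c).map (MulAut.conj s).toMonoidHom = Subgroup.zpowers c := by
    rw [MonoidHom.map_zpowers]
    change Subgroup.zpowers (s * c * s⁻¹) = Subgroup.zpowers c
    rcases h with h | h <;> rw [h]
    exact Subgroup.zpowers_inv
  rw [Subgroup.mem_normalizer_iff]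
  intro x
  constructor
  · intro hx
    rw [← h']
    exact ⟨x, hx, rfl⟩
  · intro hx
    rw [← h'] at hx
    obtain ⟨y, hy, hyx⟩ := hx
    have hyx' : s * y * s⁻¹ = s * x * s⁻¹ := hyx
    rwa [← mul_left_cancel (mul_right_cancel hyx')]

/-- Stem kernels are killed by the index of a subgroup generated by `t, w` with `w t w⁻¹ = t⁻¹`,
provided every power of `t` squaring to `1` is a power of `w²`. -/
theorem stem_pow_index_dihedralLike {Γ G : Type*} [Group Γ] [Finite Γ] [Group G] {σ : Γ →* G}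
    (hσ : Cfsg.IsStemExtension σ) (t w : G) (hwt : w * t * w⁻¹ = t⁻¹)
    (h2 : ∀ k : ℤ, (t ^ k) ^ 2 = 1 → t ^ k ∈ Subgroup.zpowers (w ^ 2))
    (z : Γ) (hz : z ∈ σ.ker) : z ^ (Subgroup.closure {t, w}).index = 1 := by
  refine stem_pow_index_eq_one hσ _ ?_ z hz
  obtain ⟨T, hT⟩ := hσ.1 t
  obtain ⟨W, hW⟩ := hσ.1 w
  have cen : ∀ a ∈ σ.ker, ∀ g : Γ, g * a = a * g := fun a ha g =>
    Subgroup.mem_center_iff.mp (hσ.2.1 ha) g
  set c := ⁅W, T⁆ with hc
  have hσc : σ c = t⁻¹ * t⁻¹ := by rw [hc, map_commutatorElement, hT, hW, commutatorElement_def, hwt]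
  obtain ⟨a, ha, hca⟩ : ∃ a ∈ σ.ker, c = a * (T⁻¹ * T⁻¹) := by
    refine ⟨c * (T * T), ?_, by group⟩
    rw [MonoidHom.mem_ker, map_mul, map_mul, hσc, hT]; group
  have hcT : Commute c T := by
    rw [hca]
    exact Commute.mul_left (cen a ha T).symm
      (Commute.mul_left (Commute.refl T).inv_left (Commute.refl T).inv_left)
  have hWT : W * T * W⁻¹ = c * T := by rw [hc, commutatorElement_def]; group
  have hWc : W * c * W⁻¹ = c⁻¹ := by
    calc W * c * W⁻¹ = W * a * W⁻¹ * (((W * T * W⁻¹))⁻¹ * ((W * T * W⁻¹))⁻¹) := by rw [hca]; group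
      _ = a * ((c * T)⁻¹ * (c * T)⁻¹) := by rw [hWT, cen a ha W, mul_inv_cancel_right]
      _ = a * ((c⁻¹ * c⁻¹) * (T⁻¹ * T⁻¹)) := by
          rw [mul_inv_rev, ← hcT.inv_left.inv_right.eq, hcT.inv_left.inv_right.symm.mul_mul_mul_comm]
      _ = (c⁻¹ * c⁻¹) * (a * (T⁻¹ * T⁻¹)) := by
          rw [← mul_assoc, ← cen a ha, mul_assoc]
      _ = c⁻¹ := by rw [← hca]; group
  set S : Set Γ := (σ.ker : Set Γ) ∪ {T, W} with hS
  have hM : (Subgroup.closure {t, w}).comap σ ≤ Subgroup.closure S := by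
    intro x hx
    rw [Subgroup.mem_comap] at hx
    have hle : Subgroup.closure ({t, w} : Set G) ≤ (Subgroup.closure S).map σ := by
      rw [Subgroup.closure_le]
      intro y hy
      simp only [Set.mem_insert_iff, Set.mem_singleton_iff] at hy
      rcases hy with rfl | rfl
      · exact ⟨T, Subgroup.subset_closure (Or.inr (by simp)), hT⟩
      · exact ⟨W, Subgroup.subset_closure (Or.inr (by simp)), hW⟩
    obtain ⟨y, hy, hyx⟩ := hle hx
    have : x * y⁻¹ ∈ σ.ker := by rw [MonoidHom.mem_ker, map_mul, map_inv, hyx, mul_inv_cancel]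
    have h' := mul_mem (Subgroup.subset_closure (Or.inl this) : x * y⁻¹ ∈ Subgroup.closure S) hy
    rwa [inv_mul_cancel_right] at h'
  have hI : ⁅Subgroup.closure S, Subgroup.closure S⁆ ≤ Subgroup.zpowers c := by
    refine commutator_closure_le S _ ?_ ?_
    · intro s hs
      apply mem_normalizer_zpowers
      rcases hs with hs | hs
      · left; rw [← cen s hs c, mul_inv_cancel_right]
      · simp only [Set.mem_insert_iff, Set.mem_singleton_iff] at hs
        rcases hs with rfl | rfl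
        · left; rw [← hcT.eq, mul_inv_cancel_right]
        · right; exact hWc
    · intro s hs u hu
      rcases hs with hs | hs
      · rw [commutatorElement_eq_one_iff_mul_comm.mpr (cen s hs u).symm]; exact one_mem _
      rcases hu with hu | hu
      · rw [commutatorElement_eq_one_iff_mul_comm.mpr (cen u hu s)]; exact one_mem _
      simp only [Set.mem_insert_iff, Set.mem_singleton_iff] at hs hu
      rcases hs with rfl | rfl <;> rcases hu with rfl | rfl
      · rw [commutatorElement_self]; exact one_mem _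
      · rw [← commutatorElement_inv]; exact inv_mem (Subgroup.mem_zpowers c)
      · exact Subgroup.mem_zpowers c
      · rw [commutatorElement_self]; exact one_mem _
  intro x hx hxM
  have hxI := hI (Subgroup.commutator_mono hM hM hxM)
  obtain ⟨k, rfl⟩ := Subgroup.mem_zpowers_iff.mp hxI
  have htk : (t ^ k) ^ 2 = 1 := by
    have h := MonoidHom.mem_ker.mp hx
    rw [map_zpow, hσc] at h
    rw [← inv_inj, inv_one, ← inv_pow, ← inv_zpow, pow_two, ← Commute.mul_zpow (Commute.refl _)]
    exact h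
  obtain ⟨j, hj⟩ := Subgroup.mem_zpowers_iff.mp (h2 k htk)
  have hkerTk : T ^ k * ((W ^ 2) ^ j)⁻¹ ∈ σ.ker := by
    rw [MonoidHom.mem_ker, map_mul, map_inv, map_zpow, map_zpow, map_pow, hT, hW, hj, mul_inv_cancel]
  have hWTk : Commute W (T ^ k) := by
    have h1 : Commute W (T ^ k * ((W ^ 2) ^ j)⁻¹) := cen _ hkerTk W
    have h2 : Commute W ((W ^ 2) ^ j) := ((Commute.refl W).pow_right 2).zpow_right j
    have := h1.mul_right h2
    rwa [inv_mul_cancel_right] at this
  have : c ^ k * T ^ k = T ^ k := by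
    rw [← hcT.mul_zpow, ← hWT, conj_zpow, hWTk.eq, mul_inv_cancel_right]
  exact mul_eq_right.mp this

theorem two_mul_orderOf_dvd_card {G : Type*} [Group G] [Finite G] (N : Subgroup G) (t w : G)
    (ht : t ∈ N) (hw : w ∈ N) (hwt : w * t * w⁻¹ = t⁻¹) (hnot : w ∉ Subgroup.zpowers t)
    (hsq : w ^ 2 ∈ Subgroup.zpowers t) : 2 * orderOf t ∣ Nat.card N := by
  set Z := Subgroup.zpowers t with hZ
  set H := N ⊓ Subgroup.normalizer (Z : Set G) with hH
  have hZH : Z ≤ H := le_inf ((Subgroup.zpowers_le).mpr ht) Subgroup.le_normalizer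
  have hwH : w ∈ H := Subgroup.mem_inf.mpr ⟨hw, mem_normalizer_zpowers (Or.inr hwt)⟩
  refine Dvd.dvd.trans ?_ (Subgroup.card_dvd_of_le (inf_le_left : H ≤ N))
  have hrel : Z.relIndex H * Nat.card Z = Nat.card H := by
    rw [← Subgroup.relIndex_bot_left, ← Subgroup.relIndex_bot_left, mul_comm]
    exact Subgroup.relIndex_mul_relIndex ⊥ Z H bot_le hZH
  rw [← hrel, Nat.card_zpowers]
  refine mul_dvd_mul_right ?_ _
  haveI : (Z.subgroupOf H).Normal :=
    (Subgroup.normal_subgroupOf_iff_le_normalizer hZH).mpr inf_le_right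
  have ho : orderOf (QuotientGroup.mk' (Z.subgroupOf H) ⟨w, hwH⟩) = 2 := by
    apply orderOf_eq_prime
    · rw [← map_pow, QuotientGroup.mk'_apply, QuotientGroup.eq_one_iff, Subgroup.mem_subgroupOf]
      exact hsq
    · rw [QuotientGroup.mk'_apply, ne_eq, QuotientGroup.eq_one_iff, Subgroup.mem_subgroupOf]
      exact hnot
  rw [Subgroup.relIndex, Subgroup.index_eq_card]
  exact ho ▸ orderOf_dvd_natCard _

/-- A group all of whose stem extensions are isomorphisms has trivial Schur multiplier. -/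
theorem hasCyclicSchurMultiplier_one.{u} {G : Type u} [Group G] [Finite G]
    (h : ∀ (Γ : Type u) [Group Γ] [Finite Γ] (σ : Γ →* G), Cfsg.IsStemExtension σ → σ.ker = ⊥) :
    Cfsg.HasCyclicSchurMultiplier G 1 := by
  refine ⟨⟨G, inferInstance, inferInstance, MonoidHom.id G, ⟨Function.surjective_id, by simp, by simp⟩, ?_⟩, ?_⟩
  · rw [MonoidHom.ker_id]
    haveI : Subsingleton (Multiplicative (ZMod 1)) := inferInstanceAs (Subsingleton (ZMod 1))
    exact ⟨MulEquiv.ofUnique⟩
  · intro Γ _ _ σ hσ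
    refine ⟨1, fun x => ⟨1, ?_⟩⟩
    have : Subsingleton σ.ker := by rw [h Γ σ hσ]; infer_instance
    exact Subsingleton.elim _ _

end CfsgLib.KnownA
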