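import Cfsg.Agent.Lib.KnownA.CExt.Pair
import Cfsg.Agent.Lib.KnownA.Stem
import Cfsg.Prelude.Def_KGroupFacts

/-!
The `ℓ`-part of the Schur multiplier, stated through central extensions with `ℓ`-group kernels:
transfer, products, and cyclic extensions.
-/

set_option autoImplicit false
set_option linter.unusedSectionVars false

namespace CfsgLib.KnownA.LGood

open CfsgLib.KnownA.CExt
open scoped commutatorElement

universe u v

variable {ℓ : ℕ}

/-- A finite central extension with `ℓ`-group kernel. -/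
structure IsLExt (ℓ : ℕ) {E : Type*} {G : Type*} [Group E] [Group G] (π : E →* G) : Prop where
  cs : IsCentralSurj π
  fin : Finite E
  isP : IsPGroup ℓ π.ker

/-- The kernel meets the derived subgroup of the preimage of `H` trivially. -/
def Kills {E : Type*} {G : Type*} [Group E] [Group G] (π : E →* G) (H : Subgroup G) : Prop :=
  ∀ z ∈ π.ker, z ∈ ⁅H.comap π, H.comap π⁆ → z = 1

/-- The multiplier has no `ℓ`-part. -/
def MFree (ℓ : ℕ) (G : Type u) [Group G] : Prop :=
  ∀ (E : Type u) [Group E] (π : E →* G), IsLExt ℓ π → Kills π ⊤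

/-- Neither the multiplier nor the abelianisation has an `ℓ`-part. -/
structure Good (ℓ : ℕ) (G : Type u) [Group G] : Prop where
  mfree : MFree ℓ G
  ab : ¬ ℓ ∣ Nat.card (Abelianization G)

variable [hℓ : Fact ℓ.Prime]

section Relative

variable {E : Type u} [Group E] {G : Type u} [Group G] {π : E →* G}

theorem IsLExt.finG (hπ : IsLExt ℓ π) : Finite G := by
  have := hπ.fin
  exact Finite.of_surjective π hπ.cs.surj

/-- The restriction to the preimage of a subgroup. -/
def restr (π : E →* G) (H : Subgroup G) : ↥(H.comap π) →* H where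
  toFun x := ⟨π x.1, x.2⟩
  map_one' := Subtype.ext (map_one π)
  map_mul' x y := Subtype.ext (map_mul π _ _)

theorem mem_ker_restr {H : Subgroup G} {x : ↥(H.comap π)} : x ∈ (restr π H).ker ↔ (x : E) ∈ π.ker := by
  simp only [MonoidHom.mem_ker, restr, MonoidHom.coe_mk, OneHom.coe_mk, ← Subtype.val_inj,
    Subgroup.coe_one]

theorem IsLExt.restr (hπ : IsLExt ℓ π) (H : Subgroup G) : IsLExt ℓ (restr π H) := by
  have := hπ.fin
  refine ⟨⟨?_, ?_⟩, inferInstance, ?_⟩
  · rintro ⟨g, hg⟩
    obtain ⟨e, rfl⟩ := hπ.cs.surj g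
    exact ⟨⟨e, hg⟩, rfl⟩
  · intro x hx
    rw [Subgroup.mem_center_iff]
    exact fun y => Subtype.ext (hπ.cs.comm (mem_ker_restr.1 hx) _)
  · intro x
    obtain ⟨k, hk⟩ := hπ.isP ⟨(x.1 : E), mem_ker_restr.1 x.2⟩
    exact ⟨k, Subtype.ext (Subtype.ext (by simpa using congrArg Subtype.val hk))⟩

theorem kills_of_mfree (hπ : IsLExt ℓ π) {H : Subgroup G} (h : MFree ℓ H) : Kills π H := by
  intro z hz hzc
  have hzH : z ∈ H.comap π := by
    show π z ∈ H
    rw [MonoidHom.mem_ker.1 hz]; exact one_mem H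
  rw [← Subgroup.map_subtype_commutator] at hzc
  obtain ⟨w, hw, rfl⟩ := hzc
  have := h _ _ (hπ.restr H) w (mem_ker_restr.2 hz) (by
    rw [Subgroup.comap_top, ← commutator_def]; exact hw)
  rw [this]; rfl

theorem Kills.mono {H K : Subgroup G} (h : Kills π K) (hle : H ≤ K) : Kills π H :=
  fun z hz hzc => h z hz (Subgroup.commutator_mono (Subgroup.comap_mono hle) (Subgroup.comap_mono hle) hzc)

theorem pow_eq_one_of_coprime (hπ : IsLExt ℓ π) {n : ℕ} (hn : ¬ ℓ ∣ n) {z : E} (hz : z ∈ π.ker)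
    (h : z ^ n = 1) : z = 1 := by
  obtain ⟨k, hk⟩ := hπ.isP ⟨z, hz⟩
  have hk' : z ^ ℓ ^ k = 1 := congrArg Subtype.val hk
  have hc : Nat.Coprime n (ℓ ^ k) := ((hℓ.out.coprime_iff_not_dvd.2 hn).symm).pow_right _
  have := pow_gcd_eq_one.2 ⟨h, hk'⟩
  rwa [hc.gcd_eq_one, pow_one] at this

/-- Transfer. -/
theorem kills_top_of_index (hπ : IsLExt ℓ π) {H : Subgroup G} (hH : ¬ ℓ ∣ H.index) (h : Kills π H) :
    Kills π ⊤ := by
  intro z hz hzc
  rw [Subgroup.comap_top, ← commutator_def] at hzc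
  refine pow_eq_one_of_coprime hπ hH hz ?_
  have := hπ.fin
  have hzc' := hπ.cs.central hz
  have hidx : (H.comap π).index = H.index := H.index_comap_of_surjective hπ.cs.surj
  set M := H.comap π with hM
  have key : ∀ (k : ℕ) (g₀ : E), g₀⁻¹ * z ^ k * g₀ ∈ M → g₀⁻¹ * z ^ k * g₀ = z ^ k := fun k g₀ _ => by
    rw [mul_assoc, ← Subgroup.mem_center_iff.mp (pow_mem hzc' k) g₀, inv_mul_cancel_left]
  have h1 : MonoidHom.transfer (H := M) (Abelianization.of (G := M)) z = 1 :=
    MonoidHom.mem_ker.mp (Abelianization.commutator_subset_ker _ hzc)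
  rw [MonoidHom.transfer_eq_pow _ z key, ← MonoidHom.mem_ker, Abelianization.ker_of] at h1
  have h2 : z ^ M.index ∈ ⁅M, M⁆ := by
    rw [← Subgroup.map_subtype_commutator]
    exact ⟨_, h1, rfl⟩
  rw [← hidx]
  exact h _ (pow_mem hz _) h2

/-- A subgroup mapping onto `K`, meeting the kernel trivially, normalised by the lifts of the
normaliser of `K`. -/
structure Comp (π : E →* G) (K : Subgroup G) (D : Subgroup E) : Prop where
  le : D ≤ K.comap π
  inj : ∀ x ∈ D, π x = 1 → x = 1
  onto : ∀ g ∈ K, ∃ x ∈ D, π x = g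
  norm : ∀ e : E, (∀ k, k ∈ K ↔ π e * k * (π e)⁻¹ ∈ K) → ∀ x ∈ D, e * x * e⁻¹ ∈ D

theorem Comp.decomp {K : Subgroup G} {D : Subgroup E} (h : Comp π K D) {x : E} (hx : π x ∈ K) :
    ∃ d ∈ D, ∃ z ∈ π.ker, x = d * z := by
  obtain ⟨d, hd, he⟩ := h.onto _ hx
  exact ⟨d, hd, d⁻¹ * x, by rw [MonoidHom.mem_ker, map_mul, map_inv, he, inv_mul_cancel], by group⟩

theorem Comp.commutator_le (hπ : IsCentralSurj π) {K : Subgroup G} {D : Subgroup E} (h : Comp π K D) :
    ⁅K.comap π, K.comap π⁆ ≤ D := by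
  rw [Subgroup.commutator_le]
  intro x hx y hy
  obtain ⟨d, hd, z, hz, rfl⟩ := h.decomp hx
  obtain ⟨d', hd', z', hz', rfl⟩ := h.decomp hy
  rw [comm_mul_ker_left hπ _ _ hz, comm_mul_ker_right hπ _ _ hz', commutatorElement_def]
  exact mul_mem (mul_mem (mul_mem hd hd') (inv_mem hd)) (inv_mem hd')

theorem Comp.kills (hπ : IsCentralSurj π) {K : Subgroup G} {D : Subgroup E} (h : Comp π K D) :
    Kills π K := fun z hz hzc => h.inj z (h.commutator_le hπ hzc) hz

/-- A good subgroup has a canonical complement over it. -/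
theorem exists_comp (hπ : IsLExt ℓ π) {K : Subgroup G} (hK : Good ℓ K) : ∃ D, Comp π K D := by
  have := hπ.fin
  have := hπ.finG
  obtain ⟨a, ha⟩ := IsPGroup.iff_card.1 hπ.isP
  set N := ℓ ^ a with hN
  have hzN : ∀ z ∈ π.ker, z ^ N = 1 := fun z hz => by
    have := pow_card_eq_one' (x := (⟨z, hz⟩ : π.ker))
    rw [ha] at this
    exact congrArg Subtype.val this
  have hcop : Nat.Coprime N (Nat.card (Abelianization K)) :=
    (hℓ.out.coprime_iff_not_dvd.2 hK.ab).pow_left a
  set M := K.comap π with hM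
  let D0 : Subgroup M := commutator M ⊔ Subgroup.closure (Set.range fun x : M => x ^ N)
  have hform : ∀ x ∈ D0, ∃ c ∈ commutator M, ∃ y : M, x = c * y ^ N := by
    intro x hx
    have hx' : Abelianization.of x ∈ (powMonoidHom N : Abelianization M →* _).range := by
      have hle : D0 ≤ (powMonoidHom N : Abelianization M →* _).range.comap Abelianization.of := by
        refine sup_le (fun c hc => ?_) ((Subgroup.closure_le _).2 ?_)
        · rw [Subgroup.mem_comap, MonoidHom.mem_ker.1 (Abelianization.commutator_subset_ker _ hc)]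
          exact one_mem _
        · rintro _ ⟨y, rfl⟩
          exact ⟨Abelianization.of y, by simp⟩
      exact hle hx
    obtain ⟨b, hb⟩ := hx'
    obtain ⟨y, rfl⟩ := QuotientGroup.mk'_surjective _ b
    refine ⟨x * (y ^ N)⁻¹, ?_, y, by group⟩
    rw [← Abelianization.ker_of, MonoidHom.mem_ker, map_mul, map_inv, map_pow, mul_inv_eq_one]
    exact hb.symm
  have hmapc : (commutator M).map (restr π K) = commutator K := by
    rw [commutator_def, Subgroup.map_commutator,
      Subgroup.map_top_of_surjective _ (hπ.restr K).cs.surj, ← commutator_def]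
  refine ⟨D0.map M.subtype, ⟨?_, ?_, ?_, ?_⟩⟩
  · rintro _ ⟨x, -, rfl⟩; exact x.2
  · rintro _ ⟨x, hx, rfl⟩ h1
    obtain ⟨c, hc, y, rfl⟩ := hform x hx
    have hzk : c * y ^ N ∈ (restr π K).ker := mem_ker_restr.2 h1
    have hy : restr π K y ∈ commutator K := by
      have e : restr π K y ^ N ∈ commutator K := by
        have e1 : restr π K c ∈ commutator K := hmapc ▸ Subgroup.mem_map_of_mem _ hc
        rw [MonoidHom.mem_ker, map_mul, map_pow] at hzk
        rw [eq_inv_of_mul_eq_one_right hzk]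
        exact inv_mem e1
      rw [← Abelianization.ker_of, MonoidHom.mem_ker] at e ⊢
      rw [map_pow] at e
      have h2 := pow_card_eq_one' (x := Abelianization.of (restr π K y))
      have := pow_gcd_eq_one.2 ⟨e, h2⟩
      rwa [hcop.gcd_eq_one, pow_one] at this
    rw [← hmapc] at hy
    obtain ⟨c', hc', hyc⟩ := hy
    have hw : c'⁻¹ * y ∈ (restr π K).ker := by
      rw [MonoidHom.mem_ker, map_mul, map_inv, hyc, inv_mul_cancel]
    have hyN : y ^ N ∈ commutator M := by
      rw [← Abelianization.ker_of, MonoidHom.mem_ker, map_pow]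
      have hw1 : (c'⁻¹ * y) ^ N = 1 := Subtype.ext (by
        rw [SubmonoidClass.coe_pow]; exact hzN _ (mem_ker_restr.1 hw))
      have := congrArg Abelianization.of hw1
      rwa [map_pow, map_mul, map_inv, MonoidHom.mem_ker.1 (Abelianization.commutator_subset_ker _ hc'),
        inv_one, one_mul, map_one] at this
    have := hK.mfree _ _ (hπ.restr K) _ hzk (by
      rw [Subgroup.comap_top, ← commutator_def]; exact mul_mem hc hyN)
    rw [this]; rfl
  · intro g hg
    have hpow : Function.Surjective (fun b : Abelianization K => b ^ N) :=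
      (powCoprime hcop.symm).surjective
    obtain ⟨b, hb⟩ := hpow (Abelianization.of ⟨g, hg⟩)
    obtain ⟨k, rfl⟩ := QuotientGroup.mk'_surjective _ b
    obtain ⟨y, hy⟩ := (hπ.restr K).cs.surj k
    have hc : (⟨g, hg⟩ : K) * (k ^ N)⁻¹ ∈ commutator K := by
      rw [← Abelianization.ker_of, MonoidHom.mem_ker, map_mul, map_inv, map_pow, mul_inv_eq_one]
      exact hb.symm
    rw [← hmapc] at hc
    obtain ⟨c, hc, hce⟩ := hc
    refine ⟨_, ⟨c * y ^ N, mul_mem (Subgroup.mem_sup_left hc)
      (Subgroup.mem_sup_right (Subgroup.subset_closure ⟨y, rfl⟩)), rfl⟩, ?_⟩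
    have : restr π K (c * y ^ N) = ⟨g, hg⟩ := by rw [map_mul, map_pow, hce, hy, inv_mul_cancel_right]
    exact congrArg Subtype.val this
  · rintro e he _ ⟨x, hx, rfl⟩
    have hmem : ∀ y : E, y ∈ M ↔ e * y * e⁻¹ ∈ M := fun y => by
      simp only [hM, Subgroup.mem_comap, map_mul, map_inv]
      exact he _
    let φ : M →* M :=
      { toFun := fun y => ⟨e * (y : E) * e⁻¹, (hmem _).1 y.2⟩
        map_one' := Subtype.ext (by simp)
        map_mul' := fun y y' => Subtype.ext (by simp [mul_assoc]) }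
    have hle : D0 ≤ D0.comap φ := by
      refine sup_le (fun c hc => Subgroup.mem_sup_left ?_) ((Subgroup.closure_le _).2 ?_)
      · have h1 : φ c ∈ Subgroup.map φ (⁅(⊤ : Subgroup M), (⊤ : Subgroup M)⁆) := Subgroup.mem_map_of_mem _ hc
        rw [Subgroup.map_commutator] at h1
        exact Subgroup.commutator_mono le_top le_top h1
      · rintro _ ⟨y, rfl⟩
        show φ (y ^ N) ∈ D0
        rw [map_pow]
        exact Subgroup.mem_sup_right (Subgroup.subset_closure ⟨φ y, rfl⟩)
    exact ⟨φ x, hle hx, rfl⟩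

/-- `K` good and normalised by `c`: the extension of `K` by `⟨c⟩` is killed. -/
theorem kills_sup_zpowers (hπ : IsLExt ℓ π) {K : Subgroup G} (hK : Good ℓ K) (c : G)
    (hc : ∀ k, k ∈ K ↔ c * k * c⁻¹ ∈ K) : Kills π (K ⊔ Subgroup.zpowers c) := by
  obtain ⟨D, hD⟩ := exists_comp hπ hK
  obtain ⟨e, rfl⟩ := hπ.cs.surj c
  set S : Set E := (π.ker : Set E) ∪ (D : Set E) ∪ {e} with hS
  have hgen : (K ⊔ Subgroup.zpowers (π e)).comap π ≤ Subgroup.closure S := by
    intro x hx
    have hle : K ⊔ Subgroup.zpowers (π e) ≤ (Subgroup.closure S).map π := by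
      refine sup_le (fun k hk => ?_) (Subgroup.zpowers_le.2 ⟨e, Subgroup.subset_closure (Or.inr rfl), rfl⟩)
      obtain ⟨d, hd, hde⟩ := hD.onto k hk
      exact ⟨d, Subgroup.subset_closure (Or.inl (Or.inr hd)), hde⟩
    obtain ⟨y, hy, hyx⟩ := hle hx
    have : x * y⁻¹ ∈ π.ker := by rw [MonoidHom.mem_ker, map_mul, map_inv, hyx, mul_inv_cancel]
    have h' := mul_mem (Subgroup.subset_closure (Or.inl (Or.inl this)) :
      x * y⁻¹ ∈ Subgroup.closure S) hy
    rwa [inv_mul_cancel_right] at h'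
  have hnorm : ∀ s ∈ S, ∀ k, k ∈ K ↔ π s * k * (π s)⁻¹ ∈ K := by
    rintro s ((hs | hs) | rfl) k
    · rw [MonoidHom.mem_ker.1 hs, one_mul, inv_one, mul_one]
    · refine ⟨fun h => mul_mem (mul_mem (hD.le hs) h) (inv_mem (hD.le hs)), fun h => ?_⟩
      simpa [mul_assoc] using mul_mem (mul_mem (inv_mem (show π s ∈ K from hD.le hs)) h) (show π s ∈ K from hD.le hs)
    · exact hc k
  have hI : ⁅Subgroup.closure S, Subgroup.closure S⁆ ≤ D := by
    refine CfsgLib.KnownA.commutator_closure_le S D (fun s hs => ?_) (fun s hs t ht => ?_)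
    · rw [Subgroup.mem_normalizer_iff]
      intro x
      refine ⟨hD.norm s (hnorm s hs) x, fun hx => ?_⟩
      have hinv : ∀ k, k ∈ K ↔ π s⁻¹ * k * (π s⁻¹)⁻¹ ∈ K := fun k => by
        rw [map_inv, inv_inv, hnorm s hs ((π s)⁻¹ * k * π s)]
        simp [mul_assoc]
      simpa [mul_assoc] using hD.norm s⁻¹ hinv _ hx
    · have kerone : ∀ a ∈ π.ker, ∀ b : E, ⁅a, b⁆ = 1 := fun a ha b =>
        commutatorElement_eq_one_iff_mul_comm.2 (hπ.cs.comm ha b).symm
      have kerone' : ∀ a ∈ π.ker, ∀ b : E, ⁅b, a⁆ = 1 := fun a ha b => by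
        rw [← commutatorElement_inv, kerone a ha, inv_one]
      have hDc : ∀ s ∈ S, ∀ d ∈ D, ⁅s, d⁆ ∈ D := fun s hs d hd => by
        rw [commutatorElement_def]; exact mul_mem (hD.norm s (hnorm s hs) d hd) (inv_mem hd)
      rcases hs with (hs' | hs') | hs'
      · rw [kerone s hs' t]; exact one_mem D
      · rw [← commutatorElement_inv]; exact inv_mem (hDc t ht s hs')
      · rcases ht with (ht' | ht') | ht'
        · rw [kerone' t ht' s]; exact one_mem D
        · exact hDc s (Or.inr hs') t ht'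
        · rw [Set.mem_singleton_iff.1 hs', Set.mem_singleton_iff.1 ht', commutatorElement_self]
          exact one_mem D
  exact fun z hz hzc => hD.inj z (hI (Subgroup.commutator_mono hgen hgen hzc)) hz

/-- A subgroup with abelian preimage. -/
theorem kills_of_comm {H : Subgroup G}
    (h : ∀ x ∈ H.comap π, ∀ y ∈ H.comap π, x * y = y * x) : Kills π H := by
  intro z _ hzc
  have : ⁅H.comap π, H.comap π⁆ ≤ ⊥ := by
    rw [Subgroup.commutator_le]
    intro x hx y hy
    rw [Subgroup.mem_bot, commutatorElement_eq_one_iff_mul_comm]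
    exact h x hx y hy
  exact Subgroup.mem_bot.1 (this hzc)

theorem kills_zpowers (hπ : IsCentralSurj π) (c : G) : Kills π (Subgroup.zpowers c) := by
  refine kills_of_comm fun x hx y hy => ?_
  obtain ⟨e, rfl⟩ := hπ.surj c
  obtain ⟨i, hi⟩ := Subgroup.mem_zpowers_iff.1 hx
  obtain ⟨j, hj⟩ := Subgroup.mem_zpowers_iff.1 hy
  obtain ⟨z, hz, rfl⟩ := hπ.eq_mul_of_map_eq (show π x = π (e ^ i) by rw [map_zpow, hi])
  obtain ⟨w, hw, rfl⟩ := hπ.eq_mul_of_map_eq (show π y = π (e ^ j) by rw [map_zpow, hj])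
  have c1 : ∀ a : E, Commute z a := fun a => (hπ.comm hz a).symm
  have c2 : ∀ a : E, Commute w a := fun a => (hπ.comm hw a).symm
  exact Commute.mul_left ((Commute.zpow_zpow_self e i j).mul_right (c2 _).symm)
    (Commute.mul_right (c1 _) (c1 _))

end Relative

theorem kills_top_iff {E : Type u} [Group E] {G : Type u} [Group G] {π : E →* G} :
    Kills π ⊤ ↔ ∀ z ∈ π.ker, z ∈ commutator E → z = 1 := by
  simp [Kills, Subgroup.comap_top, commutator_def]

/-- Goodness passes along isomorphisms. -/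
theorem Good.of_equiv {A B : Type u} [Group A] [Group B] (e : A ≃* B) (h : Good ℓ A) : Good ℓ B := by
  refine ⟨fun E _ π hπ => ?_, ?_⟩
  · have h' : IsLExt ℓ (e.symm.toMonoidHom.comp π) := by
      have hk : (e.symm.toMonoidHom.comp π).ker = π.ker := by
        ext x; simp [MonoidHom.mem_ker]
      refine ⟨⟨e.symm.surjective.comp hπ.cs.surj, hk ▸ hπ.cs.central⟩, hπ.fin, hk ▸ hπ.isP⟩
    intro z hz hzc
    exact h.mfree E _ h' z (by simpa [MonoidHom.mem_ker] using hz) (by
      rw [Subgroup.comap_top] at hzc ⊢; exact hzc)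
  · rw [← Nat.card_congr e.abelianizationCongr.toEquiv]; exact h.ab

theorem good_of_subsingleton {G : Type u} [Group G] [Subsingleton G] : Good ℓ G := by
  refine ⟨fun E _ π hπ => ?_, ?_⟩
  · refine kills_of_comm fun x _ y _ => ?_
    exact (hπ.cs.comm (MonoidHom.mem_ker.2 (Subsingleton.elim _ _)) x)
  · have : Subsingleton (Abelianization G) := (QuotientGroup.mk'_surjective (commutator G)).subsingleton
    rw [Nat.card_of_subsingleton (1 : Abelianization G)]
    exact hℓ.out.not_dvd_one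

/-- Products. -/
theorem Good.prod {A B : Type u} [Group A] [Group B] (hA : Good ℓ A) (hB : Good ℓ B) :
    Good ℓ (A × B) := by
  refine ⟨fun E _ π hπ => ?_, ?_⟩
  · have := hπ.fin
    have hGfin : Finite (A × B) := hπ.finG
    let HA : Subgroup (A × B) := (MonoidHom.inl A B).range
    let HB : Subgroup (A × B) := (MonoidHom.inr A B).range
    have eA : A ≃* HA := MonoidHom.ofInjective fun a b h => (Prod.mk.inj h).1
    have eB : B ≃* HB := MonoidHom.ofInjective fun a b h => (Prod.mk.inj h).2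
    obtain ⟨DA, hDA⟩ := exists_comp hπ (hA.of_equiv eA)
    obtain ⟨DB, hDB⟩ := exists_comp hπ (hB.of_equiv eB)
    -- the cross pairing is trivial
    have hcross : ∀ (a : A) (b : B), cpair hπ.cs (a, 1) (1, b) = 1 := by
      intro a b
      have hcomm : ∀ b : B, ((a, 1) : A × B) * (1, b) = (1, b) * (a, 1) := fun b => by simp
      let f : B →* π.ker :=
        { toFun := fun b => ⟨cpair hπ.cs (a, 1) (1, b), cpair_mem_ker hπ.cs (hcomm b)⟩
          map_one' := Subtype.ext (cpair_one_right hπ.cs _)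
          map_mul' := fun b b' => Subtype.ext (by
            show cpair hπ.cs (a, 1) (1, b * b') = cpair hπ.cs (a, 1) (1, b) * cpair hπ.cs (a, 1) (1, b')
            rw [show ((1, b * b') : A × B) = (1, b) * (1, b') by simp,
              cpair_mul_right_of_comm hπ.cs (hcomm b')]) }
      let _ : CommGroup π.ker :=
        { (inferInstance : Group π.ker) with mul_comm := fun u v => Subtype.ext (hπ.cs.comm v.2 u) }
      have : Finite B := Finite.of_surjective (Prod.snd : A × B → B) Prod.snd_surjective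
      let g : Abelianization B →* π.ker := Abelianization.lift f
      have h1 : orderOf (f b) ∣ Nat.card (Abelianization B) := by
        rw [show f b = g (Abelianization.of b) from (Abelianization.lift_apply_of f b).symm]
        exact (orderOf_map_dvd g _).trans (orderOf_dvd_natCard _)
      have h2 : ¬ ℓ ∣ orderOf (f b) := fun h => hB.ab (h.trans h1)
      exact pow_eq_one_of_coprime hπ h2 (f b).2 (congrArg Subtype.val (pow_orderOf_eq_one (f b)))
    have hAB : ∀ x ∈ DA, ∀ y ∈ DB, x * y = y * x := by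
      intro x hx y hy
      obtain ⟨a, ha⟩ := hDA.le hx
      obtain ⟨b, hb⟩ := hDB.le hy
      exact lift_comm hπ.cs (hcross a b) ha.symm hb.symm
    have hdec : ∀ x : E, ∃ a ∈ DA, ∃ b ∈ DB, ∃ z ∈ π.ker, x = a * b * z := fun x => by
      obtain ⟨a, ha, hae⟩ := hDA.onto ((π x).1, 1) ⟨(π x).1, rfl⟩
      obtain ⟨b, hb, hbe⟩ := hDB.onto (1, (π x).2) ⟨(π x).2, rfl⟩
      refine ⟨a, ha, b, hb, (a * b)⁻¹ * x, ?_, by group⟩
      rw [MonoidHom.mem_ker, map_mul, map_inv, map_mul, hae, hbe]
      simp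
    intro z hz hzc
    rw [Subgroup.comap_top] at hzc
    have hle : ⁅(⊤ : Subgroup E), ⊤⁆ ≤ DA ⊔ DB := by
      rw [Subgroup.commutator_le]
      intro x _ y _
      obtain ⟨a, ha, b, hb, w, hw, rfl⟩ := hdec x
      obtain ⟨a', ha', b', hb', w', hw', rfl⟩ := hdec y
      rw [comm_mul_ker_left hπ.cs _ _ hw, comm_mul_ker_right hπ.cs _ _ hw', commutatorElement_def]
      have h1 := mul_mem (Subgroup.mem_sup_left (T := DB) ha) (Subgroup.mem_sup_right (S := DA) hb)
      have h2 := mul_mem (Subgroup.mem_sup_left (T := DB) ha') (Subgroup.mem_sup_right (S := DA) hb')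
      exact mul_mem (mul_mem (mul_mem h1 h2) (inv_mem h1)) (inv_mem h2)
    have hnorm : DB ≤ Subgroup.normalizer (DA : Set E) := fun y hy => by
      rw [Subgroup.mem_normalizer_iff]
      intro x
      refine ⟨fun hx => by rw [← hAB x hx y hy, mul_inv_cancel_right]; exact hx, fun hx => ?_⟩
      have h := hAB _ hx y hy
      rw [show x = y⁻¹ * ((y * x * y⁻¹) * y) by group, h, inv_mul_cancel_left]
      exact hx
    have hz' : z ∈ (↑(DA ⊔ DB) : Set E) := hle hzc
    rw [Subgroup.coe_mul_of_right_le_normalizer_left DA DB hnorm] at hz'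
    obtain ⟨a, ha, b, hb, rfl⟩ := Set.mem_mul.1 hz'
    obtain ⟨a0, ha0⟩ := hDA.le ha
    obtain ⟨b0, hb0⟩ := hDB.le hb
    rw [MonoidHom.mem_ker, map_mul, ← ha0, ← hb0] at hz
    simp only [MonoidHom.inl_apply, MonoidHom.inr_apply, Prod.mk_mul_mk, mul_one, one_mul,
      Prod.mk_eq_one] at hz
    rw [hDA.inj a ha (by rw [← ha0, hz.1]; rfl), hDB.inj b hb (by rw [← hb0, hz.2]; rfl), one_mul]
  · intro h
    have : Nat.card (Abelianization (A × B)) ∣ Nat.card (Abelianization A) * Nat.card (Abelianization B) := by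
      rw [← Nat.card_prod]
      let f : Abelianization (A × B) →* Abelianization A × Abelianization B :=
        Abelianization.lift ((Abelianization.of.comp (MonoidHom.fst A B)).prod
          (Abelianization.of.comp (MonoidHom.snd A B)))
      refine Subgroup.card_dvd_of_injective f ?_
      rw [← MonoidHom.ker_eq_bot_iff, eq_bot_iff]
      intro x hx
      obtain ⟨⟨a, b⟩, rfl⟩ := QuotientGroup.mk'_surjective _ x
      have h1 : Abelianization.of a = 1 ∧ Abelianization.of b = 1 := by
        have := MonoidHom.mem_ker.1 hx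
        exact ⟨congrArg Prod.fst this, congrArg Prod.snd this⟩
      refine Subgroup.mem_bot.2 ((QuotientGroup.eq_one_iff _).2 ?_)
      have e : ((a, b) : A × B) = MonoidHom.inl A B a * MonoidHom.inr A B b := by simp
      rw [e]
      have m1 : (commutator A).map (MonoidHom.inl A B) ≤ commutator (A × B) := by
        rw [commutator_def, Subgroup.map_commutator]; exact Subgroup.commutator_mono le_top le_top
      have m2 : (commutator B).map (MonoidHom.inr A B) ≤ commutator (A × B) := by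
        rw [commutator_def, Subgroup.map_commutator]; exact Subgroup.commutator_mono le_top le_top
      exact mul_mem (m1 (Subgroup.mem_map_of_mem _ ((QuotientGroup.eq_one_iff a).1 h1.1)))
        (m2 (Subgroup.mem_map_of_mem _ ((QuotientGroup.eq_one_iff b).1 h1.2)))
    rcases hℓ.out.dvd_mul.1 (h.trans this) with h | h
    · exact hA.ab h
    · exact hB.ab h

/-- Powers. -/
theorem Good.pi {A : Type u} [Group A] (hA : Good ℓ A) : ∀ k : ℕ, Good ℓ (Fin k → A)
  | 0 => good_of_subsingleton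
  | k + 1 => (hA.prod (Good.pi hA k)).of_equiv
      { toEquiv := Fin.consEquiv fun _ => A
        map_mul' := fun p p' => by
          funext i
          refine Fin.cases ?_ ?_ i <;> simp [Fin.consEquiv] }

/-- Transfer for `MFree`. -/
theorem mfree_of_index {G : Type u} [Group G] {H : Subgroup G} (hH : ¬ ℓ ∣ H.index) (h : MFree ℓ H) :
    MFree ℓ G := fun _ _ _ hπ => kills_top_of_index hπ hH (kills_of_mfree hπ h)

/-- No `ℓ`-part for every prime: the multiplier is trivial. -/
theorem stem_ker_bot_of_mfree {G : Type u} [Group G] [Finite G]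
    (h : ∀ ℓ : ℕ, ℓ.Prime → MFree ℓ G) {Γ : Type u} [Group Γ] [Finite Γ] {σ : Γ →* G}
    (hσ : Cfsg.IsStemExtension σ) : σ.ker = ⊥ := by
  by_contra hne
  haveI : Nontrivial σ.ker := (Subgroup.nontrivial_iff_ne_bot _).2 hne
  obtain ⟨l, hl, hdvd⟩ := Nat.exists_prime_and_dvd (Finite.one_lt_card (α := σ.ker)).ne'
  haveI := Fact.mk hl
  let _ : CommGroup σ.ker :=
    { (inferInstance : Group σ.ker) with
      mul_comm := fun a b => Subtype.ext (Subgroup.mem_center_iff.1 (hσ.2.1 b.2) a) }
  obtain ⟨z, hz⟩ := exists_prime_orderOf_dvd_card' l hdvd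
  -- kill the complementary part
  set a := (Nat.card σ.ker).factorization l
  set n' := Nat.card σ.ker / l ^ a
  have hn' : ¬ l ∣ n' := Nat.not_dvd_ordCompl hl Nat.card_pos.ne'
  have hmul : l ^ a * n' = Nat.card σ.ker := Nat.ordProj_mul_ordCompl_eq_self _ _
  set N : Subgroup σ.ker := (powMonoidHom n' : σ.ker →* σ.ker).ker
  haveI : (N.map σ.ker.subtype).Normal := ⟨fun x hx g => by
    obtain ⟨y, hy, rfl⟩ := hx
    rw [show σ.ker.subtype y = (y : Γ) from rfl, Subgroup.mem_center_iff.1 (hσ.2.1 y.2) g,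
      mul_inv_cancel_right]
    exact ⟨y, hy, rfl⟩⟩
  set N' := N.map σ.ker.subtype with hN'
  have hN'le : N' ≤ σ.ker := Subgroup.map_subtype_le _
  let π : Γ ⧸ N' →* G := QuotientGroup.lift N' σ hN'le
  have hker : ∀ x : Γ, (QuotientGroup.mk x : Γ ⧸ N') ∈ π.ker ↔ x ∈ σ.ker := fun x => Iff.rfl
  have hπ : IsLExt l π := by
    refine ⟨⟨fun g => ?_, fun x hx => ?_⟩, inferInstance, fun x => ?_⟩
    · obtain ⟨b, rfl⟩ := hσ.1 g; exact ⟨QuotientGroup.mk b, rfl⟩
    · obtain ⟨b, rfl⟩ := QuotientGroup.mk_surjective x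
      rw [Subgroup.mem_center_iff]
      intro y
      obtain ⟨c, rfl⟩ := QuotientGroup.mk_surjective y
      rw [← QuotientGroup.mk_mul, ← QuotientGroup.mk_mul,
        Subgroup.mem_center_iff.1 (hσ.2.1 ((hker b).1 hx)) c]
    · obtain ⟨x, hx⟩ := x
      obtain ⟨b, rfl⟩ := QuotientGroup.mk_surjective x
      refine ⟨a, Subtype.ext ?_⟩
      show (QuotientGroup.mk b : Γ ⧸ N') ^ (l ^ a) = 1
      rw [← QuotientGroup.mk_pow, QuotientGroup.eq_one_iff]
      refine ⟨⟨b, (hker b).1 hx⟩ ^ (l ^ a), ?_, by simp⟩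
      rw [SetLike.mem_coe, MonoidHom.mem_ker, powMonoidHom_apply, ← pow_mul, hmul]
      exact pow_card_eq_one'
  have hzc : (QuotientGroup.mk (z : Γ) : Γ ⧸ N') ∈ commutator (Γ ⧸ N') := by
    have : QuotientGroup.mk' N' (z : Γ) ∈ (commutator Γ).map (QuotientGroup.mk' N') :=
      Subgroup.mem_map_of_mem _ (hσ.2.2 z.2)
    rw [commutator_def, Subgroup.map_commutator,
      Subgroup.map_top_of_surjective _ (QuotientGroup.mk'_surjective N')] at this
    exact this
  have h1 := kills_top_iff.1 (h l hl _ π hπ) _ ((hker _).2 z.2) hzc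
  rw [QuotientGroup.eq_one_iff] at h1
  obtain ⟨w, hw, hwz⟩ := h1
  obtain rfl : w = z := Subtype.ext hwz
  rw [SetLike.mem_coe, MonoidHom.mem_ker, powMonoidHom_apply, ← orderOf_dvd_iff_pow_eq_one, hz] at hw
  exact hn' hw

end CfsgLib.KnownA.LGood
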