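import Mathlib
import Cfsg.Agent.Lib.Classical.HermOrder
import Cfsg.Agent.Lib.Classical.SemiUnitary
import Cfsg.Agent.Lib.Classical.SUCenter

/-!
Special unitary groups over an arbitrary finite index set, with block, diagonal and monomial elements.
-/

set_option autoImplicit false
set_option linter.unusedSectionVars false

namespace CfsgLib.KnownA.SUModel

open Matrix CfsgLib.Classical

variable {F : Type*} [Field F] [Fintype F] {q : ℕ} (hF : Fintype.card F = q ^ 2)

/-- Conjugate transpose for `x ↦ x ^ q`. -/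
noncomputable def ct {m n : Type*} (X : Matrix m n F) : Matrix n m F := (X.map (qFrob hF))ᵀ

section ct

variable {l m n o : Type*}

theorem ct_apply (X : Matrix m n F) (i : n) (j : m) : ct hF X i j = qFrob hF (X j i) := rfl

theorem ct_mul [Fintype m] (X : Matrix l m F) (Y : Matrix m n F) : ct hF (X * Y) = ct hF Y * ct hF X := by
  rw [ct, ct, ct, Matrix.map_mul, transpose_mul]

theorem ct_ct (X : Matrix m n F) : ct hF (ct hF X) = X := by ext i j; simp [ct_apply, qFrob_qFrob]

theorem ct_one [DecidableEq n] : ct hF (1 : Matrix n n F) = 1 := by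
  rw [ct, Matrix.map_one _ (map_zero _) (map_one _), transpose_one]

theorem ct_zero : ct hF (0 : Matrix m n F) = 0 := by ext i j; simp [ct_apply]

theorem ct_add (X Y : Matrix m n F) : ct hF (X + Y) = ct hF X + ct hF Y := by
  ext i j; simp [ct_apply]

theorem ct_neg (X : Matrix m n F) : ct hF (-X) = -ct hF X := by ext i j; simp [ct_apply]

theorem ct_sub (X Y : Matrix m n F) : ct hF (X - Y) = ct hF X - ct hF Y := by
  ext i j; simp [ct_apply]

theorem ct_smul (c : F) (X : Matrix m n F) : ct hF (c • X) = qFrob hF c • ct hF X := by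
  ext i j; simp [ct_apply]

theorem ct_submatrix (X : Matrix m n F) (a : l → m) (b : o → n) :
    ct hF (X.submatrix a b) = (ct hF X).submatrix b a := rfl

theorem ct_fromBlocks (A : Matrix l n F) (B : Matrix l o F) (C : Matrix m n F) (D : Matrix m o F) :
    ct hF (fromBlocks A B C D) = fromBlocks (ct hF A) (ct hF C) (ct hF B) (ct hF D) := by
  simp [ct, fromBlocks_map, fromBlocks_transpose]

theorem ct_blockDiagonal [DecidableEq o] (A : o → Matrix m n F) :
    ct hF (blockDiagonal A) = blockDiagonal fun i => ct hF (A i) := by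
  simp [ct, blockDiagonal_map, blockDiagonal_transpose]

theorem ct_diagonal [DecidableEq n] (d : n → F) : ct hF (diagonal d) = diagonal fun i => qFrob hF (d i) := by
  rw [ct, diagonal_map (map_zero _), diagonal_transpose]

end ct

variable (ι : Type) [Fintype ι] [DecidableEq ι]

/-- The special unitary group on `ι`. -/
def sug : Subgroup (Matrix.SpecialLinearGroup ι F) where
  carrier := {g | ct hF (g : Matrix ι ι F) * (g : Matrix ι ι F) = 1}
  one_mem' := by simp [ct_one]
  mul_mem' := fun {a b} ha hb => by
    show ct hF ((a : Matrix ι ι F) * (b : Matrix ι ι F)) * ((a : Matrix ι ι F) * (b : Matrix ι ι F)) = 1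
    rw [ct_mul, Matrix.mul_assoc, ← Matrix.mul_assoc (ct hF (a : Matrix ι ι F)),
      show ct hF (a : Matrix ι ι F) * (a : Matrix ι ι F) = 1 from ha, Matrix.one_mul,
      show ct hF (b : Matrix ι ι F) * (b : Matrix ι ι F) = 1 from hb]
  inv_mem' := fun {a} ha => by
    have h1 : ct hF (a : Matrix ι ι F) * (a : Matrix ι ι F) = 1 := ha
    have h2 : ((a⁻¹ : Matrix.SpecialLinearGroup ι F) : Matrix ι ι F) = ct hF (a : Matrix ι ι F) := by
      refine (left_inv_eq_right_inv h1 ?_).symm
      rw [← Matrix.SpecialLinearGroup.coe_mul, mul_inv_cancel, Matrix.SpecialLinearGroup.coe_one]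
    show ct hF ((a⁻¹ : Matrix.SpecialLinearGroup ι F) : Matrix ι ι F) * _ = 1
    rw [h2, ct_ct]
    exact mul_eq_one_comm.1 h1

variable {ι}

/-- The matrix of an element. -/
def mat : sug hF ι →* Matrix ι ι F where
  toFun g := ((g : Matrix.SpecialLinearGroup ι F) : Matrix ι ι F)
  map_one' := rfl
  map_mul' _ _ := rfl

theorem mat_injective : Function.Injective (mat hF : sug hF ι → Matrix ι ι F) :=
  fun _ _ h => Subtype.ext (Subtype.ext h)

/-- Elements from matrices. -/
def mk (X : Matrix ι ι F) (h : ct hF X * X = 1) (hd : X.det = 1) : sug hF ι := ⟨⟨X, hd⟩, h⟩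

@[simp] theorem mat_mk (X : Matrix ι ι F) (h : ct hF X * X = 1) (hd : X.det = 1) :
    mat hF (mk hF X h hd) = X := rfl

theorem ct_mat (g : sug hF ι) : ct hF (mat hF g) * mat hF g = 1 := g.2

theorem det_mat (g : sug hF ι) : (mat hF g).det = 1 := g.1.2

theorem mat_inv (g : sug hF ι) : mat hF g⁻¹ = ct hF (mat hF g) :=
  (left_inv_eq_right_inv (ct_mat hF g) (by rw [← map_mul, mul_inv_cancel, map_one])).symm

theorem mat_mul_ct (g : sug hF ι) : mat hF g * ct hF (mat hF g) = 1 :=
  mul_eq_one_comm.1 (ct_mat hF g)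

theorem sug_eq_su (n : ℕ) : sug hF (Fin n) = Cfsg.SU n F q := by
  ext g
  constructor
  · intro h
    rw [mem_su_iff hF]
    have h' := congrArg Matrix.transpose
      (show ct hF (g : Matrix (Fin n) (Fin n) F) * (g : Matrix (Fin n) (Fin n) F) = 1 from h)
    rwa [transpose_mul, ct, transpose_transpose, transpose_one] at h'
  · intro h
    rw [mem_su_iff hF] at h
    have h' := congrArg Matrix.transpose h
    rw [transpose_mul, transpose_transpose, transpose_one] at h'
    exact h'

/-- Renaming the index set. -/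
noncomputable def reindexSU {κ : Type} [Fintype κ] [DecidableEq κ] (e : ι ≃ κ) : sug hF ι ≃* sug hF κ where
  toFun g := mk hF (reindex e e (mat hF g))
    (by rw [reindex_apply, ct_submatrix, submatrix_mul_equiv, ct_mat, submatrix_one_equiv])
    (by rw [det_reindex_self, det_mat])
  invFun g := mk hF (reindex e.symm e.symm (mat hF g))
    (by rw [reindex_apply, ct_submatrix, submatrix_mul_equiv, ct_mat, submatrix_one_equiv])
    (by rw [det_reindex_self, det_mat])
  left_inv g := mat_injective hF (by simp [reindex_apply])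
  right_inv g := mat_injective hF (by simp [reindex_apply])
  map_mul' g h := mat_injective hF (by simp [reindex_apply, submatrix_mul_equiv])

theorem mat_reindexSU {κ : Type} [Fintype κ] [DecidableEq κ] (e : ι ≃ κ) (g : sug hF ι) :
    mat hF (reindexSU hF e g) = reindex e e (mat hF g) := rfl

theorem card_sug : Nat.card (sug hF ι) = Nat.card (Cfsg.SU (Fintype.card ι) F q) := by
  rw [Nat.card_congr (reindexSU hF (Fintype.equivFin ι)).toEquiv, sug_eq_su]

section sum

variable {κ : Type} [Fintype κ] [DecidableEq κ]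

/-- Orthogonal sums. -/
noncomputable def suSum : sug hF ι × sug hF κ →* sug hF (ι ⊕ κ) where
  toFun g := mk hF (fromBlocks (mat hF g.1) 0 0 (mat hF g.2))
    (by simp [ct_fromBlocks, fromBlocks_multiply, ct_mat, ct_zero, fromBlocks_one])
    (by rw [det_fromBlocks_zero₁₂, det_mat, det_mat, one_mul])
  map_one' := mat_injective hF (by simp [fromBlocks_one])
  map_mul' g h := mat_injective hF (by simp [fromBlocks_multiply])

theorem mat_suSum (g : sug hF ι × sug hF κ) :
    mat hF (suSum hF g) = fromBlocks (mat hF g.1) 0 0 (mat hF g.2) := rfl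

theorem suSum_injective : Function.Injective (suSum hF (ι := ι) (κ := κ)) := by
  intro g h e
  obtain ⟨h1, -, -, h2⟩ := fromBlocks_inj.1 (congrArg (mat hF) e)
  exact Prod.ext (mat_injective hF h1) (mat_injective hF h2)

end sum

section blocks

variable {k : ℕ}

/-- Block diagonal elements. -/
noncomputable def blk : (Fin k → sug hF ι) →* sug hF (ι × Fin k) where
  toFun A := mk hF (blockDiagonal fun i => mat hF (A i))
    (by
      rw [ct_blockDiagonal, ← blockDiagonal_mul]
      simp only [ct_mat]
      exact blockDiagonal_one)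
    (by rw [det_blockDiagonal]; simp [det_mat])
  map_one' := mat_injective hF (by simp [← Pi.one_def, blockDiagonal_one])
  map_mul' A B := mat_injective hF (by simp [← blockDiagonal_mul])

theorem mat_blk (A : Fin k → sug hF ι) : mat hF (blk hF A) = blockDiagonal fun i => mat hF (A i) := rfl

theorem blk_injective : Function.Injective (blk hF (ι := ι) (k := k)) := by
  intro A B h
  funext i
  have h' : blockDiagonal (fun i => mat hF (A i)) = blockDiagonal fun i => mat hF (B i) := congrArg (mat hF) h
  exact mat_injective hF (congrFun (blockDiagonal_injective h') i)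

end blocks

section elements

/-- Norm one. -/
def NormOne (x : F) : Prop := qFrob hF x * x = 1

theorem NormOne.ne_zero {x : F} (h : NormOne hF x) : x ≠ 0 := fun h0 => by
  simp [NormOne, h0] at h

theorem normOne_one : NormOne hF (1 : F) := by simp [NormOne]

theorem normOne_neg_one : NormOne hF (-1 : F) := by simp [NormOne]

theorem NormOne.mul {x y : F} (hx : NormOne hF x) (hy : NormOne hF y) : NormOne hF (x * y) := by
  unfold NormOne at *; rw [map_mul, mul_mul_mul_comm, hx, hy, one_mul]

theorem NormOne.inv {x : F} (hx : NormOne hF x) : NormOne hF x⁻¹ := by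
  unfold NormOne at *; rw [map_inv₀, ← mul_inv, hx, inv_one]

theorem normOne_iff {x : F} : NormOne hF x ↔ x ^ (q + 1) = 1 := by
  rw [NormOne, qFrob_apply, pow_succ]

/-- A diagonal element. -/
noncomputable def dia (f : ι → F) (h : ∀ i, NormOne hF (f i)) (hp : ∏ i, f i = 1) : sug hF ι :=
  mk hF (diagonal f) (by
    rw [ct_diagonal, diagonal_mul_diagonal, ← diagonal_one]; exact congrArg _ (funext h))
    (by rw [det_diagonal, hp])

theorem mat_dia (f : ι → F) (h : ∀ i, NormOne hF (f i)) (hp : ∏ i, f i = 1) :
    mat hF (dia hF f h hp) = diagonal f := rfl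

theorem perm_mul_transpose (τ : Equiv.Perm ι) :
    (τ.toPEquiv.toMatrix : Matrix ι ι F)ᵀ * (τ.toPEquiv.toMatrix : Matrix ι ι F) = 1 := by
  rw [← PEquiv.toMatrix_symm, ← PEquiv.toMatrix_trans, ← Equiv.toPEquiv_symm, ← Equiv.toPEquiv_trans,
    Equiv.symm_trans_self, Equiv.toPEquiv_refl, PEquiv.toMatrix_refl]

/-- The sign as a scalar. -/
def sgn (τ : Equiv.Perm ι) : F := ((Equiv.Perm.sign τ : ℤ) : F)

theorem sgn_mul_self (τ : Equiv.Perm ι) : sgn τ * sgn τ = (1 : F) := by
  rw [sgn, ← Int.cast_mul, ← Units.val_mul, Int.units_mul_self, Units.val_one, Int.cast_one]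

theorem qFrob_sgn (τ : Equiv.Perm ι) : qFrob hF (sgn τ) = sgn τ := by rw [sgn, map_intCast]

/-- A monomial element: a permutation matrix with one sign. -/
noncomputable def mon (τ : Equiv.Perm ι) (i₀ : ι) : sug hF ι :=
  mk hF ((τ.symm.toPEquiv.toMatrix : Matrix ι ι F) * diagonal (Function.update 1 i₀ (sgn τ)))
    (by
      rw [ct_mul, ct_diagonal, Matrix.mul_assoc, ← Matrix.mul_assoc (ct hF _)]
      have h1 : ct hF (τ.symm.toPEquiv.toMatrix : Matrix ι ι F) = (τ.symm.toPEquiv.toMatrix : Matrix ι ι F)ᵀ := by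
        ext i j; simp [ct_apply, PEquiv.toMatrix_apply, apply_ite (qFrob hF)]
      rw [h1, perm_mul_transpose, Matrix.one_mul, diagonal_mul_diagonal, ← diagonal_one]
      congr 1
      funext i
      by_cases h : i = i₀
      · subst h; simp [qFrob_sgn, sgn_mul_self]
      · simp [h])
    (by
      rw [det_mul, det_diagonal, Finset.prod_update_of_mem (Finset.mem_univ _)]
      simp only [Pi.one_apply, Finset.prod_const_one, mul_one]
      rw [det_permutation, Equiv.Perm.sign_symm]
      exact sgn_mul_self τ)

theorem mat_mon (τ : Equiv.Perm ι) (i₀ : ι) : mat hF (mon hF τ i₀) =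
    (τ.symm.toPEquiv.toMatrix : Matrix ι ι F) * diagonal (Function.update 1 i₀ (sgn τ)) := rfl

theorem mon_conj_dia (τ : Equiv.Perm ι) (i₀ : ι) (f : ι → F) (h : ∀ i, NormOne hF (f i))
    (hp : ∏ i, f i = 1) :
    mon hF τ i₀ * dia hF f h hp * (mon hF τ i₀)⁻¹ =
      dia hF (fun i => f (τ.symm i)) (fun i => h _) (by rw [← hp]; exact Equiv.prod_comp τ.symm f) := by
  rw [mul_inv_eq_iff_eq_mul]
  refine mat_injective hF ?_
  rw [map_mul, map_mul, mat_mon, mat_dia, mat_dia, Matrix.mul_assoc, diagonal_mul_diagonal,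
    ← Matrix.mul_assoc, PEquiv.toMatrix_toPEquiv_mul]
  ext i j
  rw [submatrix_apply, id, diagonal_apply, Matrix.mul_apply, Finset.sum_eq_single j]
  · rw [diagonal_apply_eq, diagonal_mul, PEquiv.toMatrix_apply]
    by_cases hij : τ.symm i = j
    · simp [hij]; ring
    · simp [hij, mul_comm]
  · intro b _ hb; rw [diagonal_apply_ne _ hb, mul_zero]
  · simp

end elements

end CfsgLib.KnownA.SUModel
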