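import Mathlib
import Cfsg.Agent.Lib.KnownA.SUModel
import Cfsg.Agent.Lib.Classical.GraphPSUMain

/-!
Small facts about a field with `q²` elements.
-/

set_option autoImplicit false
set_option linter.unusedSectionVars false

namespace CfsgLib.KnownA.SUFieldTools

open CfsgLib.Classical CfsgLib.KnownA.SUModel

variable {F : Type*} [Field F] [Fintype F] {q : ℕ} (hF : Fintype.card F = q ^ 2)

local notation "σ" => qFrob hF

/-- A proper subring has at most `q` elements. -/
theorem card_le_of_ne_top (hF : Fintype.card F = q ^ 2) (S : Subring F) (h : S ≠ ⊤) : Nat.card S ≤ q := by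
  have := Fintype.ofFinite S
  let _ : Field S := (Finite.isField_of_domain (R := S)).toField
  have hF2 : (Nat.card S) ^ Module.finrank S F = q ^ 2 := by
    rw [← Module.natCard_eq_pow_finrank, Nat.card_eq_fintype_card, hF]
  have hd : 2 ≤ Module.finrank S F := by
    by_contra hlt
    have hpos : 0 < Module.finrank S F := Module.finrank_pos
    rw [show Module.finrank S F = 1 by omega, pow_one] at hF2
    refine h (SetLike.ext' ?_)
    rw [Subring.coe_top]
    refine Set.eq_of_subset_of_ncard_le (Set.subset_univ _) (le_of_eq ?_)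
    rw [Set.ncard_univ, Nat.card_eq_fintype_card, hF, ← hF2, ← Nat.card_coe_set_eq]
    rfl
  have h1 : 1 ≤ Nat.card S := Nat.card_pos
  exact (Nat.pow_le_pow_iff_left two_ne_zero).1 (hF2 ▸ Nat.pow_le_pow_right h1 hd)

/-- An element generating the field. -/
theorem closure_eq_top (hF : Fintype.card F = q ^ 2) {w : F} (h0 : w ≠ 0)
    (h : ∀ j, 1 ≤ j → j < q → w ^ j ≠ 1) : Subring.closure ({w} : Set F) = ⊤ := by
  by_contra hne
  set S := Subring.closure ({w} : Set F)
  have hc := card_le_of_ne_top hF S hne
  have := Fintype.ofFinite S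
  let _ : Field S := (Finite.isField_of_domain (R := S)).toField
  have hw : w ∈ S := Subring.subset_closure rfl
  have h1 : (⟨w, hw⟩ : S) ^ (Fintype.card S - 1) = 1 :=
    FiniteField.pow_card_sub_one_eq_one _ fun e => h0 (congrArg Subtype.val e)
  rw [Nat.card_eq_fintype_card] at hc
  have h2 : 2 ≤ Fintype.card S := Fintype.one_lt_card
  refine h (Fintype.card S - 1) (by omega) (by omega) ?_
  have := congrArg Subtype.val h1
  simpa using this

/-- A generator of the multiplicative group. -/
theorem exists_gen (hF : Fintype.card F = q ^ 2) :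
    ∃ g : F, g ≠ 0 ∧ ∀ j : ℕ, g ^ j = 1 → (q - 1) * (q + 1) ∣ j := by
  obtain ⟨g, hg⟩ := IsCyclic.exists_generator (α := Fˣ)
  refine ⟨(g : F), g.ne_zero, fun j hj => ?_⟩
  rw [← units_card_sq hF, ← orderOf_eq_card_of_forall_mem_zpowers hg]
  exact orderOf_dvd_of_pow_eq_one (Units.ext (by simpa using hj))

/-- A generator of the norm one group. -/
theorem exists_normOne_gen :
    ∃ c : F, NormOne hF c ∧ ∀ j : ℕ, c ^ j = 1 → q + 1 ∣ j := by
  obtain ⟨g, hg0, hg⟩ := exists_gen hF
  have hq := two_le_of_card_sq hF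
  refine ⟨g ^ (q - 1), (normOne_iff hF).2 ?_, fun j hj => ?_⟩
  · have := FiniteField.pow_card_sub_one_eq_one g hg0
    rw [← pow_mul, show (q - 1) * (q + 1) = Fintype.card F - 1 by
      rw [hF, mul_comm]; simpa [sq] using (Nat.sq_sub_sq q 1).symm]
    exact this
  · rw [← pow_mul] at hj
    exact Nat.dvd_of_mul_dvd_mul_left (by omega) (hg _ hj)

/-- An additive subgroup containing all elements of norm one is everything. -/
theorem normOne_span (A : AddSubgroup F) (h : ∀ c, NormOne hF c → c ∈ A) : A = ⊤ := by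
  obtain ⟨c, hc, hcj⟩ := exists_normOne_gen hF
  have hq := two_le_of_card_sq hF
  have htop := closure_eq_top hF hc.ne_zero fun j h1 h2 hj => by
    have := Nat.le_of_dvd (by omega) (hcj j hj); omega
  let M : Submonoid F :=
    { carrier := {x | NormOne hF x}, one_mem' := normOne_one hF, mul_mem' := fun ha hb => ha.mul hF hb }
  rw [eq_top_iff]
  intro x _
  have hx : x ∈ Subring.closure (M : Set F) :=
    Subring.closure_mono (Set.singleton_subset_iff.2 (show c ∈ M from hc)) (htop ▸ Subring.mem_top x)
  rw [Subring.mem_closure_iff, M.closure_eq] at hx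
  exact (AddSubgroup.closure_le A).2 (fun y hy => h y hy) hx

theorem exists_normOne_pow_ne (n : ℕ) (hn : n ≠ 0) (hnq : n < q + 1) :
    ∃ c : F, NormOne hF c ∧ c ^ n ≠ 1 := by
  obtain ⟨c, hc, hcj⟩ := exists_normOne_gen hF
  exact ⟨c, hc, fun h => by have := Nat.le_of_dvd (by omega) (hcj n h); omega⟩

/-- Norms surject onto the fixed elements. -/
theorem exists_norm_eq {z : F} (hz : σ z = z) : ∃ x, σ x * x = z := by
  by_cases h0 : z = 0
  · exact ⟨0, by simp [h0]⟩
  have h := card_norm_fibre hF h0 (by rw [← qFrob_apply hF]; exact hz)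
  obtain ⟨⟨x, hx⟩⟩ := (Nat.card_pos_iff.1 (show 0 < Nat.card {x : F // x ^ (q + 1) = z} by omega)).1
  exact ⟨x, by rw [qFrob_apply, ← pow_succ]; exact hx⟩

/-- Every trace zero element is `σ s - s`. -/
theorem exists_antisymm {z : F} (hz : z + σ z = 0) : ∃ s, σ s - s = z := by
  obtain ⟨t, ht⟩ := exists_qFrob_trace_one hF
  refine ⟨-(t * z), ?_⟩
  rw [map_neg, map_mul, show σ z = -z by linear_combination hz]
  linear_combination z * ht

/-- An endomorphism inverting a generator. -/
theorem false_of_inv (θ : F →+* F) {w : F} (h0 : w ≠ 0) (htop : Subring.closure ({w} : Set F) = ⊤)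
    (hw : θ w = w⁻¹) (h2 : w ^ 2 ≠ 1) (hN : σ w * w ≠ 1) : False := by
  let e : F ≃+* F := RingEquiv.ofBijective θ ⟨θ.injective, Finite.injective_iff_surjective.1 θ.injective⟩
  have he : orderOf e = 2 := by
    refine orderOf_eq_prime ?_ fun h => ?_
    · have h' : θ.comp θ = RingHom.id F := by
        refine RingHom.eq_of_eqOn_set_top fun x _ => ?_
        have : Set.EqOn (θ.comp θ) (RingHom.id F) (Subring.closure ({w} : Set F)) :=
          RingHom.eqOn_set_closure (fun y hy => by rw [Set.mem_singleton_iff.1 hy]; simp [hw])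
        exact this (htop ▸ Subring.mem_top x)
      rw [sq]
      exact RingEquiv.ext fun x => DFunLike.congr_fun h' x
    · have := RingEquiv.congr_fun h w
      rw [show e w = θ w from rfl, hw, RingAut.one_apply] at this
      refine h2 ?_
      rw [sq]
      conv_lhs => arg 1; rw [← this]
      exact inv_mul_cancel₀ h0
  refine hN ?_
  have := RingEquiv.congr_fun (CfsgLib.Classical.GraphForm.eq_frobQ hF he) w
  rw [show e w = θ w from rfl, hw, CfsgLib.KnownC.frobQ_apply] at this
  rw [qFrob_apply, ← this, inv_mul_cancel₀ h0]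

end CfsgLib.KnownA.SUFieldTools
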