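import Mathlib
import Cfsg.Agent.Lib.KnownA.SUModel

/-!
The stabiliser of an isotropic point in a special unitary group: the radical, a torus and the Levi part.
-/

set_option autoImplicit false
set_option linter.unusedSectionVars false

namespace CfsgLib.KnownA.SUHeis

open Matrix CfsgLib.Classical CfsgLib.KnownA.SUModel

variable {F : Type*} [Field F] [Fintype F] {q : ℕ} (hF : Fintype.card F = q ^ 2)

local notation "σ" => qFrob hF

/-- The Hermitian product. -/
noncomputable def hd {ι : Type} [Fintype ι] (a b : ι → F) : F := (fun i => σ (a i)) ⬝ᵥ b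

/-- Rank one matrices `a b^H`. -/
noncomputable def op {ι κ : Type} (a : ι → F) (b : κ → F) : Matrix ι κ F := vecMulVec a fun i => σ (b i)

section op

variable {ι κ μ' : Type} [Fintype ι] [Fintype κ]

theorem op_apply (a : ι → F) (b : κ → F) (i : ι) (j : κ) : op hF a b i j = a i * σ (b j) := rfl

theorem ct_op (a : ι → F) (b : κ → F) : ct hF (op hF a b) = op hF b a := by
  ext i j; simp [ct_apply, op_apply, qFrob_qFrob, mul_comm]

theorem op_mul_op {ν : Type} (a : ι → F) (b c : κ → F) (d : ν → F) :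
    op hF a b * op hF c d = hd hF b c • op hF a d := by
  rw [op, op, vecMulVec_mul_vecMulVec]
  ext i j; simp [op_apply, vecMulVec_apply, hd]; ring

theorem op_zero_left (b : κ → F) : op hF (0 : ι → F) b = 0 := by ext i j; simp [op_apply]

theorem op_zero_right (a : ι → F) : op hF a (0 : κ → F) = 0 := by ext i j; simp [op_apply]

theorem op_add_left (a a' : ι → F) (b : κ → F) : op hF (a + a') b = op hF a b + op hF a' b := by
  ext i j; simp [op_apply, add_mul]

theorem op_add_right (a : ι → F) (b b' : κ → F) : op hF a (b + b') = op hF a b + op hF a b' := by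
  ext i j; simp [op_apply, mul_add]

theorem op_neg_left (a : ι → F) (b : κ → F) : op hF (-a) b = -op hF a b := by
  ext i j; simp [op_apply]

theorem op_smul_left (c : F) (a : ι → F) (b : κ → F) : op hF (c • a) b = c • op hF a b := by
  ext i j; simp [op_apply, mul_assoc]

theorem op_smul_right (c : F) (a : ι → F) (b : κ → F) : op hF a (c • b) = σ c • op hF a b := by
  ext i j; simp [op_apply]; ring

theorem mul_op {ν : Type} [Fintype ν] (M : Matrix ν ι F) (a : ι → F) (b : κ → F) :
    M * op hF a b = op hF (M *ᵥ a) b := by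
  ext i j; simp [op_apply, Matrix.mul_apply, mulVec, dotProduct, Finset.sum_mul, mul_assoc]

theorem op_mul {ν : Type} [Fintype ν] (a : ι → F) (b : κ → F) (M : Matrix κ ν F) :
    op hF a b * M = op hF a (ct hF M *ᵥ b) := by
  ext i j
  simp only [op_apply, Matrix.mul_apply, mulVec, dotProduct, map_sum, ct_apply, qFrob_qFrob, map_mul,
    Finset.mul_sum]
  exact Finset.sum_congr rfl fun k _ => by ring

theorem hd_self_fixed (v : ι → F) : σ (hd hF v v) = hd hF v v := by
  simp [hd, dotProduct, map_sum, qFrob_qFrob, mul_comm]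

theorem hd_swap (v w : ι → F) : σ (hd hF v w) = hd hF w v := by
  simp [hd, dotProduct, map_sum, qFrob_qFrob, mul_comm]

theorem hd_add_left (a a' b : ι → F) : hd hF (a + a') b = hd hF a b + hd hF a' b := by
  simp [hd, dotProduct, add_mul, Finset.sum_add_distrib]

theorem hd_add_right (a b b' : ι → F) : hd hF a (b + b') = hd hF a b + hd hF a b' := by
  simp [hd, dotProduct, mul_add, Finset.sum_add_distrib]

theorem hd_neg_right (a b : ι → F) : hd hF a (-b) = -hd hF a b := by
  simp [hd, dotProduct, Finset.sum_neg_distrib]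

theorem hd_zero_right (a : ι → F) : hd hF a 0 = 0 := by simp [hd]

theorem hd_zero_left (a : ι → F) : hd hF 0 a = 0 := by simp [hd, dotProduct]

theorem hd_single [DecidableEq ι] (i : ι) (a : F) (v : ι → F) :
    hd hF (Pi.single i a) v = σ a * v i := by
  rw [hd, dotProduct, Finset.sum_eq_single i (fun b _ hb => by simp [hb]) (by simp)]
  simp

end op

/-- A hyperbolic pair in the plane. -/
structure Pair where
  x : Fin 2 → F
  y : Fin 2 → F
  xx : hd hF x x = 0
  yy : hd hF y y = 0
  yx : hd hF y x = 1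
  sum : op hF x y + op hF y x = 1

theorem exists_pair : Nonempty (Pair hF) := by
  obtain ⟨t, ht⟩ := exists_qFrob_trace_one hF
  have hq := two_le_of_card_sq hF
  obtain ⟨γ, hγ⟩ : ∃ γ : F, σ γ * γ = -1 := by
    have h := card_norm_fibre hF (t := (-1 : F)) (by simp) (by rw [← qFrob_apply hF]; simp)
    obtain ⟨⟨γ, hγ⟩⟩ := (Nat.card_pos_iff.1 (show 0 < Nat.card {x : F // x ^ (q + 1) = -1} by omega)).1
    exact ⟨γ, by rw [qFrob_apply, ← pow_succ]; exact hγ⟩
  have hγ0 : γ ≠ 0 := fun h => by simp [h] at hγ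
  have hsγ0 : σ γ ≠ 0 := (map_ne_zero _).2 hγ0
  let x : Fin 2 → F := ![1, γ]
  -- `y₀^H x = 1`
  let β : F := (σ γ)⁻¹
  let y : Fin 2 → F := ![t, β + t * γ]
  have hxx : hd hF x x = 0 := by simp [hd, x, dotProduct, Fin.sum_univ_two, hγ]
  have hβ : σ β = γ⁻¹ := by simp [β, qFrob_qFrob]
  have hyx : hd hF y x = 1 := by
    simp only [hd, x, y, dotProduct, Fin.sum_univ_two, cons_val_zero, cons_val_one, map_add, map_mul, hβ]
    linear_combination (σ t) * hγ + inv_mul_cancel₀ hγ0
  have hxy : hd hF x y = 1 := by rw [← hd_swap hF, hyx, map_one]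
  have hyy : hd hF y y = 0 := by
    simp only [hd, y, dotProduct, Fin.sum_univ_two, cons_val_zero, cons_val_one, map_add, map_mul, hβ]
    have h1 : γ⁻¹ * β = -1 := by
      rw [show γ⁻¹ * β = (σ γ * γ)⁻¹ by simp [β, mul_inv], hγ, inv_neg, inv_one]
    have h2 : σ γ * β = 1 := mul_inv_cancel₀ hsγ0
    linear_combination (σ t * t) * hγ + h1 + ht + (σ t) * h2 + t * inv_mul_cancel₀ hγ0
  refine ⟨⟨x, y, hxx, hyy, hyx, ?_⟩⟩
  set P := op hF x y + op hF y x with hP
  have hP2 : P * P = P := by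
    simp [hP, add_mul, mul_add, op_mul_op, hxx, hyy, hxy, hyx]
  -- `P` is invertible
  let Q : Matrix (Fin 2) (Fin 2) F := of ![![x 0, y 0], ![x 1, y 1]]
  let R : Matrix (Fin 2) (Fin 2) F := of ![![σ (y 0), σ (y 1)], ![σ (x 0), σ (x 1)]]
  have hQR : Q * R = P := by
    ext i j
    fin_cases i <;> fin_cases j <;> simp [Q, R, hP, op_apply, Matrix.mul_apply, Fin.sum_univ_two]
  have hRQ : R * Q = 1 := by
    have e : ∀ a b : Fin 2 → F, σ (a 0) * b 0 + σ (a 1) * b 1 = hd hF a b := fun a b => by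
      simp [hd, dotProduct, Fin.sum_univ_two]
    ext i j
    fin_cases i <;> fin_cases j <;>
      simp [Q, R, Matrix.mul_apply, Fin.sum_univ_two, e, hxx, hyy, hxy, hyx, Matrix.one_apply]
  rw [← hQR]
  exact mul_eq_one_comm.1 hRQ

variable {hF}

theorem Pair.xy (P : Pair hF) : hd hF P.x P.y = 1 := by rw [← hd_swap hF, P.yx, map_one]

section plane

variable (P : Pair hF)

/-- The diagonal elements of the plane. -/
noncomputable def plane (a : F) : Matrix (Fin 2) (Fin 2) F := a • op hF P.x P.y + (σ a)⁻¹ • op hF P.y P.x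

theorem plane_mul (a b : F) : plane P a * plane P b = plane P (a * b) := by
  simp only [plane, add_mul, mul_add, smul_mul_smul_comm, op_mul_op, P.xx, P.yy, P.yx, P.xy, one_smul,
    zero_smul, smul_zero, add_zero, zero_add, map_mul, mul_inv]

theorem plane_one : plane P 1 = 1 := by rw [plane, map_one, inv_one, one_smul, one_smul, P.sum]

theorem plane_mulVec (a : F) : plane P a *ᵥ P.x = a • P.x := by
  have h : ∀ u w : Fin 2 → F, op hF u w *ᵥ P.x = hd hF w P.x • u := fun u w => by
    ext i; simp [op, vecMulVec_mulVec, hd, mul_comm]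
  simp [plane, add_mulVec, smul_mulVec, h, P.yx, P.xx]

theorem ct_plane_mul {a : F} (ha : a ≠ 0) : ct hF (plane P a) * plane P a = 1 := by
  simp only [plane, ct_add, ct_smul, ct_op, map_inv₀, qFrob_qFrob, add_mul, mul_add, smul_mul_smul_comm,
    op_mul_op, P.xx, P.yy, P.yx, P.xy, one_smul, zero_smul, smul_zero, add_zero, zero_add]
  rw [mul_inv_cancel₀ ((map_ne_zero _).2 ha), inv_mul_cancel₀ ha, one_smul, one_smul, P.sum]

theorem det_plane {a : F} (ha : a ≠ 0) : (plane P a).det = a * (σ a)⁻¹ := by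
  let Q : Matrix (Fin 2) (Fin 2) F := of ![![P.x 0, P.y 0], ![P.x 1, P.y 1]]
  let R : Matrix (Fin 2) (Fin 2) F := of ![![σ (P.y 0), σ (P.y 1)], ![σ (P.x 0), σ (P.x 1)]]
  have h1 : plane P a = Q * !![a, 0; 0, (σ a)⁻¹] * R := by
    ext i j
    fin_cases i <;> fin_cases j <;>
      simp [Q, R, plane, op_apply, Matrix.mul_apply, Fin.sum_univ_two, vecHead, vecTail] <;> ring
  have h2 : Q * R = 1 := by
    rw [← P.sum]
    ext i j
    fin_cases i <;> fin_cases j <;> simp [Q, R, op_apply, Matrix.mul_apply, Fin.sum_univ_two]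
  have h3 := congrArg Matrix.det h2
  rw [det_mul, det_one] at h3
  rw [h1, det_mul, det_mul, show Matrix.det !![a, 0; 0, (σ a)⁻¹] = a * (σ a)⁻¹ by simp [det_fin_two]]
  linear_combination (a * (σ a)⁻¹) * h3

end plane

variable (P : Pair hF) {m : ℕ}

/-- The matrix of a radical element. -/
noncomputable def uM (v : Fin m → F) (z : F) : Matrix (Fin 2 ⊕ Fin m) (Fin 2 ⊕ Fin m) F :=
  fromBlocks (1 + z • op hF P.x P.x) (-op hF P.x v) (op hF v P.x) 1

theorem uM_mul (v w : Fin m → F) (z z' : F) :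
    uM P v z * uM P w z' = uM P (v + w) (z + z' - hd hF v w) := by
  rw [uM, uM, uM, fromBlocks_multiply, op_add_left, op_add_right]
  congr 1
  · simp only [add_mul, mul_add, Matrix.one_mul, Matrix.mul_one, Matrix.neg_mul, smul_mul_smul_comm,
      op_mul_op, P.xx, zero_smul, smul_zero, add_zero, sub_smul, add_smul]
    abel
  · simp only [Matrix.add_mul, Matrix.one_mul, Matrix.mul_one, Matrix.smul_mul, Matrix.mul_neg, op_mul_op,
      P.xx, zero_smul, smul_zero, neg_zero, add_zero]
    abel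
  · simp only [Matrix.mul_add, Matrix.one_mul, Matrix.mul_one, Matrix.mul_smul, op_mul_op, P.xx, zero_smul,
      smul_zero, add_zero]
  · simp only [Matrix.mul_one, Matrix.mul_neg, op_mul_op, P.xx, zero_smul, neg_zero, zero_add]

theorem uM_zero : uM P (0 : Fin m → F) 0 = 1 := by
  simp [uM, op_zero_left, op_zero_right, fromBlocks_one]

theorem ct_uM (v : Fin m → F) (z : F) : ct hF (uM P v z) = uM P (-v) (σ z) := by
  rw [uM, uM, ct_fromBlocks, ct_add, ct_one, ct_one, ct_smul, ct_op, ct_neg, ct_op, ct_op]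
  have h : op hF P.x (-v) = -op hF P.x v := by ext i j; simp [op_apply]
  rw [op_neg_left, h, neg_neg]

theorem det_uM (v : Fin m → F) (z : F) : (uM P v z).det = 1 := by
  rw [uM, det_fromBlocks_one₂₂, Matrix.neg_mul, sub_neg_eq_add, op_mul_op, add_assoc, ← add_smul]
  have h : ∀ c : F, (c • op hF P.x P.x) =
      replicateCol Unit (c • P.x) * replicateRow Unit (fun i => σ (P.x i)) := fun c => by
    ext i j; simp [op_apply, Matrix.mul_apply, mul_assoc]
  rw [h, det_one_add_replicateCol_mul_replicateRow, dotProduct_smul,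
    show (fun i => σ (P.x i)) ⬝ᵥ P.x = 0 from P.xx, smul_zero, add_zero]

/-- The parameters of the radical. -/
def Ok (v : Fin m → F) (z : F) : Prop := z + σ z + hd hF v v = 0

/-- A radical element. -/
noncomputable def uEl (v : Fin m → F) (z : F) (h : Ok (hF := hF) v z) : sug hF (Fin 2 ⊕ Fin m) :=
  SUModel.mk hF (uM P v z) (by
    rw [ct_uM, uM_mul, neg_add_cancel,
      show σ z + z - hd hF (-v) v = 0 from ?_, uM_zero]
    rw [show hd hF (-v) v = -hd hF v v by simp [hd, dotProduct, Finset.sum_neg_distrib], sub_neg_eq_add,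
      add_comm (σ z)]
    exact h) (det_uM P v z)

theorem mat_uEl (v : Fin m → F) (z : F) (h : Ok (hF := hF) v z) : mat hF (uEl P v z h) = uM P v z := rfl

theorem Ok.mul {v w : Fin m → F} {z z' : F} (h : Ok (hF := hF) v z) (h' : Ok (hF := hF) w z') :
    Ok (hF := hF) (v + w) (z + z' - hd hF v w) := by
  unfold Ok at *
  rw [map_sub, map_add, hd_swap, hd_add_left, hd_add_right, hd_add_right]
  linear_combination h + h'

theorem uEl_mul {v w : Fin m → F} {z z' : F} (h : Ok (hF := hF) v z) (h' : Ok (hF := hF) w z') :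
    uEl P v z h * uEl P w z' h' = uEl P (v + w) (z + z' - hd hF v w) (h.mul h') :=
  mat_injective hF (by rw [map_mul, mat_uEl, mat_uEl, mat_uEl, uM_mul])

theorem Ok.neg {v : Fin m → F} {z : F} (h : Ok (hF := hF) v z) : Ok (hF := hF) (-v) (σ z) := by
  unfold Ok at *
  rw [qFrob_qFrob, hd_neg_right,
    show hd hF (-v) v = -hd hF v v by simp [hd, dotProduct, Finset.sum_neg_distrib], neg_neg]
  linear_combination h

theorem uEl_inv {v : Fin m → F} {z : F} (h : Ok (hF := hF) v z) :
    (uEl P v z h)⁻¹ = uEl P (-v) (σ z) h.neg :=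
  mat_injective hF (by rw [mat_inv, mat_uEl, mat_uEl, ct_uM])

theorem ok_zero : Ok (hF := hF) (0 : Fin m → F) (0 : F) := by simp [Ok, hd_zero_right]

theorem uEl_zero : uEl P (0 : Fin m → F) 0 ok_zero = 1 := mat_injective hF (by rw [mat_uEl, uM_zero, map_one])

/-- The radical. -/
noncomputable def U : Subgroup (sug hF (Fin 2 ⊕ Fin m)) where
  carrier := {g | ∃ v z, mat hF g = uM P v z ∧ Ok (hF := hF) v z}
  one_mem' := ⟨0, 0, by rw [map_one, uM_zero], ok_zero⟩
  mul_mem' := by
    rintro a b ⟨v, z, h1, h2⟩ ⟨w, z', h3, h4⟩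
    exact ⟨_, _, by rw [map_mul, h1, h3, uM_mul], h2.mul h4⟩
  inv_mem' := by
    rintro a ⟨v, z, h1, h2⟩
    exact ⟨_, _, by rw [mat_inv, h1, ct_uM], h2.neg⟩

theorem mem_U {g : sug hF (Fin 2 ⊕ Fin m)} :
    g ∈ U P (m := m) ↔ ∃ v z, ∃ h : Ok (hF := hF) v z, g = uEl P v z h :=
  ⟨fun ⟨v, z, h1, h2⟩ => ⟨v, z, h2, mat_injective hF h1⟩,
    fun ⟨v, z, h, e⟩ => ⟨v, z, e ▸ mat_uEl P v z h, h⟩⟩

theorem uM_injective {v w : Fin m → F} {z z' : F} (h : uM P v z = uM P w z') : v = w ∧ z = z' := by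
  obtain ⟨h1, -, h3, -⟩ := fromBlocks_inj.1 h
  have hy : ∀ {ι : Type} (a : ι → F) (M : Matrix ι (Fin 2) F), M = op hF a P.x → M *ᵥ P.y = a := by
    rintro ι a M rfl
    ext i
    rw [show (op hF a P.x *ᵥ P.y) i = a i * hd hF P.x P.y by
      simp [op_apply, mulVec, hd, dotProduct, mul_assoc, mul_add], P.xy, mul_one]
  refine ⟨(hy v _ rfl).symm.trans (by rw [h3]; exact hy w _ rfl), ?_⟩
  have h1' := add_left_cancel h1
  rw [← op_smul_left, ← op_smul_left] at h1'
  have e := (hy _ _ rfl).symm.trans ((congrArg (· *ᵥ P.y) h1').trans (hy _ _ rfl))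
  have e' := congrArg (fun u => hd hF P.y u) e
  simpa [hd, dotProduct_smul, show (fun i => σ (P.y i)) ⬝ᵥ P.x = 1 from P.yx] using e'

/-- The diagonal part of the parabolic subgroup. -/
noncomputable def torGrp (m : ℕ) : Subgroup (Fˣ × (Fin m → Fˣ)) where
  carrier := {p | (∀ i, NormOne hF (p.2 i : F)) ∧ (p.1 : F) * (σ (p.1 : F))⁻¹ * ∏ i, (p.2 i : F) = 1}
  one_mem' := ⟨fun i => normOne_one hF, by simp⟩
  mul_mem' := fun {a b} ha hb => ⟨fun i => by
      simpa using (ha.1 i).mul hF (hb.1 i), by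
      simp only [Prod.fst_mul, Prod.snd_mul, Pi.mul_apply, Units.val_mul, map_mul, mul_inv,
        Finset.prod_mul_distrib]
      have := congrArg₂ (· * ·) ha.2 hb.2
      simp only [mul_one] at this
      linear_combination this⟩
  inv_mem' := fun {a} ha => ⟨fun i => by
      simpa using (ha.1 i).inv hF, by
      simp only [Prod.fst_inv, Prod.snd_inv, Pi.inv_apply, Units.val_inv_eq_inv_val, map_inv₀,
        Finset.prod_inv_distrib, ← mul_inv, ha.2, inv_one]⟩

/-- Torus elements. -/
noncomputable def tor : torGrp (hF := hF) m →* sug hF (Fin 2 ⊕ Fin m) where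
  toFun p := SUModel.mk hF (fromBlocks (plane P (p.1.1 : F)) 0 0 (diagonal fun i => (p.1.2 i : F)))
    (by
      rw [ct_fromBlocks, fromBlocks_multiply, ct_zero, ct_zero, ct_plane_mul P p.1.1.ne_zero, ct_diagonal,
        diagonal_mul_diagonal]
      simp only [Matrix.zero_mul, Matrix.mul_zero, add_zero, zero_add]
      rw [show (fun i => σ (p.1.2 i : F) * (p.1.2 i : F)) = fun _ => 1 from funext p.2.1, diagonal_one,
        fromBlocks_one])
    (by rw [det_fromBlocks_zero₂₁, det_plane P p.1.1.ne_zero, det_diagonal]; exact p.2.2)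
  map_one' := mat_injective hF (by simp [plane_one, diagonal_one, fromBlocks_one])
  map_mul' p p' := mat_injective hF (by simp [fromBlocks_multiply, plane_mul, diagonal_mul_diagonal])

theorem mat_tor (p : torGrp (hF := hF) m) :
    mat hF (tor P p) = fromBlocks (plane P (p.1.1 : F)) 0 0 (diagonal fun i => (p.1.2 i : F)) := rfl

theorem conj_uM {A : Matrix (Fin 2) (Fin 2) F} {M : Matrix (Fin m) (Fin m) F} {a : F}
    (hA : A * ct hF A = 1) (hM : M * ct hF M = 1) (hx : A *ᵥ P.x = a • P.x) (v : Fin m → F) (z : F) :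
    fromBlocks A 0 0 M * uM P v z * ct hF (fromBlocks A 0 0 M) =
      uM P (σ a • (M *ᵥ v)) (a * σ a * z) := by
  rw [ct_fromBlocks, ct_zero, ct_zero, uM, uM, fromBlocks_multiply, fromBlocks_multiply]
  congr 1
  · simp only [Matrix.zero_mul, Matrix.mul_zero, add_zero, mul_add, Matrix.mul_one, add_mul, hA,
      mul_smul_comm, smul_mul_assoc, mul_op, op_mul, ct_ct, hx, op_smul_left, op_smul_right, smul_smul,
      zero_mulVec, op_zero_left, smul_zero, add_zero]
    ring_nf
  · simp only [Matrix.zero_mul, Matrix.mul_zero, add_zero, zero_add, Matrix.mul_neg, Matrix.neg_mul, mul_op,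
      op_mul, ct_ct, hx, op_smul_left, op_smul_right, qFrob_qFrob, Matrix.smul_mul]
  · simp only [Matrix.zero_mul, Matrix.mul_zero, add_zero, zero_add, mul_op, op_mul, ct_ct, hx,
      op_smul_left, op_smul_right]
  · simp only [Matrix.zero_mul, Matrix.mul_zero, add_zero, zero_add, Matrix.mul_one, hM]

theorem Ok.scale {v : Fin m → F} {z : F} (h : Ok (hF := hF) v z) {M : Matrix (Fin m) (Fin m) F}
    (hM : ct hF M * M = 1) (a : F) : Ok (hF := hF) (σ a • (M *ᵥ v)) (a * σ a * z) := by
  have e : hd hF (M *ᵥ v) (M *ᵥ v) = hd hF v v := by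
    have h1 : (fun i => σ ((M *ᵥ v) i)) = (fun i => σ (v i)) ᵥ* ct hF M := by
      funext i; simp [mulVec, vecMul, dotProduct, ct_apply, map_sum, mul_comm]
    rw [hd, hd, h1, ← dotProduct_mulVec, mulVec_mulVec, hM, one_mulVec]
  have e2 : hd hF (σ a • (M *ᵥ v)) (σ a • (M *ᵥ v)) = a * σ a * hd hF v v := by
    rw [← e]; simp [hd, dotProduct, Finset.mul_sum, qFrob_qFrob]; exact Finset.sum_congr rfl fun i _ => by ring
  unfold Ok at *
  rw [e2, map_mul, map_mul, qFrob_qFrob]
  linear_combination (a * σ a) * h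

/-- The Levi embedding. -/
noncomputable def lev : sug hF (Fin m) →* sug hF (Fin 2 ⊕ Fin m) :=
  (suSum hF).comp (MonoidHom.inr _ _)

theorem mat_lev (g : sug hF (Fin m)) : mat hF (lev g : sug hF (Fin 2 ⊕ Fin m)) =
    fromBlocks 1 0 0 (mat hF g) := by
  simp [lev, mat_suSum]

theorem lev_injective : Function.Injective (lev (hF := hF) (m := m)) :=
  (suSum_injective hF).comp fun a b h => congrArg Prod.snd h

theorem lev_conj (g : sug hF (Fin m)) {v : Fin m → F} {z : F} (h : Ok (hF := hF) v z) :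
    ∃ h' : Ok (hF := hF) (mat hF g *ᵥ v) z,
      lev g * uEl P v z h * (lev g)⁻¹ = uEl P (mat hF g *ᵥ v) z h' := by
  have h' := h.scale (ct_mat hF g) 1
  simp only [map_one, one_smul, one_mul] at h'
  refine ⟨h', mat_injective hF ?_⟩
  rw [map_mul, map_mul, mat_inv, mat_lev, mat_uEl, mat_uEl,
    conj_uM P (a := 1) (by rw [ct_one, Matrix.one_mul]) (mat_mul_ct hF g) (by simp), map_one, one_smul,
    one_mul, one_mul]

theorem tor_conj (p : torGrp (hF := hF) m) {v : Fin m → F} {z : F} (h : Ok (hF := hF) v z) :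
    ∃ h' : Ok (hF := hF) (fun i => σ (p.1.1 : F) * (p.1.2 i : F) * v i) ((p.1.1 : F) * σ (p.1.1 : F) * z),
      tor P p * uEl P v z h * (tor P p)⁻¹ =
        uEl P (fun i => σ (p.1.1 : F) * (p.1.2 i : F) * v i) ((p.1.1 : F) * σ (p.1.1 : F) * z) h' := by
  have hd' : ct hF (diagonal fun i => (p.1.2 i : F)) * diagonal (fun i => (p.1.2 i : F)) = 1 := by
    rw [ct_diagonal, diagonal_mul_diagonal, ← diagonal_one]; exact congrArg _ (funext p.2.1)
  have e : (fun i => σ (p.1.1 : F) * (p.1.2 i : F) * v i) =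
      σ (p.1.1 : F) • (diagonal (fun i => (p.1.2 i : F)) *ᵥ v) := by
    funext i; simp [mulVec_diagonal, mul_assoc]
  have h' := h.scale hd' (p.1.1 : F)
  rw [← e] at h'
  refine ⟨h', mat_injective hF ?_⟩
  rw [map_mul, map_mul, mat_inv, mat_tor, mat_uEl, mat_uEl,
    conj_uM P (a := (p.1.1 : F)) (mul_eq_one_comm.1 (ct_plane_mul P p.1.1.ne_zero)) (mul_eq_one_comm.1 hd')
      (plane_mulVec P _), ← e]

theorem tor_comm_lev (p : torGrp (hF := hF) m) (g : sug hF (Fin m))
    (h : diagonal (fun i => (p.1.2 i : F)) * mat hF g = mat hF g * diagonal fun i => (p.1.2 i : F)) :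
    tor P p * lev g = lev g * tor P p :=
  mat_injective hF (by simp [mat_tor, mat_lev, fromBlocks_multiply, h])

end CfsgLib.KnownA.SUHeis
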