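import Mathlib

/-!
Valuations of products of numbers `Q ^ i - 1`.
-/

set_option autoImplicit false
set_option linter.unusedSectionVars false

namespace CfsgLib.KnownA.PowPredVal

variable {ℓ q : ℕ} [hℓ : Fact ℓ.Prime]

/-- Lifting the exponent for `q²`. -/
theorem val_pow_mul (hq : 2 ≤ q) {d : ℕ} (hd : d ≠ 0) (h : ℓ ∣ (q ^ 2) ^ d - 1) {j : ℕ} (hj : j ≠ 0) :
    padicValNat ℓ ((q ^ 2) ^ (d * j) - 1) = padicValNat ℓ ((q ^ 2) ^ d - 1) + padicValNat ℓ j := by
  have hone : 1 < (q ^ 2) ^ d := Nat.one_lt_pow hd (Nat.one_lt_pow two_ne_zero (by omega))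
  rcases hℓ.out.eq_two_or_odd' with rfl | hodd
  · set x := q ^ d
    have hx : 1 < x := Nat.one_lt_pow hd (by omega)
    have e : ∀ i, (q ^ 2) ^ (d * i) = x ^ (2 * i) := fun i => by
      simp only [x, ← pow_mul]; congr 1; ring
    have e1 := e 1
    rw [mul_one, mul_one] at e1
    rw [e1] at h hone ⊢
    rw [e j]
    have hxo : ¬ 2 ∣ x := fun hd2 => by
      have h3 : 2 ∣ x ^ 2 := dvd_pow hd2 two_ne_zero
      have := Nat.dvd_sub h3 h
      rw [Nat.sub_sub_self hone.le] at this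
      omega
    have h1 := padicValNat.pow_two_sub_one hx hxo (n := 2 * j) (by omega) (even_two_mul j)
    have h2 := padicValNat.pow_two_sub_one hx hxo (n := 2) two_ne_zero even_two
    rw [padicValNat.mul two_ne_zero hj] at h1
    omega
  · have hx : ¬ ℓ ∣ (q ^ 2) ^ d := fun hd2 => by
      have := Nat.dvd_sub hd2 h
      rw [Nat.sub_sub_self hone.le] at this
      exact hℓ.out.one_lt.ne' (Nat.dvd_one.1 this)
    rw [pow_mul]
    simpa using padicValNat.pow_sub_pow (p := ℓ) hodd (x := (q ^ 2) ^ d) (y := 1) hone h hx hj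

/-- The multiplicative order of `q²` modulo `ℓ`. -/
noncomputable def ord (ℓ q : ℕ) : ℕ := orderOf ((q ^ 2 : ℕ) : ZMod ℓ)

theorem ord_pos (hℓq : ¬ ℓ ∣ q) : 0 < ord ℓ q := by
  rw [ord, orderOf_pos_iff]
  refine isOfFinOrder_iff_pow_eq_one.2 ⟨ℓ - 1, Nat.sub_pos_of_lt hℓ.out.one_lt,
    ZMod.pow_card_sub_one_eq_one ?_⟩
  rw [Ne, ZMod.natCast_eq_zero_iff]
  exact fun h => hℓq (hℓ.out.dvd_of_dvd_pow h)

theorem dvd_iff (hq : 2 ≤ q) (i : ℕ) : ℓ ∣ (q ^ 2) ^ i - 1 ↔ ord ℓ q ∣ i := by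
  rw [ord, orderOf_dvd_iff_pow_eq_one, ← ZMod.natCast_eq_zero_iff,
    Nat.cast_sub (Nat.one_le_pow i _ (pow_pos (by omega) 2)), Nat.cast_pow, Nat.cast_one]
  exact sub_eq_zero

/-- The valuation of `∏_{i ≤ m} (q^{2i} - 1)`. -/
theorem val_sum (hq : 2 ≤ q) (hℓq : ¬ ℓ ∣ q) (m : ℕ) :
    ∑ i ∈ Finset.range m, padicValNat ℓ ((q ^ 2) ^ (i + 1) - 1) =
      m / ord ℓ q * padicValNat ℓ ((q ^ 2) ^ ord ℓ q - 1) + padicValNat ℓ (m / ord ℓ q).factorial := by
  induction m with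
  | zero => simp
  | succ m ih =>
    rw [Finset.sum_range_succ, ih]
    by_cases hd : ord ℓ q ∣ m + 1
    · obtain ⟨j, hj⟩ := hd
      have hd0 := ord_pos (ℓ := ℓ) hℓq
      have hj0 : j ≠ 0 := by rintro rfl; omega
      have e : m / ord ℓ q = j - 1 := by
        have := Nat.succ_div (a := m) (b := ord ℓ q)
        rw [if_pos ⟨j, hj⟩, hj, Nat.mul_div_cancel_left _ hd0] at this
        omega
      rw [hj, Nat.mul_div_cancel_left _ hd0, val_pow_mul hq hd0.ne' ((dvd_iff hq _).2 dvd_rfl) hj0, e]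
      obtain ⟨j', rfl⟩ : ∃ j', j = j' + 1 := ⟨j - 1, by omega⟩
      rw [Nat.factorial_succ, padicValNat.mul (by omega) (Nat.factorial_ne_zero _), Nat.add_sub_cancel]
      ring
    · rw [Nat.succ_div, if_neg hd, add_zero,
        padicValNat.eq_zero_of_not_dvd (mt (dvd_iff hq _).1 hd), add_zero]

/-- Valuation of a factorial of a prime power. -/
theorem val_factorial_pow (t : ℕ) : ℓ * padicValNat ℓ (ℓ ^ t).factorial + 1 = padicValNat ℓ (ℓ ^ (t + 1)).factorial := by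
  induction t with
  | zero => rw [pow_zero, pow_one]; simpa using (padicValNat_factorial_mul (p := ℓ) 1).symm
  | succ t ih =>
    have h1 : padicValNat ℓ (ℓ ^ (t + 1 + 1)).factorial = padicValNat ℓ (ℓ ^ (t + 1)).factorial + ℓ ^ (t + 1) := by
      rw [pow_succ' ℓ (t + 1)]; exact padicValNat_factorial_mul _
    have h2 : padicValNat ℓ (ℓ ^ (t + 1)).factorial = padicValNat ℓ (ℓ ^ t).factorial + ℓ ^ t := by
      rw [pow_succ' ℓ t]; exact padicValNat_factorial_mul _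
    rw [h1]
    conv_rhs => arg 1; rw [← ih]
    rw [h2, pow_succ']; ring

/-- A binomial coefficient prime to `ℓ`. -/
theorem not_dvd_choose_pow (t r : ℕ) (hr : ¬ ℓ ∣ r) : ¬ ℓ ∣ (ℓ ^ t * r).choose (ℓ ^ t) := by
  induction t with
  | zero => simpa using hr
  | succ t ih =>
    intro hd
    apply ih
    have h := Choose.choose_modEq_choose_mod_mul_choose_div_nat (p := ℓ) (n := ℓ ^ (t + 1) * r) (k := ℓ ^ (t + 1))
    rw [pow_succ', mul_assoc, Nat.mul_mod_right, Nat.mul_mod_right, Nat.choose_self, one_mul,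
      Nat.mul_div_cancel_left _ hℓ.out.pos, Nat.mul_div_cancel_left _ hℓ.out.pos, ← mul_assoc,
      ← pow_succ'] at h
    exact (h.dvd_iff dvd_rfl).1 hd

theorem val_choose {a b : ℕ} (h : ¬ ℓ ∣ (a + b).choose a) :
    padicValNat ℓ a.factorial + padicValNat ℓ b.factorial = padicValNat ℓ (a + b).factorial := by
  have e := Nat.choose_mul_factorial_mul_factorial (show a ≤ a + b by omega)
  rw [Nat.add_sub_cancel_left] at e
  rw [← e, padicValNat.mul (mul_ne_zero (Nat.choose_pos (by omega)).ne' (Nat.factorial_ne_zero _)) (Nat.factorial_ne_zero _),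
    padicValNat.mul (Nat.choose_pos (by omega)).ne' (Nat.factorial_ne_zero _),
    padicValNat.eq_zero_of_not_dvd h, zero_add]

end CfsgLib.KnownA.PowPredVal
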