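import Mathlib
import Cfsg.Agent.Lib.KnownA.PowPredVal
import Cfsg.Agent.Lib.KnownA.SUModel
import Cfsg.Agent.Lib.Classical.SUOrder
import Cfsg.Agent.Lib.KnownC.UnitarySpectrum

/-!
Valuations of the orders of the unitary groups, and elements of large order.
-/

set_option autoImplicit false
set_option linter.unusedSectionVars false

namespace CfsgLib.KnownA.SUArith

open Polynomial CfsgLib.Classical CfsgLib.KnownA.PowPredVal

variable {ℓ q : ℕ} [hℓ : Fact ℓ.Prime]

/-- The factors of the order of `GU_n(q)`. -/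
def e (q k : ℕ) : ℕ := if Even k then q ^ k - 1 else q ^ k + 1

/-- The multiplicative order of `-q` modulo `ℓ`. -/
noncomputable def dU (ℓ q : ℕ) : ℕ := orderOf (-(q : ZMod ℓ))

theorem dU_pos (hℓq : ¬ ℓ ∣ q) : 0 < dU ℓ q := by
  rw [dU, orderOf_pos_iff]
  refine isOfFinOrder_iff_pow_eq_one.2 ⟨ℓ - 1, Nat.sub_pos_of_lt hℓ.out.one_lt,
    ZMod.pow_card_sub_one_eq_one ?_⟩
  rw [neg_ne_zero, Ne, ZMod.natCast_eq_zero_iff]
  exact hℓq

theorem dvd_e_iff (hq : 2 ≤ q) (k : ℕ) : ℓ ∣ e q k ↔ dU ℓ q ∣ k := by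
  rw [dU, orderOf_dvd_iff_pow_eq_one, ← ZMod.natCast_eq_zero_iff, e]
  split_ifs with hk
  · rw [Nat.cast_sub (Nat.one_le_pow k _ (by omega)), Nat.cast_pow, Nat.cast_one, hk.neg_pow]
    exact sub_eq_zero
  · rw [(Nat.not_even_iff_odd.1 hk).neg_pow, Nat.cast_add, Nat.cast_pow, Nat.cast_one, neg_eq_iff_eq_neg]
    exact add_eq_zero_iff_eq_neg

theorem e_pos (hq : 2 ≤ q) {k : ℕ} (hk : k ≠ 0) : e q k ≠ 0 := by
  have := Nat.one_lt_pow hk (show 1 < q by omega)
  rw [e]; split_ifs <;> omega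

theorem val_sq_sub (hq : 2 ≤ q) {d : ℕ} (hd : d ≠ 0) :
    padicValNat ℓ ((q ^ 2) ^ d - 1) = padicValNat ℓ (q ^ d + 1) + padicValNat ℓ (q ^ d - 1) := by
  have := Nat.one_lt_pow hd (show 1 < q by omega)
  rw [← pow_mul, mul_comm 2 d, pow_mul, show (q ^ d) ^ 2 - 1 = (q ^ d + 1) * (q ^ d - 1) by
    simpa using Nat.sq_sub_sq (q ^ d) 1, padicValNat.mul (by omega) (by omega)]

/-- Lifting the exponent, `ℓ` not dividing `q + 1`. -/
theorem val_e_mul (hq : 2 ≤ q) (hℓq : ¬ ℓ ∣ q) (hℓq1 : ¬ ℓ ∣ q + 1) {j : ℕ} (hj : j ≠ 0) :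
    padicValNat ℓ (e q (dU ℓ q * j)) = padicValNat ℓ (e q (dU ℓ q)) + padicValNat ℓ j := by
  have hd := (dU_pos (ℓ := ℓ) hℓq).ne'
  have hdiv := (dvd_e_iff (ℓ := ℓ) hq (dU ℓ q)).2 dvd_rfl
  have hℓ2 : ℓ ≠ 2 := by
    rintro rfl
    rcases Nat.even_or_odd q with ⟨a, ha⟩ | ⟨a, ha⟩
    · exact hℓq ⟨a, by omega⟩
    · exact hℓq1 ⟨a + 1, by omega⟩
  have hodd := hℓ.out.odd_of_ne_two hℓ2
  set d := dU ℓ q
  rcases Nat.even_or_odd d with hde | hdo
  · obtain ⟨c, hc⟩ := hde
    have hc2 : d = 2 * c := by omega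
    have hdj : Even (d * j) := Even.mul_right (show Even d from ⟨c, hc⟩) j
    rw [e, if_pos ⟨c, hc⟩] at hdiv
    have hE : ∀ i, q ^ (d * i) = (q ^ 2) ^ (c * i) := fun i => by rw [← pow_mul, hc2]; congr 1; ring
    have hE1 : q ^ d = (q ^ 2) ^ c := by rw [← pow_mul, hc2]
    rw [e, e, if_pos hdj, if_pos ⟨c, hc⟩, hE, hE1]
    exact val_pow_mul hq (by omega) (hE1 ▸ hdiv) hj
  · rw [e, if_neg (Nat.not_even_iff_odd.2 hdo)] at hdiv
    have hx : ¬ ℓ ∣ q ^ d := fun h => hℓq (hℓ.out.dvd_of_dvd_pow h)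
    rcases Nat.even_or_odd j with ⟨i, hi⟩ | hjo
    · obtain rfl : j = 2 * i := by omega
      rw [e, e, if_pos ((even_two_mul i).mul_left d), if_neg (Nat.not_even_iff_odd.2 hdo)]
      have hdvd : ℓ ∣ (q ^ 2) ^ d - 1 := by
        refine hdiv.trans ⟨q ^ d - 1, ?_⟩
        rw [← pow_mul, mul_comm 2 d, pow_mul]
        simpa using Nat.sq_sub_sq (q ^ d) 1
      rw [show q ^ (d * (2 * i)) = (q ^ 2) ^ (d * i) by rw [← pow_mul]; congr 1; ring,
        val_pow_mul hq hd hdvd (by omega), val_sq_sub hq hd, padicValNat.mul two_ne_zero (by omega)]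
      have h1 : padicValNat ℓ (q ^ d - 1) = 0 := padicValNat.eq_zero_of_not_dvd fun h => by
        have := Nat.dvd_sub hdiv h
        have h1q := Nat.one_le_pow d q (by omega)
        rw [show q ^ d + 1 - (q ^ d - 1) = 2 by omega] at this
        exact hℓ2 ((Nat.prime_dvd_prime_iff_eq hℓ.out Nat.prime_two).1 this)
      have h2 : padicValNat ℓ 2 = 0 := padicValNat.eq_zero_of_not_dvd fun h =>
        hℓ2 ((Nat.prime_dvd_prime_iff_eq hℓ.out Nat.prime_two).1 h)
      omega
    · rw [e, e, if_neg (Nat.not_even_iff_odd.2 (hdo.mul hjo)), if_neg (Nat.not_even_iff_odd.2 hdo), pow_mul]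
      simpa using padicValNat.pow_add_pow (p := ℓ) hodd (x := q ^ d) (y := 1) (by simpa using hdiv) hx hjo

/-- The valuation of the product, `ℓ` not dividing `q + 1`. -/
theorem val_sum_off (hq : 2 ≤ q) (hℓq : ¬ ℓ ∣ q) (hℓq1 : ¬ ℓ ∣ q + 1) (m : ℕ) :
    ∑ i ∈ Finset.range m, padicValNat ℓ (e q (i + 1)) =
      m / dU ℓ q * padicValNat ℓ (e q (dU ℓ q)) + padicValNat ℓ (m / dU ℓ q).factorial := by
  induction m with
  | zero => simp
  | succ m ih =>
    rw [Finset.sum_range_succ, ih]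
    by_cases hd : dU ℓ q ∣ m + 1
    · obtain ⟨j, hj⟩ := hd
      have hd0 := dU_pos (ℓ := ℓ) hℓq
      have hj0 : j ≠ 0 := by rintro rfl; omega
      have e' : m / dU ℓ q = j - 1 := by
        have := Nat.succ_div (a := m) (b := dU ℓ q)
        rw [if_pos ⟨j, hj⟩, hj, Nat.mul_div_cancel_left _ hd0] at this
        omega
      rw [hj, Nat.mul_div_cancel_left _ hd0, val_e_mul hq hℓq hℓq1 hj0, e']
      obtain ⟨j', rfl⟩ : ∃ j', j = j' + 1 := ⟨j - 1, by omega⟩
      rw [Nat.factorial_succ, padicValNat.mul (by omega) (Nat.factorial_ne_zero _), Nat.add_sub_cancel]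
      ring
    · rw [Nat.succ_div, if_neg hd, add_zero,
        padicValNat.eq_zero_of_not_dvd (mt (dvd_e_iff hq _).1 hd), add_zero]

/-- The correction at the prime two. -/
def bU (ℓ q : ℕ) : ℕ := if ℓ = 2 then padicValNat ℓ (q - 1) - 1 else 0

/-- Lifting the exponent, `ℓ` dividing `q + 1`. -/
theorem val_e_on (hq : 2 ≤ q) (h : ℓ ∣ q + 1) {k : ℕ} (hk : k ≠ 0) :
    padicValNat ℓ (e q k) = padicValNat ℓ (q + 1) + padicValNat ℓ k + if Even k then bU ℓ q else 0 := by
  have hℓq : ¬ ℓ ∣ q := fun hd => hℓ.out.not_dvd_one (by simpa using Nat.dvd_sub h hd)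
  rcases Nat.even_or_odd k with hke | hko
  · obtain ⟨j, hj⟩ := hke
    obtain rfl : k = 2 * j := by omega
    rw [e, if_pos (even_two_mul j), if_pos (even_two_mul j), pow_mul]
    have h' : ℓ ∣ (q ^ 2) ^ 1 - 1 := by
      rw [pow_one, show q ^ 2 - 1 = (q + 1) * (q - 1) by simpa using Nat.sq_sub_sq q 1]
      exact h.mul_right _
    have hv := val_pow_mul hq one_ne_zero h' (show j ≠ 0 by omega)
    rw [one_mul, val_sq_sub hq one_ne_zero, pow_one] at hv
    rw [hv, padicValNat.mul two_ne_zero (by omega), bU]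
    split_ifs with h2
    · subst h2
      have : 1 ≤ padicValNat 2 (q - 1) := one_le_padicValNat_of_dvd (by omega) (by omega)
      rw [padicValNat_self]
      omega
    · have h1 : padicValNat ℓ (q - 1) = 0 := padicValNat.eq_zero_of_not_dvd fun hd => by
        have := Nat.dvd_sub h hd
        rw [show q + 1 - (q - 1) = 2 by omega] at this
        exact h2 ((Nat.prime_dvd_prime_iff_eq hℓ.out Nat.prime_two).1 this)
      have h3 : padicValNat ℓ 2 = 0 := padicValNat.eq_zero_of_not_dvd fun hd =>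
        h2 ((Nat.prime_dvd_prime_iff_eq hℓ.out Nat.prime_two).1 hd)
      omega
  · rw [e, if_neg (Nat.not_even_iff_odd.2 hko), if_neg (Nat.not_even_iff_odd.2 hko), add_zero]
    rcases hℓ.out.eq_two_or_odd' with rfl | hodd
    · have hq1 : q % 2 = 1 := by omega
      obtain ⟨i, rfl⟩ := hko
      obtain ⟨G, hG⟩ : q + 1 ∣ q ^ (2 * i + 1) + 1 := by
        have hd := Odd.nat_add_dvd_pow_add_pow q 1 (n := 2 * i + 1) ⟨i, rfl⟩
        rwa [one_pow] at hd
      have hm : q ^ (2 * i + 1) + 1 ≡ q + 1 [MOD 2 * (q + 1)] := by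
        have h1 : q ^ 2 ≡ 1 [MOD 2 * (q + 1)] := by
          refine ((Nat.modEq_iff_dvd' (Nat.one_le_pow _ _ (by omega))).2 ?_).symm
          rw [show q ^ 2 - 1 = (q + 1) * (q - 1) by simpa using Nat.sq_sub_sq q 1, mul_comm 2]
          exact Nat.mul_dvd_mul_left _ (by omega)
        have h2 := ((h1.pow i).mul_left q).add_right 1
        rwa [one_pow, mul_one, ← pow_mul, ← pow_succ'] at h2
      rw [hG, mul_comm 2] at hm
      have hGm : G ≡ 1 [MOD 2] := by
        have := Nat.ModEq.mul_left_cancel' (show q + 1 ≠ 0 by omega) (a := G) (b := 1) (m := 2) (by simpa using hm)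
        exact this
      have hG2 : ¬ 2 ∣ G := fun hd => by
        unfold Nat.ModEq at hGm
        omega
      have hG0 : G ≠ 0 := fun h0 => by subst h0; exact hG2 (dvd_zero 2)
      rw [hG, padicValNat.mul (by omega) hG0, padicValNat.eq_zero_of_not_dvd hG2,
        padicValNat.eq_zero_of_not_dvd (n := 2 * i + 1) (by omega)]
    · simpa using padicValNat.pow_add_pow (p := ℓ) hodd (x := q) (y := 1) h hℓq hko

/-- The valuation of the product, `ℓ` dividing `q + 1`. -/
theorem val_sum_on (hq : 2 ≤ q) (h : ℓ ∣ q + 1) (m : ℕ) :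
    ∑ i ∈ Finset.range m, padicValNat ℓ (e q (i + 1)) =
      m * padicValNat ℓ (q + 1) + m / 2 * bU ℓ q + padicValNat ℓ m.factorial := by
  induction m with
  | zero => simp
  | succ m ih =>
    rw [Finset.sum_range_succ, ih, val_e_on hq h (by omega), Nat.factorial_succ,
      padicValNat.mul (by omega) (Nat.factorial_ne_zero _), Nat.succ_div]
    have h2 : 2 ∣ m + 1 ↔ Even (m + 1) := even_iff_two_dvd.symm
    by_cases hm : Even (m + 1)
    · rw [if_pos hm, if_pos (h2.2 hm)]; ring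
    · rw [if_neg hm, if_neg (mt h2.1 hm)]; ring

variable {F : Type*} [Field F] [Fintype F] {hF : Fintype.card F = q ^ 2}

/-- The valuation of the order. -/
theorem val_su (hℓq : ¬ ℓ ∣ q) {n : ℕ} (hn : 1 ≤ n) :
    (Nat.card (SUModel.sug hF (Fin n))).factorization ℓ + padicValNat ℓ (q + 1) =
      ∑ i ∈ Finset.range n, padicValNat ℓ (e q (i + 1)) := by
  have hq := two_le_of_card_sq hF
  have hne : ∀ i ∈ Finset.range n, e q (i + 1) ≠ 0 := fun i _ => e_pos hq (by omega)
  have h := congrArg (fun N => N.factorization ℓ) (card_su_mul hF hn)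
  rw [card_gu hF n, Finset.prod_congr rfl (fun i _ => show (if Even i then q ^ (i + 1) + 1 else q ^ (i + 1) - 1) =
    e q (i + 1) by simp only [e, Nat.even_add_one]; split_ifs <;> rfl)] at h
  simp only [Nat.factorization_mul (show q + 1 ≠ 0 by omega) Nat.card_pos.ne',
    Nat.factorization_mul (pow_ne_zero _ (show q ≠ 0 by omega)) (Finset.prod_ne_zero_iff.2 hne),
    Finsupp.add_apply, Nat.factorization_prod_apply hne,
    Nat.factorization_eq_zero_of_not_dvd (fun hd => hℓq (hℓ.out.dvd_of_dvd_pow hd)), zero_add,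
    Nat.factorization_def _ hℓ.out] at h
  rw [SUModel.card_sug, Fintype.card_fin, Nat.factorization_def _ hℓ.out, add_comm]
  exact h

include hF in
/-- A unitary element of order divisible by `e q m`. -/
theorem exists_gu_order {p a : ℕ} [Fact p.Prime] [CharP F p] (hqp : q = p ^ a) {m : ℕ} (hm : 1 ≤ m) :
    ∃ B : GL (Fin m) F, B ∈ Cfsg.GU m F q ∧ e q m ∣ orderOf B := by
  classical
  -- transfer from a polynomial
  have fin : ∀ (f : F[X]), f.Monic → f.natDegree = m → f.coeff 0 ≠ 0 → SemiPalin.tilde (qFrob hF) f = f →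
      ∀ (j : ℕ) [NeZero j] (γ : FiniteField.Extension F p j), aeval γ f = 0 → e q m ∣ orderOf γ →
        ∃ B : GL (Fin m) F, B ∈ Cfsg.GU m F q ∧ e q m ∣ orderOf B := by
    intro f hf hfd hf0 hft j _ γ hγ hord
    obtain ⟨B, hB, -, hBc⟩ := SemiUnitaryExists.exists_gu hF p hf hfd hf0 hft
    refine ⟨B, hB, hord.trans (orderOf_dvd_of_pow_eq_one ?_)⟩
    have hP : Irreducible (minpoly F γ) := minpoly.irreducible (Algebra.IsIntegral.isIntegral γ)
    have hd := CfsgLib.KnownC.irreducible_dvd_minpoly_of_dvd_charpoly (B : Matrix (Fin m) (Fin m) F) hP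
      (hBc ▸ minpoly.dvd F γ hγ)
    have h2 : minpoly F (B : Matrix (Fin m) (Fin m) F) ∣ X ^ orderOf B - 1 := minpoly.dvd F _ (by
      rw [map_sub, map_pow, aeval_X, map_one, ← Units.val_pow_eq_pow_val, pow_orderOf_eq_one, Units.val_one,
        sub_self])
    have h3 := aeval_eq_zero_of_dvd_aeval_eq_zero (hd.trans h2) (minpoly.aeval F γ)
    rwa [map_sub, map_pow, aeval_X, map_one, sub_eq_zero] at h3
  have hq := two_le_of_card_sq hF
  have σσ : ∀ x, qFrob hF (qFrob hF x) = x := qFrob_qFrob hF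
  rcases Nat.even_or_odd m with ⟨j, hj⟩ | hodd
  · obtain rfl : m = 2 * j := by omega
    have : NeZero j := ⟨by omega⟩
    let L := FiniteField.Extension F p j
    have : Fintype L := Fintype.ofFinite L
    let b : Module.Basis (Fin j) F L :=
      (Module.finBasis F L).reindex (finCongr (FiniteField.finrank_extension F p j))
    obtain ⟨γ, hγ⟩ := IsCyclic.exists_generator (α := Lˣ)
    set h := (Algebra.leftMulMatrix b (γ : L)).charpoly with hh
    have hhm : h.Monic := Matrix.charpoly_monic _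
    have hhd : h.natDegree = j := by rw [hh, Matrix.charpoly_natDegree_eq_dim, Fintype.card_fin]
    have hγh : aeval (γ : L) h = 0 := by
      apply Algebra.leftMulMatrix_injective b
      rw [map_zero, ← aeval_algHom_apply]; exact Matrix.aeval_self_charpoly _
    have hh0 : h.coeff 0 ≠ 0 := fun h0 => by
      have hu : IsUnit (Algebra.leftMulMatrix b (γ : L)) := (Units.map (Algebra.leftMulMatrix b).toMonoidHom γ).isUnit
      rw [Matrix.isUnit_iff_isUnit_det, Matrix.det_eq_sign_charpoly_coeff, ← hh, h0, mul_zero] at hu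
      exact not_isUnit_zero hu
    obtain ⟨t1, t2, t3⟩ := SemiPalin.tilde_facts (qFrob hF) hhm hh0
    refine fin (h * SemiPalin.tilde (qFrob hF) h) (hhm.mul t1)
      (by rw [hhm.natDegree_mul t1, hhd, t2, hhd]; ring) ?_ ?_ j (γ : L) (by rw [map_mul, hγh, zero_mul]) ?_
    · rw [mul_coeff_zero, t3]; exact mul_ne_zero hh0 (inv_ne_zero ((_root_.map_ne_zero _).2 hh0))
    · rw [SemiPalin.tilde_mul, SemiPalin.tilde_tilde _ σσ hhm hh0, mul_comm]
    · have hL : Nat.card L = q ^ (2 * j) := by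
        rw [FiniteField.natCard_extension, Nat.card_eq_fintype_card, hF, ← pow_mul]
      rw [orderOf_units, orderOf_eq_card_of_forall_mem_zpowers hγ, Nat.card_units, hL, e,
        if_pos (even_two_mul j)]
  · have : NeZero m := ⟨by omega⟩
    let L := FiniteField.Extension F p m
    have : Fintype L := Fintype.ofFinite L
    obtain ⟨c, hc⟩ := IsCyclic.exists_generator (α := Lˣ)
    have hL : Nat.card L = q ^ (2 * m) := by
      rw [FiniteField.natCard_extension, Nat.card_eq_fintype_card, hF, ← pow_mul]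
    have hsq : q ^ (2 * m) - 1 = (q ^ m - 1) * (q ^ m + 1) := by
      rw [mul_comm 2, pow_mul, mul_comm (q ^ m - 1)]; simpa using Nat.sq_sub_sq (q ^ m) 1
    have hco : orderOf c = (q ^ m - 1) * (q ^ m + 1) := by
      rw [orderOf_eq_card_of_forall_mem_zpowers hc, Nat.card_units, hL, hsq]
    have h1q := Nat.one_lt_pow (show m ≠ 0 by omega) (show 1 < q by omega)
    set u := c ^ (q ^ m - 1) with hu
    have huo : orderOf u = q ^ m + 1 := by
      rw [hu, orderOf_pow' _ (by omega), hco, Nat.gcd_eq_right (dvd_mul_right _ _), Nat.mul_div_cancel_left _ (by omega)]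
    set γ : L := (u : L) with hγ
    have hγ0 : γ ≠ 0 := u.ne_zero
    have hγm : γ ^ (q ^ m) = γ⁻¹ := by
      refine eq_inv_of_mul_eq_one_left ?_
      rw [← pow_succ, hγ, ← Units.val_pow_eq_pow_val, ← huo, pow_orderOf_eq_one, Units.val_one]
    have hγc : γ ^ q ^ (2 * m) = γ := by rw [← hL, Nat.card_eq_fintype_card, FiniteField.pow_card]
    set P := minpoly F γ with hP
    have hPi : Irreducible P := minpoly.irreducible (Algebra.IsIntegral.isIntegral γ)
    have hPm : P.Monic := minpoly.monic (Algebra.IsIntegral.isIntegral γ)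
    have hP0 : P.coeff 0 ≠ 0 := minpoly.coeff_zero_ne_zero (Algebra.IsIntegral.isIntegral γ) hγ0
    obtain ⟨i, hi⟩ : ∃ i, 3 * m - 1 = 2 * i := by
      obtain ⟨k, hk⟩ := hodd; exact ⟨3 * k + 1, by omega⟩
    set y := γ ^ q ^ (2 * m - 1) with hy
    have hy' : y⁻¹ = γ ^ Fintype.card F ^ i := by
      rw [hy, ← inv_pow, ← hγm, ← pow_mul, ← pow_add, hF, ← pow_mul, ← hi]
      congr 2
      omega
    have hroot : aeval y⁻¹ P = 0 := by
      rw [hy']; exact CfsgLib.KnownC.UnitarySpectrum.aeval_pow_card P (minpoly.aeval F γ) i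
    have ht := CfsgLib.KnownC.UnitarySpectrum.root_tilde_of_root hF hqp (pow_ne_zero _ hγ0) hroot
    rw [← pow_mul, ← pow_succ, show 2 * m - 1 + 1 = 2 * m by omega, hγc] at ht
    have htP : SemiPalin.tilde (qFrob hF) P = P :=
      (minpoly.eq_of_irreducible_of_monic (SemiPalin.tilde_irreducible _ σσ hPm hP0 hPi) ht
        (SemiPalin.tilde_facts _ hPm hP0).1)
    let b : Module.Basis (Fin m) F L :=
      (Module.finBasis F L).reindex (finCongr (FiniteField.finrank_extension F p m))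
    obtain ⟨jj, hjj, hjd, -⟩ := CfsgLib.KnownC.UnitarySpectrum.det_leftMul b hPi hPm (minpoly.aeval F γ)
    refine fin (P ^ jj) (hPm.pow jj) (by rw [hPm.natDegree_pow]; omega) ?_ ?_ m γ ?_ ?_
    · rw [CfsgLib.KnownC.UnitarySpectrum.coeff_zero_pow]; exact pow_ne_zero _ hP0
    · rw [CfsgLib.KnownC.UnitarySpectrum.tilde_pow, htP]
    · have hjj0 : jj ≠ 0 := by rintro rfl; omega
      rw [map_pow, minpoly.aeval, zero_pow hjj0]
    · rw [hγ, orderOf_units, huo, e, if_neg (Nat.not_even_iff_odd.2 hodd)]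

end CfsgLib.KnownA.SUArith
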