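import Mathlib
import Cfsg.Agent.Lib.KnownA.LGood
import Cfsg.Agent.Lib.KnownA.SUModel
import Cfsg.Agent.Lib.KnownA.SUFieldTools

/-!
Blocks, columns, tori and monomial elements inside unitary groups, and an extension criterion.
-/

set_option autoImplicit false
set_option linter.unusedSectionVars false

namespace CfsgLib.KnownA.LGood

open CfsgLib.KnownA.CExt
open scoped commutatorElement

universe u

variable {ℓ : ℕ} [hℓ : Fact ℓ.Prime] {E : Type u} [Group E] {G : Type u} [Group G] {π : E →* G}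

theorem norm_iff_of_le [Finite G] {K : Subgroup G} {c : G} (h : ∀ k ∈ K, c * k * c⁻¹ ∈ K) (k : G) :
    k ∈ K ↔ c * k * c⁻¹ ∈ K := by
  refine ⟨h k, fun hk => ?_⟩
  have hle : K.map (MulAut.conj c).toMonoidHom ≤ K := by
    rintro _ ⟨x, hx, rfl⟩; exact h x hx
  have he : K.map (MulAut.conj c).toMonoidHom = K :=
    Subgroup.eq_of_le_of_card_ge hle
      (le_of_eq (Nat.card_congr (K.equivMapOfInjective _ (MulAut.conj c).injective).toEquiv))
  rw [← he] at hk
  obtain ⟨x, hx, hxe⟩ := hk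
  exact (MulAut.conj c).injective hxe ▸ hx

/-- `K` good, `A` with abelian preimage, `g` normalising both. -/
theorem kills_sup_abelian (hπ : IsLExt ℓ π) {K A : Subgroup G} (hK : Good ℓ K)
    (hAK : ∀ a ∈ A, ∀ k ∈ K, a * k * a⁻¹ ∈ K)
    (hAA : ∀ a ∈ A, ∀ b ∈ A, a * b = b * a ∧ cpair hπ.cs a b = 1) (g : G)
    (hgK : ∀ k ∈ K, g * k * g⁻¹ ∈ K) (hgA : ∀ a ∈ A, g * a * g⁻¹ ∈ A)
    (hfix : ∀ t ∈ A, ⁅t, g⁆ ∈ K → cpair hπ.cs t g = 1) :
    Kills π (K ⊔ A ⊔ Subgroup.zpowers g) := by
  have := hπ.finG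
  obtain ⟨D, hD⟩ := exists_comp hπ hK
  obtain ⟨e, rfl⟩ := hπ.cs.surj g
  set At := A.comap π with hAt
  have hab : ∀ x ∈ At, ∀ y ∈ At, x * y = y * x := fun x hx y hy =>
    lift_comm hπ.cs (hAA _ hx _ hy).2 rfl rfl
  have hcA : ∀ a ∈ At, ⁅a, e⁆ ∈ At := fun a ha => by
    show π ⁅a, e⁆ ∈ A
    rw [map_commutatorElement, commutatorElement_def,
      show π a * π e * (π a)⁻¹ * (π e)⁻¹ = π a * (π e * (π a)⁻¹ * (π e)⁻¹) by group]
    exact mul_mem ha (hgA _ (inv_mem ha))
  let c : At →* E :=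
    { toFun := fun a => ⁅(a : E), e⁆
      map_one' := commutatorElement_one_left e
      map_mul' := fun a b => by
        have h1 : ⁅(a : E) * b, e⁆ = (a : E) * ⁅(b : E), e⁆ * (a : E)⁻¹ * ⁅(a : E), e⁆ := by
          simp only [commutatorElement_def]; group
        show ⁅((a * b : At) : E), e⁆ = _
        rw [Subgroup.coe_mul, h1, hab _ a.2 _ (hcA _ b.2), mul_inv_cancel_right,
          hab _ (hcA _ b.2) _ (hcA _ a.2)] }
  have hnD : ∀ s : E, (∀ k ∈ K, π s * k * (π s)⁻¹ ∈ K) → ∀ x ∈ D, s * x * s⁻¹ ∈ D := fun s hs =>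
    hD.norm s fun k => norm_iff_of_le hs k
  set J := D ⊔ c.range with hJ
  set S : Set E := ((At : Set E) ∪ (D : Set E)) ∪ {e, e⁻¹} with hS
  have hgK' : ∀ k ∈ K, (π e)⁻¹ * k * (π e)⁻¹⁻¹ ∈ K := fun k hk => by
    rw [norm_iff_of_le hgK ((π e)⁻¹ * k * (π e)⁻¹⁻¹)]
    simpa [mul_assoc] using hk
  have hgA' : ∀ a ∈ A, (π e)⁻¹ * a * (π e)⁻¹⁻¹ ∈ A := fun k hk => by
    rw [norm_iff_of_le hgA ((π e)⁻¹ * k * (π e)⁻¹⁻¹)]
    simpa [mul_assoc] using hk
  have hSK : ∀ s ∈ S, ∀ k ∈ K, π s * k * (π s)⁻¹ ∈ K := by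
    rintro s ((hs | hs) | rfl | rfl) k hk
    · exact hAK _ hs k hk
    · exact mul_mem (mul_mem (hD.le hs) hk) (inv_mem (hD.le hs))
    · exact hgK k hk
    · rw [map_inv]; exact hgK' k hk
  have hgen : (K ⊔ A ⊔ Subgroup.zpowers (π e)).comap π ≤ Subgroup.closure S := by
    have hle : K ⊔ A ⊔ Subgroup.zpowers (π e) ≤ (Subgroup.closure S).map π := by
      refine sup_le (sup_le (fun k hk => ?_) (fun a ha => ?_))
        (Subgroup.zpowers_le.2 ⟨e, Subgroup.subset_closure (Or.inr (Or.inl rfl)), rfl⟩)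
      · obtain ⟨d, hd, hde⟩ := hD.onto k hk
        exact ⟨d, Subgroup.subset_closure (Or.inl (Or.inr hd)), hde⟩
      · obtain ⟨x, rfl⟩ := hπ.cs.surj a
        exact ⟨x, Subgroup.subset_closure (Or.inl (Or.inl ha)), rfl⟩
    intro x hx
    obtain ⟨y, hy, hyx⟩ := hle hx
    obtain ⟨z, hz, rfl⟩ := hπ.cs.eq_mul_of_map_eq hyx.symm
    refine mul_mem hy (Subgroup.subset_closure (Or.inl (Or.inl ?_)))
    show π z ∈ A
    rw [MonoidHom.mem_ker.1 hz]; exact one_mem _
  have hfwd : ∀ s ∈ S, ∀ x ∈ J, s * x * s⁻¹ ∈ J := by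
    intro s hs
    have hle : J ≤ J.comap (MulAut.conj s).toMonoidHom := by
      refine sup_le (fun x hx => Subgroup.mem_sup_left (hnD s (hSK s hs) x hx)) ?_
      rintro _ ⟨⟨a, ha⟩, rfl⟩
      show s * ⁅a, e⁆ * s⁻¹ ∈ J
      rcases hs with (hs | hs) | rfl | rfl
      · rw [hab _ hs _ (hcA a ha), mul_inv_cancel_right]
        exact Subgroup.mem_sup_right ⟨⟨a, ha⟩, rfl⟩
      · have h1 : ⁅s, ⁅a, e⁆⁆ ∈ D := by
          rw [commutatorElement_def, show s * ⁅a, e⁆ * s⁻¹ * ⁅a, e⁆⁻¹ =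
            s * (⁅a, e⁆ * s⁻¹ * ⁅a, e⁆⁻¹) by group]
          exact mul_mem hs (hnD _ (hAK _ (hcA a ha)) _ (inv_mem hs))
        rw [show s * ⁅a, e⁆ * s⁻¹ = ⁅s, ⁅a, e⁆⁆ * ⁅a, e⁆ by simp only [commutatorElement_def]; group]
        exact mul_mem (Subgroup.mem_sup_left h1) (Subgroup.mem_sup_right ⟨⟨a, ha⟩, rfl⟩)
      · refine Subgroup.mem_sup_right ⟨⟨s * a * s⁻¹, ?_⟩, ?_⟩
        · show π (s * a * s⁻¹) ∈ A
          rw [map_mul, map_mul, map_inv]; exact hgA _ ha
        · show ⁅s * a * s⁻¹, s⁆ = _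
          simp only [commutatorElement_def]; group
      · refine Subgroup.mem_sup_right ⟨⟨e⁻¹ * a * e⁻¹⁻¹, ?_⟩, ?_⟩
        · show π (e⁻¹ * a * e⁻¹⁻¹) ∈ A
          simp only [map_mul, map_inv]; exact hgA' _ ha
        · show ⁅e⁻¹ * a * e⁻¹⁻¹, e⁆ = _
          simp only [commutatorElement_def]; group
    exact fun x hx => hle hx
  have hI : ⁅Subgroup.closure S, Subgroup.closure S⁆ ≤ J := by
    refine CfsgLib.KnownA.commutator_closure_le S J (fun s hs => ?_) (fun s hs t ht => ?_)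
    · rw [Subgroup.mem_normalizer_iff]
      intro x
      refine ⟨hfwd s hs x, fun hx => ?_⟩
      have hs' : s⁻¹ ∈ S := by
        rcases hs with (hs | hs) | rfl | rfl
        · exact Or.inl (Or.inl (At.inv_mem hs))
        · exact Or.inl (Or.inr (D.inv_mem hs))
        · exact Or.inr (Or.inr rfl)
        · exact Or.inr (Or.inl (inv_inv e))
      simpa [mul_assoc] using hfwd s⁻¹ hs' _ hx
    · have hDc : ∀ s ∈ S, ∀ d ∈ D, ⁅s, d⁆ ∈ D := fun s hs d hd => by
        rw [commutatorElement_def]; exact mul_mem (hnD s (hSK s hs) d hd) (inv_mem hd)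
      rcases hs with (hs' | hs') | hs' | hs'
      rotate_left 1
      · rw [← commutatorElement_inv]; exact Subgroup.mem_sup_left (inv_mem (hDc t ht s hs'))
      all_goals rcases ht with (ht' | ht') | ht' | ht'
      all_goals first
        | exact Subgroup.mem_sup_left (hDc s (Or.inl (Or.inl hs')) t ht')
        | exact Subgroup.mem_sup_left (hDc s (Or.inr (Or.inl hs')) t ht')
        | exact Subgroup.mem_sup_left (hDc s (Or.inr (Or.inr hs')) t ht')
        | (rw [commutatorElement_eq_one_iff_mul_comm.2 (hab s hs' t ht')]; exact one_mem _)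
        | (subst ht'; exact Subgroup.mem_sup_right ⟨⟨s, hs'⟩, rfl⟩)
        | (subst hs'; rw [← commutatorElement_inv]
           exact inv_mem (Subgroup.mem_sup_right ⟨⟨t, ht'⟩, rfl⟩))
        | (subst ht'
           rw [show ⁅s, e⁻¹⁆ = e⁻¹ * ⁅s, e⁆⁻¹ * e⁻¹⁻¹ by simp only [commutatorElement_def]; group]
           exact hfwd e⁻¹ (Or.inr (Or.inr rfl)) _ (inv_mem (Subgroup.mem_sup_right ⟨⟨s, hs'⟩, rfl⟩)))
        | (subst hs'
           rw [show ⁅e⁻¹, t⁆ = e⁻¹ * ⁅t, e⁆ * e⁻¹⁻¹ by simp only [commutatorElement_def]; group]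
           exact hfwd e⁻¹ (Or.inr (Or.inr rfl)) _ (Subgroup.mem_sup_right ⟨⟨t, ht'⟩, rfl⟩))
        | (subst hs' ht'
           simp only [commutatorElement_def]
           group
           exact one_mem _)
  intro z hz hzc
  have hzJ := hI (Subgroup.commutator_mono hgen hgen hzc)
  have hcn : c.range ≤ Subgroup.normalizer (D : Set E) := by
    rintro _ ⟨⟨a, ha⟩, rfl⟩
    rw [Subgroup.mem_normalizer_iff]
    refine fun x => ⟨hnD _ (hAK _ (hcA a ha)) x, fun hx => ?_⟩
    replace hx : ⁅a, e⁆ * x * ⁅a, e⁆⁻¹ ∈ D := hx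
    have := hnD ⁅a, e⁆⁻¹ (hAK _ (inv_mem (hcA a ha))) _ hx
    rwa [show ⁅a, e⁆⁻¹ * (⁅a, e⁆ * x * ⁅a, e⁆⁻¹) * ⁅a, e⁆⁻¹⁻¹ = x by group] at this
  rw [hJ, ← SetLike.mem_coe, Subgroup.coe_mul_of_right_le_normalizer_left D c.range hcn] at hzJ
  obtain ⟨d, hd, _, ⟨⟨a, ha⟩, rfl⟩, rfl⟩ := hzJ
  rw [MonoidHom.mem_ker, map_mul] at hz
  have h1 : ⁅π a, π e⁆ ∈ K := by
    rw [← map_commutatorElement, show π ⁅a, e⁆ = (π d)⁻¹ from eq_inv_of_mul_eq_one_right hz]
    exact inv_mem (hD.le hd)
  have h2 : c ⟨a, ha⟩ = 1 := by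
    show ⁅a, e⁆ = 1
    rw [← cpair_map hπ.cs]; exact hfix _ ha h1
  show d * c ⟨a, ha⟩ = 1
  rw [h2, map_one, mul_one] at hz
  rw [h2, mul_one]
  exact hD.inj d hd hz

/-- A homomorphism into the kernel from a group whose abelianisation has no `ℓ`-part. -/
theorem cpair_trivial_of_ab (hπ : IsLExt ℓ π) {X : Type u} [Group X] (φ : X →* G)
    (hab : ¬ ℓ ∣ Nat.card (Abelianization X)) [Finite X] {t : G} (ht : ∀ x, t * φ x = φ x * t) (x : X) :
    cpair hπ.cs t (φ x) = 1 := by
  let _ : CommGroup π.ker :=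
    { (inferInstance : Group π.ker) with
      mul_comm := fun a b => Subtype.ext (hπ.cs.comm b.2 a) }
  let f : X →* π.ker :=
    { toFun := fun x => ⟨cpair hπ.cs t (φ x), cpair_mem_ker hπ.cs (ht x)⟩
      map_one' := Subtype.ext (by simp [cpair_one_right])
      map_mul' := fun a b => Subtype.ext (by
        show cpair hπ.cs t (φ (a * b)) = cpair hπ.cs t (φ a) * cpair hπ.cs t (φ b)
        rw [map_mul]; exact cpair_mul_right_of_comm hπ.cs (ht b)) }
  have := hπ.fin
  refine pow_eq_one_of_coprime hπ hab (cpair_mem_ker hπ.cs (ht x)) ?_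
  have h1 : Abelianization.lift f (Abelianization.of x) = f x := Abelianization.lift_apply_of f x
  have h2 : f x ^ Nat.card (Abelianization X) = 1 := by
    rw [← h1, ← map_pow, pow_card_eq_one', map_one]
  simpa [f] using congrArg Subtype.val h2

/-- `MFree` along an isomorphism. -/
theorem mfree_transport {A B : Type u} [Group A] [Group B] (e : A ≃* B) (h : MFree ℓ A) : MFree ℓ B := by
  intro E _ π hπ
  have hk : (e.symm.toMonoidHom.comp π).ker = π.ker := by
    ext x; simp [MonoidHom.mem_ker]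
  have h' : IsLExt ℓ (e.symm.toMonoidHom.comp π) :=
    ⟨⟨e.symm.surjective.comp hπ.cs.surj, hk ▸ hπ.cs.central⟩, hπ.fin, hk ▸ hπ.isP⟩
  intro z hz hzc
  exact h E _ h' z (by rw [hk]; exact hz) hzc

end CfsgLib.KnownA.LGood

namespace CfsgLib.KnownA.SUTools

open Matrix CfsgLib.Classical CfsgLib.KnownA.SUModel CfsgLib.KnownA.SUFieldTools

variable {F : Type*} [Field F] [Fintype F] {q : ℕ} {hF : Fintype.card F = q ^ 2}
variable {ι : Type} [Fintype ι] [DecidableEq ι]

/-- Conjugating by a diagonal unitary matrix. -/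
noncomputable def conjDia (f : ι → F) (h : ∀ i, NormOne hF (f i)) (X : sug hF ι) : sug hF ι :=
  SUModel.mk hF (diagonal f * mat hF X * ct hF (diagonal f))
    (by
      have h1 : ct hF (diagonal f) * diagonal f = 1 := by
        rw [ct_diagonal, diagonal_mul_diagonal, ← diagonal_one]; exact congrArg _ (funext h)
      rw [ct_mul, ct_mul, ct_ct]
      calc diagonal f * (ct hF (mat hF X) * ct hF (diagonal f)) * (diagonal f * mat hF X * ct hF (diagonal f))
          = diagonal f * ct hF (mat hF X) * (ct hF (diagonal f) * diagonal f) * mat hF X * ct hF (diagonal f) := by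
            simp only [Matrix.mul_assoc]
        _ = diagonal f * (ct hF (mat hF X) * mat hF X) * ct hF (diagonal f) := by
            rw [h1, Matrix.mul_one]; simp only [Matrix.mul_assoc]
        _ = 1 := by rw [ct_mat, Matrix.mul_one, mul_eq_one_comm.1 h1])
    (by
      rw [det_mul, det_mul, det_mat, mul_one, ct_diagonal, det_diagonal, det_diagonal, ← Finset.prod_mul_distrib]
      exact Finset.prod_eq_one fun i _ => by rw [mul_comm]; exact h i)

/-- The norm one group. -/
noncomputable def muG (hF : Fintype.card F = q ^ 2) : Subgroup Fˣ :=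
  if Fintype.card F = q ^ 2 then (powMonoidHom (q + 1) : Fˣ →* Fˣ).ker else ⊥

theorem mem_muG {u : Fˣ} : u ∈ muG hF ↔ NormOne hF (u : F) := by
  rw [muG, if_pos hF, MonoidHom.mem_ker, powMonoidHom_apply, normOne_iff, Units.ext_iff]
  simp

theorem card_muG : Nat.card (muG hF) = q + 1 := by
  rw [muG, if_pos hF, IsCyclic.card_powMonoidHom_ker, units_card_sq hF, Nat.gcd_mul_left_left]

variable (hF) in
/-- Norm one vectors of product one. -/
noncomputable def T0 (l : ℕ) : Subgroup (Fin l → muG hF) :=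
  ({ toFun := fun f => ∏ i, f i
     map_one' := Finset.prod_const_one
     map_mul' := fun _ _ => Finset.prod_mul_distrib } : (Fin l → muG hF) →* muG hF).ker

theorem prod_T0 {l : ℕ} (f : T0 hF l) : ∏ i, ((f.1 i : Fˣ) : F) = 1 := by
  have h : ∏ i, f.1 i = 1 := f.2
  have := congrArg (fun u : muG hF => ((u : Fˣ) : F)) h
  simpa using this

theorem card_T0 (l : ℕ) : Nat.card (T0 hF (l + 1)) = (q + 1) ^ l := by
  set φ : (Fin (l + 1) → muG hF) →* muG hF :=
    { toFun := fun f => ∏ i, f i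
      map_one' := Finset.prod_const_one
      map_mul' := fun _ _ => Finset.prod_mul_distrib }
  have hs : Function.Surjective φ := fun u => ⟨Pi.mulSingle 0 u, by
    show ∏ i, Pi.mulSingle (0 : Fin (l + 1)) u i = u
    rw [Finset.prod_pi_mulSingle']; simp⟩
  have h : Nat.card φ.ker * φ.ker.index = _ := φ.ker.card_mul_index
  rw [Subgroup.index_ker, MonoidHom.range_eq_top.2 hs, Subgroup.card_top, Nat.card_fun, Nat.card_fin,
    card_muG, pow_succ] at h
  exact Nat.eq_of_mul_eq_mul_right (by omega) h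

/-- The diagonal torus. -/
noncomputable def tor0 (l : ℕ) : T0 hF l →* sug hF (Fin l) where
  toFun f := dia hF (fun i => ((f.1 i : Fˣ) : F)) (fun i => mem_muG.1 (f.1 i).2) (prod_T0 f)
  map_one' := mat_injective hF (by simp [mat_dia, diagonal_one])
  map_mul' f g := mat_injective hF (by simp [mat_dia, diagonal_mul_diagonal])

theorem mat_tor0 {l : ℕ} (f : T0 hF l) :
    mat hF (tor0 l f) = diagonal fun i => ((f.1 i : Fˣ) : F) := mat_dia hF _ (fun i => mem_muG.1 (f.1 i).2) (prod_T0 f)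

theorem tor0_injective {l : ℕ} : Function.Injective (tor0 (hF := hF) l) := fun f g h => by
  refine Subtype.ext (funext fun i => Subtype.ext (Units.ext ?_))
  have := congrFun (congrFun (congrArg (mat hF) h) i) i
  simpa [mat_tor0] using this

/-- The cycle. -/
noncomputable def cyc (l : ℕ) [NeZero l] : sug hF (Fin l) := mon hF (finRotate l) 0

theorem cyc_pow_single (l : ℕ) [NeZero l] (k : ℕ) (j : Fin l) :
    ∃ s : F, s ≠ 0 ∧ mat hF (cyc (hF := hF) l ^ k) *ᵥ Pi.single j 1 = Pi.single ((finRotate l ^ k) j) s := by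
  induction k with
  | zero => exact ⟨1, one_ne_zero, by rw [pow_zero, pow_zero, map_one, one_mulVec, Equiv.Perm.one_apply]⟩
  | succ k ih =>
    obtain ⟨s, hs, e⟩ := ih
    set τ := finRotate l
    refine ⟨Function.update (1 : Fin l → F) 0 (sgn τ) ((τ ^ k) j) * s, mul_ne_zero ?_ hs, ?_⟩
    · by_cases h : (τ ^ k) j = 0
      · rw [h, Function.update_self]
        exact left_ne_zero_of_mul_eq_one (sgn_mul_self τ)
      · rw [Function.update_of_ne h]; exact one_ne_zero
    · rw [pow_succ', pow_succ', map_mul, ← mulVec_mulVec, e, cyc, mat_mon, ← mulVec_mulVec,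
        diagonal_mulVec_single, PEquiv.toMatrix_toPEquiv_mulVec]
      funext i
      rw [Function.comp_apply, Equiv.Perm.mul_apply]
      by_cases h : i = τ ((τ ^ k) j)
      · subst h
        exact (congrArg _ (τ.symm_apply_apply _)).trans ((Pi.single_eq_same _ _).trans (by simp only [τ, Pi.single_eq_same]))
      · rw [Pi.single_eq_of_ne h, Pi.single_eq_of_ne]
        intro h'; exact h (by rw [← h', Equiv.apply_symm_apply])

theorem orderOf_finRotate {l : ℕ} (hl : 2 ≤ l) : orderOf (finRotate l) = l := by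
  obtain ⟨l', rfl⟩ : ∃ l', l = l' + 2 := ⟨l - 2, by omega⟩
  rw [Equiv.Perm.IsCycle.orderOf isCycle_finRotate, support_finRotate, Finset.card_univ, Fintype.card_fin]

/-- A power of the cycle which is diagonal is divisible by the length. -/
theorem dvd_of_cyc_pow_diag {l : ℕ} [NeZero l] (hl : 2 ≤ l) (k : ℕ)
    (h : ∀ i j : Fin l, i ≠ j → mat hF (cyc (hF := hF) l ^ k) i j = 0) : l ∣ k := by
  have h' : finRotate l ^ k = 1 := by
    ext j
    obtain ⟨s, hs, e⟩ := cyc_pow_single (hF := hF) l k j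
    by_contra hne
    have h2 := congrFun e ((finRotate l ^ k) j)
    have h3 := h ((finRotate l ^ k) j) j (fun h => hne (congrArg Fin.val h))
    rw [mulVec_single_one, col_apply, Pi.single_eq_same] at h2
    exact hs (h2.symm.trans h3)
  have := orderOf_dvd_of_pow_eq_one h'
  rwa [orderOf_finRotate hl] at this

variable {c l : ℕ}

/-- Blocks along the other coordinate. -/
noncomputable def blkB : (Fin c → sug hF (Fin l)) →* sug hF (Fin c × Fin l) :=
  (reindexSU hF (Equiv.prodComm (Fin l) (Fin c))).toMonoidHom.comp (blk hF)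

theorem mat_blkB (A : Fin c → sug hF (Fin l)) (x y : Fin c) (i j : Fin l) :
    mat hF (blkB A) (x, i) (y, j) = if x = y then mat hF (A x) i j else 0 := by
  simp [blkB, mat_reindexSU, mat_blk, blockDiagonal_apply]

theorem blkB_injective : Function.Injective (blkB (hF := hF) (c := c) (l := l)) :=
  (reindexSU hF _).injective.comp (blk_injective hF)

/-- A constant column element permutes the blocks. -/
theorem blkB_const_conj (w : sug hF (Fin l)) (A A' : Fin l → sug hF (Fin c))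
    (h : ∀ i j, mat hF w i j ≠ 0 → A' i = A j) :
    blkB (fun _ => w) * blk hF A * (blkB fun _ => w)⁻¹ = blk hF A' := by
  rw [mul_inv_eq_iff_eq_mul]
  refine mat_injective hF ?_
  ext ⟨x, i⟩ ⟨y, j⟩
  simp only [map_mul, Matrix.mul_apply, Fintype.sum_prod_type, mat_blk, blockDiagonal_apply, mat_blkB,
    ite_mul, mul_ite, zero_mul, mul_zero, Finset.sum_ite_eq, Finset.sum_ite_eq', Finset.mem_univ, if_true,
    Finset.sum_ite_irrel, Finset.sum_const_zero]
  by_cases hw : mat hF w i j = 0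
  · simp [hw]
  · rw [h i j hw, mul_comm]

/-- The torus in one column. -/
noncomputable def colTor [NeZero c] : T0 hF l →* sug hF (Fin c × Fin l) :=
  blkB.comp ((MonoidHom.mulSingle (fun _ : Fin c => sug hF (Fin l)) 0).comp (tor0 l))

theorem mat_colTor [NeZero c] (f : T0 hF l) :
    mat hF (colTor (c := c) f) = diagonal fun p => if p.1 = 0 then ((f.1 p.2 : Fˣ) : F) else 1 := by
  ext ⟨x, i⟩ ⟨y, j⟩
  rw [colTor, MonoidHom.comp_apply, MonoidHom.comp_apply, mat_blkB]
  by_cases hxy : x = y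
  · subst hxy
    by_cases hx : x = 0
    · subst hx; by_cases hij : i = j <;> simp [mat_tor0, hij]
    · by_cases hij : i = j <;> simp [hx, hij, Matrix.one_apply]
  · rw [if_neg hxy, diagonal_apply_ne _ (by simp [hxy])]

theorem colTor_conj_blk [NeZero c] (f : T0 hF l) (A : Fin l → sug hF (Fin c)) :
    colTor (c := c) f * blk hF A * (colTor (c := c) f)⁻¹ =
      blk hF fun i => conjDia (fun x => if x = 0 then ((f.1 i : Fˣ) : F) else 1)
        (fun x => by split_ifs <;> [exact mem_muG.1 (f.1 i).2; exact normOne_one hF]) (A i) := by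
  refine mat_injective hF ?_
  rw [map_mul, map_mul, mat_inv, mat_colTor, mat_blk, mat_blk, ct_diagonal]
  simp only [conjDia, mat_mk, ct_diagonal]
  rw [blockDiagonal_mul, blockDiagonal_mul, blockDiagonal_diagonal, blockDiagonal_diagonal]

theorem eq_one_of_colTor_mem [NeZero c] (f : T0 hF l) {A : Fin l → sug hF (Fin c)}
    (h : colTor (c := c) f = blk hF A) : f = 1 := by
  refine Subtype.ext (funext fun i => Subtype.ext (Units.ext ?_))
  have hA : mat hF (A i) = diagonal fun x : Fin c => if x = 0 then ((f.1 i : Fˣ) : F) else 1 := by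
    ext x y
    have := congrFun (congrFun (congrArg (mat hF) h) (x, i)) (y, i)
    rw [mat_colTor, mat_blk, blockDiagonal_apply_eq] at this
    rw [← this]
    by_cases hxy : x = y <;> simp [hxy]
  have hd := congrArg Matrix.det hA
  rw [det_mat, det_diagonal, Finset.prod_eq_single (0 : Fin c) (fun b _ hb => by simp [hb]) (by simp),
    if_pos rfl] at hd
  exact hd.symm

end CfsgLib.KnownA.SUTools
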