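import Mathlib.LinearAlgebra.Matrix.ToLin
import Mathlib.LinearAlgebra.Determinant
import Mathlib.LinearAlgebra.Dimension.Finrank
import Mathlib.LinearAlgebra.Basis.VectorSpace
import Mathlib.FieldTheory.Finite.Basic
import Mathlib.Tactic

/-!
Commuting involutory matrices over a field with `2 ≠ 0` are simultaneously diagonalisable.
-/

set_option autoImplicit false

namespace CfsgLib.KnownA

open Module

theorem span_common_sign_vectors {F V ι : Type*} [Field F] [AddCommGroup V] [Module F V]
    [FiniteDimensional F V] (h2 : (2 : F) ≠ 0) (f : ι → Module.End F V)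
    (hsq : ∀ i v, f i (f i v) = v) (hcomm : ∀ i j v, f i (f j v) = f j (f i v)) :
    Submodule.span F {v : V | ∀ i, f i v = v ∨ f i v = -v} = ⊤ := by
  suffices H : ∀ k, ∀ W : Submodule F V, finrank F W = k → (∀ i, ∀ w ∈ W, f i w ∈ W) →
      W ≤ Submodule.span F {v : V | ∀ i, f i v = v ∨ f i v = -v} from
    top_le_iff.mp (H _ ⊤ rfl (fun _ _ _ => trivial))
  intro k
  induction k using Nat.strong_induction_on with
  | _ k ih =>
    intro W hk hinv
    by_cases hsc : ∀ i, (∀ w ∈ W, f i w = w) ∨ (∀ w ∈ W, f i w = -w)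
    · intro w hw
      exact Submodule.subset_span fun i => (hsc i).imp (fun h => h w hw) (fun h => h w hw)
    push Not at hsc
    obtain ⟨i, ⟨a, haW, ha⟩, ⟨b, hbW, hb⟩⟩ := hsc
    set P : Submodule F V := W ⊓ LinearMap.ker (f i - 1) with hP
    set M : Submodule F V := W ⊓ LinearMap.ker (f i + 1) with hM
    have memP : ∀ {w}, w ∈ P ↔ w ∈ W ∧ f i w = w := by
      intro w; simp [hP, LinearMap.mem_ker, sub_eq_zero]
    have memM : ∀ {w}, w ∈ M ↔ w ∈ W ∧ f i w = -w := by
      intro w; simp [hM, LinearMap.mem_ker, add_eq_zero_iff_eq_neg]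
    have hPlt : P < W := by
      refine lt_of_le_of_ne inf_le_left fun h => ha ?_
      exact (memP.mp (h ▸ haW)).2
    have hMlt : M < W := by
      refine lt_of_le_of_ne inf_le_left fun h => hb ?_
      exact (memM.mp (h ▸ hbW)).2
    have hPinv : ∀ j, ∀ w ∈ P, f j w ∈ P := by
      intro j w hw
      rw [memP] at hw ⊢
      exact ⟨hinv j w hw.1, by rw [hcomm i j, hw.2]⟩
    have hMinv : ∀ j, ∀ w ∈ M, f j w ∈ M := by
      intro j w hw
      rw [memM] at hw ⊢
      exact ⟨hinv j w hw.1, by rw [hcomm i j, hw.2, map_neg]⟩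
    have hPs := ih _ (hk ▸ Submodule.finrank_lt_finrank_of_lt hPlt) P rfl hPinv
    have hMs := ih _ (hk ▸ Submodule.finrank_lt_finrank_of_lt hMlt) M rfl hMinv
    intro w hw
    have hwP : (2 : F)⁻¹ • (w + f i w) ∈ P := by
      rw [memP]
      exact ⟨W.smul_mem _ (W.add_mem hw (hinv i w hw)), by rw [map_smul, map_add, hsq, add_comm]⟩
    have hwM : (2 : F)⁻¹ • (w - f i w) ∈ M := by
      rw [memM]
      exact ⟨W.smul_mem _ (W.sub_mem hw (hinv i w hw)),
        by rw [map_smul, map_sub, hsq, ← smul_neg, neg_sub]⟩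
    have hsum : w = (2 : F)⁻¹ • (w + f i w) + (2 : F)⁻¹ • (w - f i w) := by
      rw [← smul_add]
      rw [show w + f i w + (w - f i w) = (2 : F) • w by rw [two_smul]; abel, smul_smul,
        inv_mul_cancel₀ h2, one_smul]
    rw [hsum]
    exact Submodule.add_mem _ (hPs hwP) (hMs hwM)

/-- Commuting involutory matrices have a common eigenbasis; `ε i k` is the eigenvalue of `M i` on
the `k`-th basis vector. -/
theorem exists_sign_eigenbasis {F ι n : Type*} [Field F] [Fintype n] [DecidableEq n]
    (h2 : (2 : F) ≠ 0) (M : ι → Matrix n n F) (hsq : ∀ i, M i * M i = 1)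
    (hcomm : ∀ i j, M i * M j = M j * M i) :
    ∃ (b : Basis n F (n → F)) (ε : ι → n → F),
      (∀ i k, ε i k = 1 ∨ ε i k = -1) ∧ (∀ i k, (M i).mulVec (b k) = ε i k • b k) ∧
      (∀ i, (M i).det = ∏ k, ε i k) ∧ ∀ i j, ε i = ε j → M i = M j := by
  classical
  set f : ι → Module.End F (n → F) := fun i => (M i).mulVecLin with hf
  have hs := span_common_sign_vectors h2 f
    (fun i v => by simp [hf, Matrix.mulVec_mulVec, hsq i])
    (fun i j v => by simp [hf, Matrix.mulVec_mulVec, hcomm i j])
  obtain ⟨s, hsub, hspan, hli⟩ := exists_linearIndependent F {v : n → F | ∀ i, f i v = v ∨ f i v = -v}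
  let b₀ : Basis s F (n → F) := Basis.mk hli (by rw [Subtype.range_coe, hspan, hs])
  let e : s ≃ n := b₀.indexEquiv (Pi.basisFun F n)
  let b := b₀.reindex e
  have hb : ∀ i k, f i (b k) = b k ∨ f i (b k) = - b k := by
    intro i k
    have : b k = ((e.symm k : s) : n → F) := by simp [b, b₀]
    rw [this]
    exact hsub (e.symm k).2 i
  have hb' : ∀ i k, ∃ c : F, (c = 1 ∨ c = -1) ∧ (M i).mulVec (b k) = c • b k := by
    intro i k
    rcases hb i k with h | h
    · exact ⟨1, Or.inl rfl, by simpa [hf] using h⟩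
    · exact ⟨-1, Or.inr rfl, by simpa [hf] using h⟩
  choose ε hε1 hε2 using hb'
  refine ⟨b, ε, hε1, hε2, fun i => ?_, fun i j hij => ?_⟩
  · have h : LinearMap.toMatrix b b (M i).mulVecLin = Matrix.diagonal (ε i) := by
      ext r c
      rw [LinearMap.toMatrix_apply, Matrix.mulVecLin_apply, hε2, map_smul, Basis.repr_self]
      by_cases hrc : r = c
      · subst hrc; simp
      · simp [hrc, Ne.symm hrc]
    rw [← Matrix.det_diagonal, ← h, LinearMap.det_toMatrix]
    exact (LinearMap.det_toLin' (M i)).symm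
  · have : (M i).mulVecLin = (M j).mulVecLin :=
      b.ext fun k => by simp only [Matrix.mulVecLin_apply, hε2, hij]
    exact Matrix.toLin'.injective this

end CfsgLib.KnownA

namespace CfsgLib.KnownA

theorem two_ne_zero_of_odd_card {F : Type*} [Field F] [Fintype F] (h : Odd (Fintype.card F)) :
    (2 : F) ≠ 0 := by
  intro h2
  have hd : ringChar F ∣ 2 := (ringChar.spec F 2).mp (by exact_mod_cast h2)
  have he : ringChar F = 2 := by
    rcases (Nat.dvd_prime Nat.prime_two).mp hd with h1 | h1
    · exact absurd h1 (CharP.char_ne_one F (ringChar F))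
    · exact h1
  have := FiniteField.even_card_iff_char_two.mp he
  rw [Nat.odd_iff] at h
  omega

theorem decide_eq_one_inj {F : Type*} [Field F] [DecidableEq F] {a b : F} (ha : a = 1 ∨ a = -1)
    (hb : b = 1 ∨ b = -1) (h : decide (a = 1) = decide (b = 1)) : a = b := by
  rcases ha with rfl | rfl <;> rcases hb with rfl | rfl <;> first | rfl | simp_all

theorem intUnits_cast_inj {F : Type*} [Field F] (h2 : (2 : F) ≠ 0) {a b : ℤˣ}
    (h : (((a : ℤ) : F)) = ((b : ℤ) : F)) : a = b := by
  rcases Int.units_eq_one_or a with rfl | rfl <;> rcases Int.units_eq_one_or b with rfl | rfl <;>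
    first | rfl | (exfalso; apply h2; push_cast at h; first | linear_combination h | linear_combination -h)

end CfsgLib.KnownA
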