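import Cfsg.Agent.Lib.KnownA.Stem
import Cfsg.Agent.Lib.KnownA.CommInvol
import Cfsg.Agent.Lib.Classical.SLOrder
import Mathlib

/-!
Stem extensions of `SL₂(q)`: the kernel is trivial for `q ≠ 4, 9`.
-/

set_option autoImplicit false

namespace CfsgLib.KnownA.SL2Stem

open Matrix
open scoped commutatorElement

variable {F : Type*} [Field F]

local notation "SL₂" => Matrix.SpecialLinearGroup (Fin 2) F

/-- The diagonal element `diag(a, a⁻¹)`. -/
def dg : Fˣ →* Matrix.SpecialLinearGroup (Fin 2) F :=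
  MonoidHom.mk' (fun a => ⟨!![(a : F), 0; 0, ((a⁻¹ : Fˣ) : F)], by simp [Matrix.det_fin_two]⟩)
    fun a b => by
      apply Subtype.ext
      change !![((a * b : Fˣ) : F), 0; 0, (((a * b)⁻¹ : Fˣ) : F)] =
        !![(a : F), 0; 0, ((a⁻¹ : Fˣ) : F)] * !![(b : F), 0; 0, ((b⁻¹ : Fˣ) : F)]
      simp [Matrix.mul_fin_two, mul_comm]

theorem dg_val (a : Fˣ) : (dg a).1 = !![(a : F), 0; 0, ((a⁻¹ : Fˣ) : F)] := rfl

theorem dg_inj : Function.Injective (dg (F := F)) := fun a b h =>
  Units.ext (by simpa [dg_val] using congrArg (fun M : Matrix.SpecialLinearGroup (Fin 2) F => M.1 0 0) h)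

/-- The unipotent element `(1 x; 0 1)`. -/
def ut : Multiplicative F →* Matrix.SpecialLinearGroup (Fin 2) F :=
  MonoidHom.mk' (fun x => ⟨!![1, x.toAdd; 0, 1], by simp [Matrix.det_fin_two]⟩)
    fun a b => by
      apply Subtype.ext
      change !![(1 : F), a.toAdd + b.toAdd; 0, 1] = !![(1 : F), a.toAdd; 0, 1] * !![(1 : F), b.toAdd; 0, 1]
      simp [Matrix.mul_fin_two, add_comm]

theorem ut_val (x : Multiplicative F) : (ut x).1 = !![(1 : F), x.toAdd; 0, 1] := rfl

theorem dg_ut (a : Fˣ) (x : Multiplicative F) :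
    dg a * ut x * (dg a)⁻¹ = ut (Multiplicative.ofAdd ((a : F) * a * x.toAdd)) := by
  rw [mul_inv_eq_iff_eq_mul]
  apply Subtype.ext
  rw [Matrix.SpecialLinearGroup.coe_mul, Matrix.SpecialLinearGroup.coe_mul, dg_val, ut_val, ut_val]
  have ha : (a : F) ≠ 0 := a.ne_zero
  ext i j
  fin_cases i <;> fin_cases j <;> simp [Matrix.mul_fin_two] <;> field_simp

variable [Fintype F]

theorem card_sl2 :
    Nat.card (Matrix.SpecialLinearGroup (Fin 2) F) =
      Fintype.card F * ((Fintype.card F + 1) * (Fintype.card F - 1)) := by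
  have h := CfsgLib.Classical.card_sl_mul (F := F) (n := 2) (by omega)
  set q := Fintype.card F with hq
  have h2 : 2 ≤ q := Fintype.one_lt_card
  simp only [Fin.prod_univ_two, Fin.val_zero, Fin.val_one, pow_zero, pow_one] at h
  obtain ⟨r, hr⟩ : ∃ r, q = r + 2 := ⟨q - 2, by omega⟩
  rw [hr] at h ⊢
  have e1 : (r + 2) ^ 2 - 1 = (r + 3) * (r + 1) := by
    have : (r + 2) ^ 2 = (r + 3) * (r + 1) + 1 := by ring
    omega
  have e2 : (r + 2) ^ 2 - (r + 2) = (r + 2) * (r + 1) := by
    have : (r + 2) ^ 2 = (r + 2) * (r + 1) + (r + 2) := by ring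
    omega
  rw [e1, e2, show r + 2 - 1 = r + 1 by omega] at h
  rw [show r + 2 - 1 = r + 1 by omega, show r + 2 + 1 = r + 3 by omega]
  exact Nat.eq_of_mul_eq_mul_left (by omega) (h.trans (by ring))

variable {Γ : Type*} [Group Γ] [Finite Γ] {σ : Γ →* Matrix.SpecialLinearGroup (Fin 2) F}

/-- The index bound from a subgroup containing `t` of order `m` and an inverting `w`. -/
theorem index_dvd (t w : Matrix.SpecialLinearGroup (Fin 2) F) (hwt : w * t * w⁻¹ = t⁻¹)
    (hnot : w ∉ Subgroup.zpowers t) (hsq : w ^ 2 ∈ Subgroup.zpowers t) (k : ℕ)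
    (hk : Fintype.card F * ((Fintype.card F + 1) * (Fintype.card F - 1)) = k * orderOf t) :
    2 * (Subgroup.closure {t, w}).index ∣ k := by
  set N := Subgroup.closure {t, w} with hN
  obtain ⟨c, hc⟩ := two_mul_orderOf_dvd_card N t w (Subgroup.subset_closure (by simp))
    (Subgroup.subset_closure (by simp)) hwt hnot hsq
  have h := N.index_mul_card
  rw [card_sl2, hk, hc] at h
  refine Dvd.intro c ?_
  apply Nat.eq_of_mul_eq_mul_right (orderOf_pos t)
  rw [← h]; ring

theorem split_torus (hσ : Cfsg.IsStemExtension σ) :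
    ∃ i : ℕ, 2 * i ∣ Fintype.card F * (Fintype.card F + 1) ∧ ∀ z ∈ σ.ker, z ^ i = 1 := by
  obtain ⟨a, ha⟩ := IsCyclic.exists_generator (α := Fˣ)
  let w : Matrix.SpecialLinearGroup (Fin 2) F := ⟨!![0, 1; -1, 0], by simp [Matrix.det_fin_two]⟩
  have hneg : w ^ 2 = dg (-1) := by
    apply Subtype.ext
    rw [pow_two, Matrix.SpecialLinearGroup.coe_mul, dg_val]
    simp [w, Matrix.mul_fin_two]
  have hwt : w * dg a * w⁻¹ = (dg a)⁻¹ := by
    rw [mul_inv_eq_iff_eq_mul, ← map_inv]
    apply Subtype.ext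
    rw [Matrix.SpecialLinearGroup.coe_mul, Matrix.SpecialLinearGroup.coe_mul, dg_val, dg_val]
    simp [w, Matrix.mul_fin_two]
  have hsq : w ^ 2 ∈ Subgroup.zpowers (dg a) := by
    obtain ⟨k, hk⟩ := Subgroup.mem_zpowers_iff.mp (ha (-1))
    rw [hneg, ← hk, map_zpow]
    exact Subgroup.zpow_mem_zpowers _ _
  have hnot : w ∉ Subgroup.zpowers (dg a) := by
    intro h
    obtain ⟨k, hk⟩ := Subgroup.mem_zpowers_iff.mp h
    have := congrArg (fun M : Matrix.SpecialLinearGroup (Fin 2) F => M.1 0 0) hk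
    simp only [← map_zpow, dg_val, w] at this
    simp at this
    exact zpow_ne_zero k a.ne_zero this
  have h2 : ∀ k : ℤ, (dg a ^ k) ^ 2 = 1 → dg a ^ k ∈ Subgroup.zpowers (w ^ 2) := by
    intro k hk
    rw [← map_zpow] at hk ⊢
    rw [← map_pow, ← map_one dg] at hk
    have hu : (((a ^ k : Fˣ)) : F) ^ 2 = 1 := by
      have := congrArg Units.val (dg_inj hk)
      simpa using this
    rcases sq_eq_one_iff.mp hu with h | h
    · rw [show (a ^ k : Fˣ) = 1 from Units.ext (h.trans Units.val_one.symm), map_one]; exact one_mem _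
    · rw [show (a ^ k : Fˣ) = -1 from Units.ext (by rw [h, Units.val_neg, Units.val_one]), ← hneg]
      exact Subgroup.mem_zpowers _
  have hord : orderOf (dg a) = Fintype.card F - 1 := by
    rw [orderOf_injective dg dg_inj, orderOf_eq_card_of_forall_mem_zpowers ha, Nat.card_units,
      Nat.card_eq_fintype_card]
  exact ⟨_, index_dvd _ w hwt hnot hsq (Fintype.card F * (Fintype.card F + 1)) (by rw [hord]; ring),
    fun z hz => stem_pow_index_dihedralLike hσ _ w hwt h2 z hz⟩

theorem nonsplit_torus (hσ : Cfsg.IsStemExtension σ) :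
    ∃ i : ℕ, 2 * i ∣ Fintype.card F * (Fintype.card F - 1) ∧ ∀ z ∈ σ.ker, z ^ i = 1 := by
  classical
  set q := Fintype.card F with hq
  set p := ringChar F
  haveI : Fact p.Prime := ⟨CharP.char_is_prime F p⟩
  set K := FiniteField.Extension F p 2 with hK
  have hrank : Module.finrank F K = 2 := FiniteField.finrank_extension F p 2
  have hKcard : Nat.card K = q ^ 2 := by
    rw [FiniteField.natCard_extension, Nat.card_eq_fintype_card]
  have h2q : 2 ≤ q := Fintype.one_lt_card
  haveI : Fintype K := Fintype.ofFinite K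
  let fr : K ≃ₐ[F] K := FiniteField.Extension.frob F p 2
  have hfr : ∀ x : K, fr x = x ^ q := fun x => by
    rw [hq, ← Nat.card_eq_fintype_card]; exact FiniteField.Extension.frob_apply ..
  have hfr2 : ∀ x : K, fr (fr x) = x := fun x => by
    rw [hfr, hfr, ← pow_mul, ← pow_two, ← hKcard, Nat.card_eq_fintype_card, FiniteField.pow_card]
  obtain ⟨θ, hθ⟩ : ∃ θ : K, fr θ ≠ θ := by
    by_contra! h
    obtain ⟨i, hi, he⟩ : ∃ i < 2, FiniteField.Extension.frob F p 2 ^ i = fr :=
      FiniteField.Extension.exists_frob_pow_eq F p 2 fr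
    have hone : fr = 1 := AlgEquiv.ext h
    haveI : Subsingleton Gal(K/F) := ⟨fun g g' => by
      obtain ⟨j, -, hj⟩ := FiniteField.Extension.exists_frob_pow_eq F p 2 g
      obtain ⟨j', -, hj'⟩ := FiniteField.Extension.exists_frob_pow_eq F p 2 g'
      rw [← hj, ← hj']
      change fr ^ j = fr ^ j'
      rw [hone, one_pow, one_pow]⟩
    have h1 : Nat.card Gal(K/F) = 1 := Nat.card_eq_one_iff_unique.mpr ⟨inferInstance, inferInstance⟩
    have h2 := FiniteField.natCard_algEquiv_extension F p 2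
    exact absurd (h2.symm.trans h1) (by norm_num)
  have hli : LinearIndependent F ![1, θ] := by
    rw [LinearIndependent.pair_iff' one_ne_zero]
    intro c hc
    apply hθ
    rw [← hc, map_smul, map_one]
  let b : Module.Basis (Fin 2) F K := basisOfLinearIndependentOfCardEqFinrank hli (by simp [hrank])
  have hb0 : b 0 = 1 := by simp [b]
  have hb1 : b 1 = θ := by simp [b]
  let Fr : Matrix (Fin 2) (Fin 2) F := LinearMap.toMatrix b b fr.toLinearMap
  have hFr2 : Fr * Fr = 1 := by
    rw [← LinearMap.toMatrix_comp, ← LinearMap.toMatrix_id b]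
    congr 1
    ext x
    exact hfr2 x
  have hcol0 : Fr 0 0 = 1 ∧ Fr 1 0 = 0 := by
    constructor <;>
    · simp only [Fr, LinearMap.toMatrix_apply, hb0, AlgEquiv.toLinearMap_apply, map_one]
      rw [← hb0, b.repr_self]
      simp
  have hFrdet : Fr.det = -1 := by
    have h01 := congrFun (congrFun hFr2 0) 1
    have h11 := congrFun (congrFun hFr2 1) 1
    simp [Matrix.mul_apply, Fin.sum_univ_two, hcol0.1, hcol0.2] at h01 h11
    rw [Matrix.det_fin_two, hcol0.1, hcol0.2]
    rcases mul_self_eq_one_iff.mp h11 with h | h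
    · -- eigenvalue one: either characteristic two, or the Frobenius is trivial
      by_cases h2 : (2 : F) = 0
      · rw [h]; linear_combination h2
      · exfalso
        have h0 : Fr 0 1 = 0 := by
          rw [h, mul_one] at h01
          have : 2 * Fr 0 1 = 0 := by linear_combination h01
          exact (mul_eq_zero.mp this).resolve_left h2
        apply hθ
        have := b.sum_repr (fr θ)
        rw [Fin.sum_univ_two] at this
        have e0 : b.repr (fr θ) 0 = Fr 0 1 := by simp [Fr, LinearMap.toMatrix_apply, hb1]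
        have e1 : b.repr (fr θ) 1 = Fr 1 1 := by simp [Fr, LinearMap.toMatrix_apply, hb1]
        rw [e0, e1, h0, h, zero_smul, one_smul, zero_add, hb1] at this
        exact this.symm
    · rw [h]; ring
  let nrm : Kˣ →* Fˣ := Units.map (Algebra.norm F)
  have hnorm : ∀ x : K, algebraMap F K (Algebra.norm F x) = x ^ (q + 1) := fun x => by
    rw [FiniteField.algebraMap_norm_eq_pow, hKcard, Nat.card_eq_fintype_card, ← hq]
    congr 1
    obtain ⟨r, hr⟩ : ∃ r, q = r + 2 := ⟨q - 2, by omega⟩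
    rw [hr]
    refine Nat.div_eq_of_eq_mul_left (by omega) ?_
    have : (r + 2) ^ 2 = (r + 3) * (r + 1) + 1 := by ring
    rw [show r + 2 - 1 = r + 1 by omega, this, Nat.add_sub_cancel, show r + 2 + 1 = r + 3 by omega]
  let Φ : nrm.ker →* Matrix.SpecialLinearGroup (Fin 2) F := MonoidHom.mk'
    (fun u => ⟨Algebra.leftMulMatrix b ((u.1 : Kˣ) : K), by
      rw [← Algebra.norm_eq_matrix_det]
      exact congrArg Units.val (MonoidHom.mem_ker.mp u.2)⟩)
    fun u v => Subtype.ext (map_mul (Algebra.leftMulMatrix b) _ _)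
  have hΦ : ∀ u, (Φ u).1 = Algebra.leftMulMatrix b ((u.1 : Kˣ) : K) := fun u => rfl
  have hΦinj : Function.Injective Φ := fun u v h =>
    Subtype.ext (Units.ext (Algebra.leftMulMatrix_injective b (congrArg Subtype.val h)))
  obtain ⟨g, hg⟩ := IsCyclic.exists_generator (α := nrm.ker)
  obtain ⟨k, hk⟩ := FiniteField.norm_surjective F K (-1)
  let w : Matrix.SpecialLinearGroup (Fin 2) F := ⟨Algebra.leftMulMatrix b k * Fr, by
    rw [Matrix.det_mul, ← Algebra.norm_eq_matrix_det, hk, hFrdet]; ring⟩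
  have hmove : ∀ x : K, Fr * Algebra.leftMulMatrix b x = Algebra.leftMulMatrix b (fr x) * Fr := by
    intro x
    rw [Algebra.leftMulMatrix_apply, Algebra.leftMulMatrix_apply, ← LinearMap.toMatrix_comp,
      ← LinearMap.toMatrix_comp]
    congr 1
    ext y
    simp
  have hkpow : k * fr k = -1 := by
    rw [hfr, ← pow_succ', ← hnorm, hk, map_neg, map_one]
  have hm1 : (-1 : Kˣ) ∈ nrm.ker := by
    rw [MonoidHom.mem_ker]
    apply Units.ext
    apply (algebraMap F K).injective
    change algebraMap F K (Algebra.norm F ((-1 : K))) = algebraMap F K 1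
    rw [hnorm, map_one, pow_succ']
    have h := hfr (-1 : K)
    rw [map_neg, map_one] at h
    rw [← h]; ring
  have hneg : w ^ 2 = Φ ⟨-1, hm1⟩ := by
    apply Subtype.ext
    rw [pow_two, Matrix.SpecialLinearGroup.coe_mul, hΦ]
    change Algebra.leftMulMatrix b k * Fr * (Algebra.leftMulMatrix b k * Fr) = Algebra.leftMulMatrix b (((-1 : Kˣ)) : K)
    rw [Matrix.mul_assoc, ← Matrix.mul_assoc Fr, hmove, Matrix.mul_assoc, hFr2, Matrix.mul_one, ← map_mul,
      hkpow, Units.val_neg, Units.val_one]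
  have hinvfr : fr ((g.1 : Kˣ) : K) = ((g.1⁻¹ : Kˣ) : K) := by
    rw [hfr, Units.val_inv_eq_inv_val, ← mul_eq_one_iff_eq_inv₀ (Units.ne_zero _), ← pow_succ, ← hnorm]
    have h : Algebra.norm F ((g.1 : Kˣ) : K) = 1 := congrArg Units.val (MonoidHom.mem_ker.mp g.2)
    rw [h, map_one]
  have hwt : w * Φ g * w⁻¹ = (Φ g)⁻¹ := by
    rw [mul_inv_eq_iff_eq_mul, ← map_inv]
    apply Subtype.ext
    rw [Matrix.SpecialLinearGroup.coe_mul, Matrix.SpecialLinearGroup.coe_mul, hΦ, hΦ]
    change Algebra.leftMulMatrix b k * Fr * _ = _ * (Algebra.leftMulMatrix b k * Fr)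
    rw [Matrix.mul_assoc, hmove, hinvfr, ← Matrix.mul_assoc, ← map_mul, mul_comm k, map_mul, Matrix.mul_assoc]
    rfl
  have hsq : w ^ 2 ∈ Subgroup.zpowers (Φ g) := by
    obtain ⟨j, hj⟩ := Subgroup.mem_zpowers_iff.mp (hg ⟨-1, hm1⟩)
    rw [hneg, ← hj, map_zpow]
    exact Subgroup.zpow_mem_zpowers _ _
  have hcard : Nat.card nrm.ker = q + 1 := by
    have h := nrm.ker.card_mul_index
    rw [Subgroup.index_ker, MonoidHom.range_eq_top.mpr (FiniteField.unitsMap_norm_surjective F K),
      Subgroup.card_top, Nat.card_units, Nat.card_units, hKcard, Nat.card_eq_fintype_card (α := F), ← hq] at h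
    obtain ⟨r, hr⟩ : ∃ r, q = r + 2 := ⟨q - 2, by omega⟩
    rw [hr] at h ⊢
    have e : (r + 2) ^ 2 = (r + 2 + 1) * (r + 1) + 1 := by ring
    rw [e, Nat.add_sub_cancel, show r + 2 - 1 = r + 1 by omega] at h
    exact Nat.eq_of_mul_eq_mul_right (by omega) h
  have hgord : orderOf g = q + 1 := by rw [orderOf_eq_card_of_forall_mem_zpowers hg, hcard]
  have hnot : w ∉ Subgroup.zpowers (Φ g) := by
    intro h
    obtain ⟨j, hj⟩ := Subgroup.mem_zpowers_iff.mp h
    rw [← hj, Commute.eq ((Commute.refl (Φ g)).zpow_left j), mul_inv_cancel_right] at hwt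
    have h1 : g ^ 2 = 1 := by
      apply hΦinj
      rw [map_pow, map_one, pow_two]
      exact mul_eq_one_iff_eq_inv.mpr hwt
    have := Nat.le_of_dvd (by norm_num) (orderOf_dvd_of_pow_eq_one h1)
    omega
  have h2 : ∀ j : ℤ, (Φ g ^ j) ^ 2 = 1 → Φ g ^ j ∈ Subgroup.zpowers (w ^ 2) := by
    intro j hj
    rw [← map_zpow] at hj ⊢
    rw [← map_pow, ← map_one Φ] at hj
    have hu : (((g ^ j : nrm.ker).1 : Kˣ) : K) ^ 2 = 1 := by
      have := congrArg (fun u : nrm.ker => ((u.1 : Kˣ) : K)) (hΦinj hj)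
      simpa using this
    rcases sq_eq_one_iff.mp hu with h | h
    · rw [show g ^ j = 1 from Subtype.ext (Units.ext h), map_one]; exact one_mem _
    · rw [show g ^ j = ⟨-1, hm1⟩ from Subtype.ext (Units.ext (by rw [h, Units.val_neg, Units.val_one])), ← hneg]
      exact Subgroup.mem_zpowers _
  exact ⟨_, index_dvd _ w hwt hnot hsq (q * (q - 1)) (by rw [orderOf_injective Φ hΦinj, hgord]; ring),
    fun z hz => stem_pow_index_dihedralLike hσ _ w hwt h2 z hz⟩

end CfsgLib.KnownA.SL2Stem
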