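import Mathlib

/-!
Products and wreath products inside symplectic groups.
-/

set_option autoImplicit false
set_option linter.unusedSectionVars false

namespace CfsgLib.KnownA.SpEmbed

open Matrix

variable {F : Type*} [CommRing F] {α β : Type*} [Fintype α] [DecidableEq α] [Fintype β] [DecidableEq β]

/-- Renaming the index set. -/
def reindexSp (e : α ≃ β) : Matrix.symplecticGroup α F ≃* Matrix.symplecticGroup β F where
  toFun A := ⟨reindex (e.sumCongr e) (e.sumCongr e) A.1, by
    have hJ : Matrix.J β F = reindex (e.sumCongr e) (e.sumCongr e) (Matrix.J α F) := by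
      ext i j
      rcases i with i | i <;> rcases j with j | j <;> simp [Matrix.J, Matrix.one_apply]
    rw [SymplecticGroup.mem_iff, hJ]
    simp only [reindex_apply, transpose_submatrix, submatrix_mul_equiv, SymplecticGroup.mem_iff.1 A.2]⟩
  invFun A := ⟨reindex (e.sumCongr e).symm (e.sumCongr e).symm A.1, by
    have hJ : Matrix.J α F = reindex (e.sumCongr e).symm (e.sumCongr e).symm (Matrix.J β F) := by
      ext i j
      rcases i with i | i <;> rcases j with j | j <;> simp [Matrix.J, Matrix.one_apply]
    rw [SymplecticGroup.mem_iff, hJ]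
    simp only [reindex_apply, transpose_submatrix, submatrix_mul_equiv, SymplecticGroup.mem_iff.1 A.2]⟩
  left_inv A := Subtype.ext (by
    ext i j; rcases i with i | i <;> rcases j with j | j <;> simp [reindex_apply])
  right_inv A := Subtype.ext (by
    ext i j; rcases i with i | i <;> rcases j with j | j <;> simp [reindex_apply])
  map_mul' A B := Subtype.ext (by simp [reindex_apply, submatrix_mul_equiv])

/-- Orthogonal sums. -/
def spSum : Matrix.symplecticGroup α F × Matrix.symplecticGroup β F →* Matrix.symplecticGroup (α ⊕ β) F where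
  toFun A := ⟨reindex (Equiv.sumSumSumComm α α β β) (Equiv.sumSumSumComm α α β β) (fromBlocks A.1.1 0 0 A.2.1), by
    have hJ : Matrix.J (α ⊕ β) F = reindex (Equiv.sumSumSumComm α α β β) (Equiv.sumSumSumComm α α β β)
        (fromBlocks (Matrix.J α F) 0 0 (Matrix.J β F)) := by
      ext i j
      rcases i with (i | i) | (i | i) <;> rcases j with (j | j) | (j | j) <;>
        simp [Equiv.sumSumSumComm, Matrix.J, Matrix.one_apply]
    rw [SymplecticGroup.mem_iff, hJ]
    simp only [reindex_apply, transpose_submatrix, fromBlocks_transpose, submatrix_mul_equiv,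
      fromBlocks_multiply, Matrix.transpose_zero, Matrix.mul_zero, Matrix.zero_mul, add_zero, zero_add,
      SymplecticGroup.mem_iff.1 A.1.2, SymplecticGroup.mem_iff.1 A.2.2]⟩
  map_one' := Subtype.ext (by simp [fromBlocks_one])
  map_mul' A B := Subtype.ext (by simp [reindex_apply, submatrix_mul_equiv, fromBlocks_multiply])

theorem spSum_injective : Function.Injective (spSum (F := F) (α := α) (β := β)) := by
  intro A B h
  have h' := (reindex (Equiv.sumSumSumComm α α β β) (Equiv.sumSumSumComm α α β β)).injective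
    (congrArg Subtype.val h : reindex _ _ _ = reindex _ _ _)
  obtain ⟨h1, -, -, h2⟩ := fromBlocks_inj.1 h'
  exact Prod.ext (Subtype.ext h1) (Subtype.ext h2)

variable {k : ℕ}

/-- The index bookkeeping. -/
def blkEquiv (α : Type*) (k : ℕ) : (α ⊕ α) × Fin k ≃ (α × Fin k) ⊕ (α × Fin k) := Equiv.sumProdDistrib α α (Fin k)

theorem J_blk : Matrix.J (α × Fin k) F =
    reindex (blkEquiv α k) (blkEquiv α k) (blockDiagonal fun _ : Fin k => Matrix.J α F) := by
  ext i j
  obtain ⟨⟨i, a⟩, rfl⟩ := (blkEquiv α k).surjective i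
  obtain ⟨⟨j, b⟩, rfl⟩ := (blkEquiv α k).surjective j
  rw [reindex_apply, submatrix_apply, Equiv.symm_apply_apply, Equiv.symm_apply_apply, blockDiagonal_apply]
  rcases i with i | i <;> rcases j with j | j <;> by_cases hab : a = b <;>
    simp [blkEquiv, Matrix.J, Matrix.one_apply, hab]

/-- Blocks. -/
def blk : (Fin k → Matrix.symplecticGroup α F) →* Matrix.symplecticGroup (α × Fin k) F where
  toFun A := ⟨reindex (blkEquiv α k) (blkEquiv α k) (blockDiagonal fun i => (A i).1), by
    rw [SymplecticGroup.mem_iff, J_blk]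
    simp only [reindex_apply, transpose_submatrix, submatrix_mul_equiv, blockDiagonal_transpose,
      ← blockDiagonal_mul, SymplecticGroup.mem_iff.1 (A _).2]⟩
  map_one' := Subtype.ext (by simp [reindex_apply, ← Pi.one_def, blockDiagonal_one])
  map_mul' A B := Subtype.ext (by simp [reindex_apply, submatrix_mul_equiv, ← blockDiagonal_mul])

theorem blk_injective : Function.Injective (blk (F := F) (α := α) (k := k)) := by
  intro A B h
  have h' := (reindex (blkEquiv α k) (blkEquiv α k)).injective
    (congrArg Subtype.val h : reindex _ _ _ = reindex _ _ _)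
  funext i
  refine Subtype.ext ?_
  ext a b
  have := congrFun (congrFun h' (a, i)) (b, i)
  simpa [blockDiagonal_apply] using this

/-- Permuting the blocks. -/
def blkPerm : Equiv.Perm (Fin k) →* Matrix.symplecticGroup (α × Fin k) F where
  toFun σ := ⟨reindex (blkEquiv α k) (blkEquiv α k)
      (((Equiv.refl (α ⊕ α)).prodCongr σ).symm.toPEquiv.toMatrix), by
    rw [SymplecticGroup.mem_iff, J_blk]
    simp only [reindex_apply, transpose_submatrix, submatrix_mul_equiv]
    congr 1
    rw [PEquiv.toMatrix_toPEquiv_mul, ← PEquiv.toMatrix_symm, ← Equiv.toPEquiv_symm,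
      PEquiv.mul_toMatrix_toPEquiv, submatrix_submatrix]
    ext ⟨a, i⟩ ⟨b, j⟩
    simp [blockDiagonal_apply]⟩
  map_one' := Subtype.ext (by
    ext i j
    obtain ⟨⟨i, a⟩, rfl⟩ := (blkEquiv α k).surjective i
    obtain ⟨⟨j, b⟩, rfl⟩ := (blkEquiv α k).surjective j
    simp [reindex_apply, PEquiv.toMatrix_apply, Matrix.one_apply, Equiv.Perm.one_def])
  map_mul' σ τ := Subtype.ext (by
    show reindex _ _ _ = reindex _ _ _ * reindex _ _ _
    simp only [reindex_apply, submatrix_mul_equiv, ← PEquiv.toMatrix_trans, ← Equiv.toPEquiv_trans]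
    congr 2)

theorem blkPerm_conj (σ : Equiv.Perm (Fin k)) (A : Fin k → Matrix.symplecticGroup α F) :
    blkPerm σ * blk A * (blkPerm σ)⁻¹ = blk fun i => A (σ⁻¹ i) := by
  rw [mul_inv_eq_iff_eq_mul]
  refine Subtype.ext ?_
  show reindex _ _ _ * reindex _ _ _ = reindex _ _ _ * reindex _ _ _
  simp only [reindex_apply, submatrix_mul_equiv]
  congr 1
  rw [PEquiv.toMatrix_toPEquiv_mul, PEquiv.mul_toMatrix_toPEquiv]
  ext ⟨a, i⟩ ⟨b, j⟩
  simp [blockDiagonal_apply, Equiv.symm_apply_eq]

theorem blkPerm_not_mem [Nonempty α] [Nontrivial F] {σ : Equiv.Perm (Fin k)} (hσ : σ ≠ 1) :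
    (blkPerm σ : Matrix.symplecticGroup (α × Fin k) F) ∉ (blk (F := F) (α := α) (k := k)).range := by
  rintro ⟨A, hA⟩
  obtain ⟨i, hi⟩ : ∃ i, σ⁻¹ i ≠ i := by
    by_contra h
    simp only [not_exists, not_not] at h
    exact hσ (inv_eq_one.1 (Equiv.ext h))
  obtain ⟨a⟩ := ‹Nonempty α›
  have h' := (reindex (blkEquiv α k) (blkEquiv α k)).injective
    (congrArg Subtype.val hA : reindex _ _ _ = reindex _ _ _)
  have := congrFun (congrFun h' (Sum.inl a, i)) (Sum.inl a, σ⁻¹ i)
  simp [blockDiagonal_apply, PEquiv.toMatrix_apply] at this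
  split_ifs at this with h
  · exact hi h.symm
  · exact zero_ne_one this

end CfsgLib.KnownA.SpEmbed
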