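import Cfsg.Agent.Lib.KnownA.LGood
import Cfsg.Agent.Lib.KnownA.SpEmbed
import Cfsg.Agent.Lib.KnownA.PowPredVal
import Cfsg.Agent.Lib.KnownA.SL2Stem
import Cfsg.Agent.Lib.KnownB.SpElem
import Cfsg.Agent.Lib.StructB.StemOfCentral
import Cfsg.Agent.Lib.Classical.AltOrder
import Cfsg.Agent.Lib.Geom.Symp

/-!
The parts of the multiplier of `Sp_{2m}` prime to the characteristic.
-/

set_option autoImplicit false
set_option linter.unusedSectionVars false

namespace CfsgLib.KnownA.SpStemL

open Matrix CfsgLib.KnownA.LGood CfsgLib.KnownA.PowPredVal CfsgLib.KnownA.CExt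

universe u

variable {F : Type u} [Field F] [Fintype F] {ℓ : ℕ} [hℓ : Fact ℓ.Prime]

theorem card_sp (m : ℕ) : Nat.card (Matrix.symplecticGroup (Fin m) F) = Fintype.card F ^ (m ^ 2) *
    ∏ i ∈ Finset.range m, (Fintype.card F ^ (2 * (i + 1)) - 1) := by
  rw [← Nat.card_congr (CfsgLib.Geom.spEquiv m F).toEquiv]
  exact CfsgLib.Classical.card_formIsoms_alt (CfsgLib.Geom.sympBilin m F)
    CfsgLib.Geom.sympBilin_self CfsgLib.Geom.sympBilin_sep m (by
      rw [Module.finrank_fintype_fun_eq_card, Fintype.card_sum, Fintype.card_fin]; ring)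

/-- The valuation of the order. -/
theorem val_card (hℓq : ¬ ℓ ∣ Fintype.card F) (m : ℕ) :
    (Nat.card (Matrix.symplecticGroup (Fin m) F)).factorization ℓ =
      m / ord ℓ (Fintype.card F) *
        padicValNat ℓ ((Fintype.card F ^ 2) ^ ord ℓ (Fintype.card F) - 1) +
      padicValNat ℓ (m / ord ℓ (Fintype.card F)).factorial := by
  have h2 : 2 ≤ Fintype.card F := Fintype.one_lt_card
  have hne : ∀ i ∈ Finset.range m, Fintype.card F ^ (2 * (i + 1)) - 1 ≠ 0 := fun i _ => by
    have := Nat.one_lt_pow (n := 2 * (i + 1)) (by omega) (show 1 < Fintype.card F by omega)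
    omega
  rw [card_sp, Nat.factorization_mul (pow_ne_zero _ (by omega)) (Finset.prod_ne_zero_iff.2 hne),
    Finsupp.add_apply, Nat.factorization_prod_apply hne,
    Nat.factorization_eq_zero_of_not_dvd (fun h => hℓq (hℓ.out.dvd_of_dvd_pow h)), zero_add,
    ← val_sum h2 hℓq m]
  refine Finset.sum_congr rfl fun i _ => ?_
  rw [Nat.factorization_def _ hℓ.out, ← pow_mul]

theorem not_dvd_index_of_val {G : Type*} [Group G] [Finite G] (N : Subgroup G)
    (h : (Nat.card G).factorization ℓ ≤ (Nat.card N).factorization ℓ) : ¬ ℓ ∣ N.index := by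
  intro hd
  have h1 := congrArg (fun n => n.factorization ℓ) N.card_mul_index
  rw [Nat.factorization_mul Nat.card_pos.ne' Subgroup.index_ne_zero_of_finite, Finsupp.add_apply] at h1
  have h2 := (hℓ.out.dvd_iff_one_le_factorization Subgroup.index_ne_zero_of_finite).1 hd
  omega

theorem ab_pow_char (r : ℕ) [CharP F r] (m : ℕ) (g : Matrix.symplecticGroup (Fin m) F) :
    Abelianization.of g ^ r = 1 := by
  have hg : g ∈ Subgroup.closure {A : Matrix.symplecticGroup (Fin m) F | ∃ (w : Fin m ⊕ Fin m → F) (c : F),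
      (A : Matrix (Fin m ⊕ Fin m) (Fin m ⊕ Fin m) F) = Cfsg.sympTransvection m w c} := by
    rw [CfsgLib.Geom.closure_sympTransvection]; exact Subgroup.mem_top g
  induction hg using Subgroup.closure_induction with
  | mem A hA =>
    obtain ⟨w, c, hA⟩ := hA
    have hpow : ∀ k : ℕ, ((A ^ k : Matrix.symplecticGroup (Fin m) F) : Matrix (Fin m ⊕ Fin m) (Fin m ⊕ Fin m) F) =
        Cfsg.sympTransvection m w ((k : F) * c) := by
      intro k
      refine Matrix.toLin'.injective (LinearMap.ext fun x => ?_)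
      simp only [Matrix.toLin'_apply]
      induction k generalizing x with
      | zero => rw [CfsgLib.Geom.sympTransvection_mulVec]; simp
      | succ k ih =>
        rw [pow_succ']
        show ((A : Matrix (Fin m ⊕ Fin m) (Fin m ⊕ Fin m) F) * ((A ^ k : Matrix.symplecticGroup (Fin m) F) : Matrix (Fin m ⊕ Fin m) (Fin m ⊕ Fin m) F)) *ᵥ x = _
        rw [← Matrix.mulVec_mulVec, ih, hA, CfsgLib.Geom.sympTransvection_mulVec,
          CfsgLib.Geom.sympTransvection_mulVec, CfsgLib.Geom.sympTransvection_mulVec, map_add,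
          LinearMap.add_apply, map_smul, LinearMap.smul_apply, CfsgLib.Geom.sympBilin_self, smul_zero,
          add_zero, Nat.cast_succ, add_assoc, ← add_smul]
        congr 2
        ring
    have : A ^ r = 1 := Subtype.ext (by
      rw [hpow r, CharP.cast_eq_zero, zero_mul, Cfsg.sympTransvection]; simp)
    rw [← map_pow, this, map_one]
  | one => rw [map_one, one_pow]
  | mul a b _ _ ha hb => rw [map_mul, mul_pow, ha, hb, one_mul]
  | inv a _ ha => rw [map_inv, inv_pow, ha, inv_one]

/-- The abelianisation is a `p`-group. -/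
theorem not_dvd_ab (hℓq : ¬ ℓ ∣ Fintype.card F) (m : ℕ) :
    ¬ ℓ ∣ Nat.card (Abelianization (Matrix.symplecticGroup (Fin m) F)) := by
  intro hd
  obtain ⟨r, hr⟩ := CharP.exists F
  obtain ⟨f, hrp, hf⟩ := FiniteField.card F r
  haveI := Fact.mk hrp
  obtain ⟨x, hx⟩ := exists_prime_orderOf_dvd_card' ℓ hd
  obtain ⟨g, rfl⟩ := QuotientGroup.mk'_surjective _ x
  have := orderOf_dvd_of_pow_eq_one (ab_pow_char r m g)
  rw [show orderOf (Abelianization.of g) = ℓ from hx] at this
  obtain rfl := (Nat.prime_dvd_prime_iff_eq hℓ.out hrp).1 this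
  exact hℓq (hf ▸ dvd_pow_self ℓ f.ne_zero)

/-- `SL₂` away from the characteristic. -/
theorem mfree_sl2 (hℓq : ¬ ℓ ∣ Fintype.card F) : MFree ℓ (Matrix.SpecialLinearGroup (Fin 2) F) := by
  intro E _ π hπ
  rw [kills_top_iff]
  intro z hz hzc
  have := hπ.fin
  obtain ⟨Γ, _, _, τ, hτ, ι, hι⟩ := CfsgLib.StructB.exists_stem_of_central π hπ.cs.surj hπ.cs.central
  obtain ⟨w, hw⟩ := hι ⟨z, hz⟩ hzc
  obtain ⟨i, hi, hzi⟩ := CfsgLib.KnownA.SL2Stem.split_torus hτ
  obtain ⟨j, hj, hzj⟩ := CfsgLib.KnownA.SL2Stem.nonsplit_torus hτ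
  have hpow : ∀ k : ℕ, (w : Γ) ^ k = 1 → z ^ k = 1 := fun k hk => by
    have h1 : w ^ k = 1 := Subtype.ext hk
    have h2 := congrArg (fun x => ((ι x : π.ker) : E)) h1
    simp only [map_pow, map_one, hw] at h2
    exact h2
  have d1 := (Nat.mul_dvd_mul_left 2 (orderOf_dvd_of_pow_eq_one (hpow i (hzi _ w.2)))).trans hi
  have d2 := (Nat.mul_dvd_mul_left 2 (orderOf_dvd_of_pow_eq_one (hpow j (hzj _ w.2)))).trans hj
  have d3 := Nat.dvd_sub d1 d2
  have hq : 1 ≤ Fintype.card F := Fintype.card_pos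
  rw [← Nat.mul_sub, show Fintype.card F + 1 - (Fintype.card F - 1) = 2 by omega,
    mul_comm (Fintype.card F) 2] at d3
  exact pow_eq_one_of_coprime hπ hℓq hz
    (orderOf_dvd_iff_pow_eq_one.1 (Nat.dvd_of_mul_dvd_mul_left (by norm_num) d3))

/-- All `Sp_{2m}` are good away from the characteristic. -/
theorem good_sp (hℓq : ¬ ℓ ∣ Fintype.card F) :
    ∀ m : ℕ, Good ℓ (Matrix.symplecticGroup (Fin m) F) := by
  intro m
  induction m using Nat.strong_induction_on with
  | _ m ih =>
  refine ⟨?_, not_dvd_ab hℓq m⟩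
  have h2 : 2 ≤ Fintype.card F := Fintype.one_lt_card
  set q := Fintype.card F with hq
  have hd := ord_pos (ℓ := ℓ) (q := q) hℓq
  set d := ord ℓ q with hdd
  -- a split into two smaller groups
  have split : ∀ a b : ℕ, a + b = m → 0 < a → 0 < b →
      a / d + b / d = m / d → ¬ ℓ ∣ (m / d).choose (a / d) →
      MFree ℓ (Matrix.symplecticGroup (Fin m) F) := by
    intro a b hab ha hb hdiv hch
    let f : Matrix.symplecticGroup (Fin a) F × Matrix.symplecticGroup (Fin b) F →*
        Matrix.symplecticGroup (Fin m) F :=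
      (SpEmbed.reindexSp (finSumFinEquiv.trans (finCongr hab))).toMonoidHom.comp SpEmbed.spSum
    have hf : Function.Injective f :=
      (SpEmbed.reindexSp _).injective.comp SpEmbed.spSum_injective
    refine mfree_of_index (H := f.range) (not_dvd_index_of_val _ (le_of_eq ?_))
      (((ih a (by omega)).prod (ih b (by omega))).of_equiv (MonoidHom.ofInjective hf)).mfree
    rw [← Nat.card_congr (MonoidHom.ofInjective hf).toEquiv, Nat.card_prod,
      Nat.factorization_mul Nat.card_pos.ne' Nat.card_pos.ne', Finsupp.add_apply, val_card hℓq, val_card hℓq,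
      val_card hℓq, ← hq, ← hdd, ← hdiv]
    rw [← hdiv] at hch
    rw [← val_choose hch]
    ring
  by_cases hK : m / d = 0
  · refine mfree_of_index (H := ⊥) (not_dvd_index_of_val _ ?_) (fun E _ π hπ => ?_)
    · rw [val_card hℓq, ← hq, ← hdd, hK]; simp
    · exact (good_of_subsingleton (ℓ := ℓ)).mfree E π hπ
  by_cases hex : m = d * (m / d)
  swap
  · have hlt : d * (m / d) < m := lt_of_le_of_ne (Nat.mul_div_le m d) (Ne.symm hex)
    refine split (d * (m / d)) (m - d * (m / d)) (by omega) (Nat.mul_pos hd (Nat.pos_of_ne_zero hK))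
      (by omega) ?_ ?_
    · have hm' : m - d * (m / d) = m % d := by have := Nat.div_add_mod m d; omega
      rw [hm', Nat.div_eq_of_lt (Nat.mod_lt m hd), Nat.mul_div_cancel_left _ hd, add_zero]
    · rw [Nat.mul_div_cancel_left _ hd, Nat.choose_self]; exact hℓ.out.not_dvd_one
  obtain ⟨K, hKm⟩ : ∃ K, K = m / d := ⟨_, rfl⟩
  rw [← hKm] at hK hex
  obtain ⟨t, r, hr, hKr⟩ := Nat.exists_eq_pow_mul_and_not_dvd hK ℓ hℓ.out.ne_one
  by_cases hr1 : r = 1
  swap
  · have hr0 : r ≠ 0 := by rintro rfl; exact hr (dvd_zero ℓ)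
    have hlt : ℓ ^ t < K := by
      rw [hKr]; exact (Nat.lt_mul_iff_one_lt_right (pow_pos hℓ.out.pos t)).2 (by omega)
    refine split (d * ℓ ^ t) (m - d * ℓ ^ t) ?_ (Nat.mul_pos hd (pow_pos hℓ.out.pos t)) ?_ ?_ ?_
    · have := Nat.mul_le_mul_left d hlt.le; omega
    · have := Nat.mul_lt_mul_of_pos_left hlt hd; omega
    · rw [hex, ← Nat.mul_sub, Nat.mul_div_cancel_left _ hd, Nat.mul_div_cancel_left _ hd,
        Nat.mul_div_cancel_left _ hd]
      omega
    · rw [← hKm, Nat.mul_div_cancel_left _ hd, hKr]; exact not_dvd_choose_pow t r hr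
  rw [hr1, mul_one] at hKr
  rcases Nat.eq_zero_or_pos t with rfl | ht
  · -- cyclic Sylow subgroup, or `SL₂`
    rw [pow_zero] at hKr
    rw [hKr, mul_one] at hex
    have hm0 : m ≠ 0 := by omega
    haveI : NeZero m := ⟨hm0⟩
    set a := padicValNat ℓ ((q ^ 2) ^ d - 1)
    have hval : (Nat.card (Matrix.symplecticGroup (Fin m) F)).factorization ℓ = a := by
      rw [val_card hℓq, ← hq, ← hdd, ← hKm, hKr]; simp [a]
    obtain ⟨pc, hpc⟩ := CharP.exists F
    haveI := hpc
    haveI : Fact pc.Prime := ⟨CharP.char_is_prime F pc⟩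
    let L := FiniteField.Extension F pc m
    haveI : Fintype L := Fintype.ofFinite L
    have hL : Fintype.card L = q ^ m := by
      rw [hq, ← Nat.card_eq_fintype_card, ← Nat.card_eq_fintype_card, FiniteField.natCard_extension]
    let b := (Module.finBasis F L).reindex (finCongr (FiniteField.finrank_extension F pc m))
    by_cases hm1 : m = 1 ∧ ℓ = 2
    · -- the group is `SL₂`
      obtain ⟨hm1, -⟩ := hm1
      subst hm1
      let b1 : Module.Basis (Fin 1) F F := Module.Basis.singleton (Fin 1) F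
      have hinj := CfsgLib.KnownB.SpElem.restrictSp_injective b1
      have hcard : Nat.card (Matrix.SpecialLinearGroup (Fin 2) F) =
          Nat.card (Matrix.symplecticGroup (Fin 1) F) := by
        rw [CfsgLib.KnownA.SL2Stem.card_sl2, card_sp, ← hq, Finset.prod_range_one,
          show q ^ 1 ^ 2 = q by norm_num, show q ^ (2 * (0 + 1)) - 1 = (q + 1) * (q - 1) by
            rw [← Nat.sq_sub_sq]]
      let e := MulEquiv.ofBijective _ ((Nat.bijective_iff_injective_and_card
        (CfsgLib.KnownB.SpElem.restrictSp b1)).2 ⟨hinj, hcard⟩)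
      intro E _ π hπ
      have hk : (e.symm.toMonoidHom.comp π).ker = π.ker := by ext x; simp [MonoidHom.mem_ker]
      have h' : IsLExt ℓ (e.symm.toMonoidHom.comp π) :=
        ⟨⟨e.symm.surjective.comp hπ.cs.surj, hk ▸ hπ.cs.central⟩, hπ.fin, hk ▸ hπ.isP⟩
      intro z hz hzc
      exact mfree_sl2 hℓq E _ h' z (by rw [hk]; exact hz) hzc
    -- an element of order `ℓ^a`
    have hℓ2 : ℓ ≠ 2 := by
      intro h2'
      apply hm1
      refine ⟨?_, h2'⟩
      rw [hex, hdd, ord]
      subst h2'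
      have : ((q ^ 2 : ℕ) : ZMod 2) = 1 := by
        have hqo : ¬ 2 ∣ q := hℓq
        rw [← Nat.cast_one, ZMod.natCast_eq_natCast_iff', Nat.pow_mod]
        have : q % 2 = 1 := by omega
        rw [this]
      rw [this, orderOf_one]
    obtain ⟨g, hg⟩ : ∃ g : Matrix.symplecticGroup (Fin m) F, ℓ ^ a ∣ orderOf g := by
      have hdiv : ℓ ^ a ∣ (q ^ m - 1) * (q ^ m + 1) := by
        have : (q ^ m - 1) * (q ^ m + 1) = (q ^ 2) ^ d - 1 := by
          rw [← hex, mul_comm, ← Nat.sq_sub_sq, one_pow, ← pow_mul, ← pow_mul, mul_comm 2]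
        rw [this]
        exact pow_padicValNat_dvd
      by_cases h1 : ℓ ∣ q ^ m - 1
      · have h3 : ¬ ℓ ∣ q ^ m + 1 := fun h => by
          have := Nat.dvd_sub h h1
          have h1q := Nat.one_le_pow m q (by omega)
          rw [show q ^ m + 1 - (q ^ m - 1) = 2 by omega] at this
          exact hℓ2 ((Nat.prime_dvd_prime_iff_eq hℓ.out Nat.prime_two).1 this)
        obtain ⟨c, hc⟩ := IsCyclic.exists_generator (α := Lˣ)
        let A : Matrix.SpecialLinearGroup (Fin 2) L := CfsgLib.KnownA.SL2Stem.dg c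
        refine ⟨CfsgLib.KnownB.SpElem.restrictSp b A, ?_⟩
        rw [orderOf_injective _ (CfsgLib.KnownB.SpElem.restrictSp_injective b),
          orderOf_injective _ CfsgLib.KnownA.SL2Stem.dg_inj, orderOf_eq_card_of_forall_mem_zpowers hc,
          Nat.card_units, Nat.card_eq_fintype_card, hL]
        exact (((hℓ.out.coprime_iff_not_dvd).2 h3).pow_left a).dvd_of_dvd_mul_right hdiv
      · obtain ⟨g, hg⟩ := CfsgLib.KnownB.SpElem.exists_orderOf (F := F) pc m
        refine ⟨g, ?_⟩
        rw [hg, ← hq]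
        exact (((hℓ.out.coprime_iff_not_dvd).2 h1).pow_left a).dvd_of_dvd_mul_left hdiv
    refine fun E _ π hπ => kills_top_of_index hπ (H := Subgroup.zpowers g) (not_dvd_index_of_val _ ?_)
      (kills_zpowers hπ.cs g)
    rw [hval, Nat.card_zpowers]
    exact (hℓ.out.pow_dvd_iff_le_factorization (orderOf_pos g).ne').1 hg
  · -- wreath product
    obtain ⟨s, rfl⟩ : ∃ s, t = s + 1 := ⟨t - 1, by omega⟩
    set c := d * ℓ ^ s
    have hmc : m = c * ℓ := by rw [hex, hKr, pow_succ, ← mul_assoc]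
    have hc0 : 0 < c := Nat.mul_pos hd (pow_pos hℓ.out.pos s)
    have hcm : c < m := by rw [hmc]; exact (Nat.lt_mul_iff_one_lt_right hc0).2 hℓ.out.one_lt
    haveI : Nonempty (Fin c) := ⟨⟨0, hc0⟩⟩
    let e := SpEmbed.reindexSp (F := F) ((finProdFinEquiv (m := c) (n := ℓ)).trans (finCongr hmc.symm))
    let f : (Fin ℓ → Matrix.symplecticGroup (Fin c) F) →* Matrix.symplecticGroup (Fin m) F :=
      e.toMonoidHom.comp SpEmbed.blk
    have hf : Function.Injective f := e.injective.comp SpEmbed.blk_injective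
    let σ : Equiv.Perm (Fin ℓ) := finRotate ℓ
    have hσ1 : σ ≠ 1 := by
      intro h
      obtain ⟨l', hl'⟩ : ∃ l', ℓ = l' + 2 := ⟨ℓ - 2, by have := hℓ.out.two_le; omega⟩
      subst hl'
      have := congrArg (fun p : Equiv.Perm (Fin (l' + 2)) => p 0) h
      simp [σ, finRotate_succ_apply] at this
    have hσℓ : σ ^ ℓ = 1 := by
      obtain ⟨l', hl'⟩ : ∃ l', ℓ = l' + 2 := ⟨ℓ - 2, by have := hℓ.out.two_le; omega⟩
      subst hl'
      have ho : orderOf (finRotate (l' + 2)) = l' + 2 := by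
        rw [Equiv.Perm.IsCycle.orderOf isCycle_finRotate, support_finRotate, Finset.card_univ, Fintype.card_fin]
      exact orderOf_dvd_iff_pow_eq_one.1 ho.dvd
    set g := e (SpEmbed.blkPerm σ)
    have hnorm : ∀ k, k ∈ f.range ↔ g * k * g⁻¹ ∈ f.range := by
      intro k
      constructor
      · rintro ⟨A, rfl⟩
        refine ⟨fun i => A (σ⁻¹ i), ?_⟩
        show e (SpEmbed.blk _) = e _ * e (SpEmbed.blk A) * (e _)⁻¹
        rw [← SpEmbed.blkPerm_conj, map_mul, map_mul, map_inv]
      · rintro ⟨A, hA⟩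
        refine ⟨fun i => A (σ i), ?_⟩
        have h := SpEmbed.blkPerm_conj (F := F) σ fun i => A (σ i)
        rw [show (fun i => (fun i => A (σ i)) (σ⁻¹ i)) = A by funext i; simp] at h
        have h' := congrArg e h
        rw [map_mul, map_mul, map_inv] at h'
        show e (SpEmbed.blk fun i => A (σ i)) = k
        have h'' : g * e (SpEmbed.blk fun i => A (σ i)) * g⁻¹ = g * k * g⁻¹ := h'.trans hA
        exact mul_left_cancel (mul_right_cancel h'')
    refine fun E _ π hπ => kills_top_of_index hπ (H := f.range ⊔ Subgroup.zpowers g)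
      (not_dvd_index_of_val _ ?_)
      (kills_sup_zpowers hπ ((Good.pi (ih c hcm) ℓ).of_equiv (MonoidHom.ofInjective hf)) g hnorm)
    set N := f.range ⊔ Subgroup.zpowers g
    have hdiv : Nat.card f.range * ℓ ∣ Nat.card N := by
      have hle : f.range ≤ N := le_sup_left
      haveI : (f.range.subgroupOf N).Normal := by
        rw [Subgroup.normal_subgroupOf_iff_le_normalizer hle]
        refine sup_le Subgroup.le_normalizer (Subgroup.zpowers_le.2 ?_)
        rw [Subgroup.mem_normalizer_iff]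
        exact hnorm
      have ho : orderOf (QuotientGroup.mk' (f.range.subgroupOf N)
          ⟨g, Subgroup.mem_sup_right (Subgroup.mem_zpowers g)⟩) = ℓ := by
        apply orderOf_eq_prime
        · rw [← map_pow, QuotientGroup.mk'_apply, QuotientGroup.eq_one_iff, Subgroup.mem_subgroupOf]
          show g ^ ℓ ∈ f.range
          rw [← map_pow, ← map_pow, hσℓ, map_one, map_one]
          exact one_mem _
        · rw [QuotientGroup.mk'_apply, ne_eq, QuotientGroup.eq_one_iff, Subgroup.mem_subgroupOf]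
          rintro ⟨A, hA⟩
          exact SpEmbed.blkPerm_not_mem hσ1 ⟨A, e.injective hA⟩
      rw [← (f.range.subgroupOf N).card_mul_index, Nat.card_congr (Subgroup.subgroupOfEquivOfLe hle).toEquiv]
      refine Nat.mul_dvd_mul_left _ ?_
      rw [Subgroup.index_eq_card]
      have := orderOf_dvd_natCard (QuotientGroup.mk' (f.range.subgroupOf N)
          ⟨g, Subgroup.mem_sup_right (Subgroup.mem_zpowers g)⟩)
      rwa [ho] at this
    have h1 := (Nat.factorization_le_iff_dvd (mul_ne_zero Nat.card_pos.ne' hℓ.out.ne_zero) Nat.card_pos.ne').2 hdiv ℓ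
    rw [Nat.factorization_mul Nat.card_pos.ne' hℓ.out.ne_zero, Finsupp.add_apply, hℓ.out.factorization_self,
      ← Nat.card_congr (MonoidHom.ofInjective hf).toEquiv, Nat.card_fun, Nat.card_fin, Nat.factorization_pow,
      Finsupp.smul_apply, smul_eq_mul, val_card hℓq, ← hq, ← hdd] at h1
    rw [val_card hℓq, ← hq, ← hdd, ← hKm, hKr]
    refine le_trans (le_of_eq ?_) h1
    rw [show c / d = ℓ ^ s from Nat.mul_div_cancel_left _ hd, ← val_factorial_pow s, pow_succ]
    ring

end CfsgLib.KnownA.SpStemL
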