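import Mathlib
import Cfsg.Agent.Lib.KnownA.SUTools
import Cfsg.Agent.Lib.KnownA.SUArith
import Cfsg.Agent.Lib.KnownA.SpStemL
import Cfsg.Agent.Lib.KnownA.SUHeis
import Cfsg.Agent.Lib.Classical.UMinDegMain

/-!
The parts of the multiplier of `SU_n(q)` prime to the characteristic.
-/

set_option autoImplicit false
set_option linter.unusedSectionVars false

namespace CfsgLib.KnownA.SUStemL

open Matrix CfsgLib.Classical CfsgLib.KnownA.SUModel CfsgLib.KnownA.SUTools CfsgLib.KnownA.SUFieldTools
  CfsgLib.KnownA.SUArith CfsgLib.KnownA.LGood CfsgLib.KnownA.CExt CfsgLib.KnownA.PowPredVal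
open scoped commutatorElement

universe u

variable {F : Type u} [Field F] [Fintype F] {q : ℕ} {hF : Fintype.card F = q ^ 2}

local notation "σ" => qFrob hF

/-- `SL₂(q) ≃ SU₂(q)`. -/
theorem exists_sl2_equiv : ∃ (K : Subfield F), Nat.card K = q ∧
    Nonempty (Matrix.SpecialLinearGroup (Fin 2) K ≃* sug hF (Fin 2)) := by
  classical
  have hq := two_le_of_card_sq hF
  let K : Subfield F := RingHom.eqLocusField (qFrob hF) (RingHom.id F)
  have hK : Nat.card K = q := SemiUnitaryClasses.natCard_fixed hF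
  refine ⟨K, hK, ?_⟩
  obtain ⟨P⟩ := SUHeis.exists_pair hF
  obtain ⟨c, hc⟩ := SemiUnitary.exists_theta hF
  set θ : F := σ c - c with hθ
  have hθ0 : θ ≠ 0 := sub_ne_zero.2 hc
  have hσθ : σ θ = -θ := by rw [hθ, map_sub, qFrob_qFrob, neg_sub]
  let M : Matrix (Fin 2) (Fin 2) F := !![P.x 0, θ * P.y 0; P.x 1, θ * P.y 1]
  let J : Matrix (Fin 2) (Fin 2) F := !![0, θ; -θ, 0]
  have e1 : ∀ a b : Fin 2 → F, SUHeis.hd hF a b = σ (a 0) * b 0 + σ (a 1) * b 1 := fun a b => by
    simp [SUHeis.hd, dotProduct, Fin.sum_univ_two]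
  have hxx := P.xx; have hyy := P.yy; have hxy := P.xy; have hyx := P.yx
  rw [e1] at hxx hyy hxy hyx
  have hMJ : ct hF M * M = J := by
    ext i j
    fin_cases i <;> fin_cases j <;>
      simp [M, J, ct_apply, Matrix.mul_apply, Fin.sum_univ_two, hσθ]
    · linear_combination hxx
    · linear_combination θ * hxy
    · linear_combination -θ * hyx
    · linear_combination -(θ * θ) * hyy
  have hMdet : M.det ≠ 0 := fun h => by
    have := congrArg Matrix.det hMJ
    rw [det_mul, h, mul_zero, show J.det = θ * θ by simp [J, det_fin_two]] at this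
    exact mul_ne_zero hθ0 hθ0 this.symm
  let Mu : GL (Fin 2) F := Matrix.GeneralLinearGroup.mkOfDetNeZero M hMdet
  have hMu : (Mu : Matrix (Fin 2) (Fin 2) F) = M := rfl
  have hinv1 : M * (↑Mu⁻¹ : Matrix (Fin 2) (Fin 2) F) = 1 := by rw [← hMu, ← Units.val_mul, mul_inv_cancel, Units.val_one]
  have hinv2 : (↑Mu⁻¹ : Matrix (Fin 2) (Fin 2) F) * M = 1 := by rw [← hMu, ← Units.val_mul, inv_mul_cancel, Units.val_one]
  let sub : K →+* F := K.subtype
  let f : Matrix.SpecialLinearGroup (Fin 2) K →* sug hF (Fin 2) :=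
    { toFun := fun A => SUModel.mk hF (M * (A.1.map sub) * (↑Mu⁻¹ : Matrix (Fin 2) (Fin 2) F))
        (by
          have hA : ct hF (A.1.map sub) * J * A.1.map sub = J := by
            have hd : sub (A.1 0 0) * sub (A.1 1 1) - sub (A.1 0 1) * sub (A.1 1 0) = 1 := by
              rw [← map_mul, ← map_mul, ← map_sub, ← det_fin_two, A.2, map_one]
            have hs : ∀ i j, σ (sub (A.1 i j)) = sub (A.1 i j) := fun i j => (A.1 i j).2
            ext i j
            fin_cases i <;> fin_cases j <;>
              simp [J, ct_apply, Matrix.mul_apply, Fin.sum_univ_two, hs] <;>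
              first
                | ring1
                | linear_combination θ * hd
                | linear_combination -θ * hd
          rw [ct_mul, ct_mul]
          calc ct hF (↑Mu⁻¹ : Matrix (Fin 2) (Fin 2) F) * (ct hF (A.1.map sub) * ct hF M) *
                (M * A.1.map sub * (↑Mu⁻¹ : Matrix (Fin 2) (Fin 2) F))
              = ct hF (↑Mu⁻¹ : Matrix (Fin 2) (Fin 2) F) * (ct hF (A.1.map sub) * (ct hF M * M) * A.1.map sub) *
                  (↑Mu⁻¹ : Matrix (Fin 2) (Fin 2) F) := by simp only [Matrix.mul_assoc]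
            _ = (ct hF (↑Mu⁻¹ : Matrix (Fin 2) (Fin 2) F) * ct hF M) * (M * (↑Mu⁻¹ : Matrix (Fin 2) (Fin 2) F)) := by
                rw [hMJ, hA, ← hMJ]; simp only [Matrix.mul_assoc]
            _ = 1 := by rw [← ct_mul, hinv1, ct_one, Matrix.one_mul])
        (by
          rw [det_mul, det_mul, ← RingHom.mapMatrix_apply, ← RingHom.map_det, A.2, map_one, mul_one,
            ← det_mul, hinv1, det_one])
      map_one' := mat_injective hF (by
        show M * (1 : Matrix (Fin 2) (Fin 2) K).map sub * (↑Mu⁻¹ : Matrix (Fin 2) (Fin 2) F) = 1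
        rw [Matrix.map_one _ (map_zero _) (map_one _), Matrix.mul_one, hinv1])
      map_mul' := fun A B => mat_injective hF (by
        simp only [mat_mk, map_mul, Matrix.SpecialLinearGroup.coe_mul, Matrix.map_mul]
        simp only [Matrix.mul_assoc]
        rw [← Matrix.mul_assoc (↑Mu⁻¹ : Matrix (Fin 2) (Fin 2) F) M, hinv2, Matrix.one_mul]) }
  have hinj : Function.Injective f := fun A B h => by
    have h' : M * (A.1.map sub) * (↑Mu⁻¹ : Matrix (Fin 2) (Fin 2) F) =
        M * (B.1.map sub) * (↑Mu⁻¹ : Matrix (Fin 2) (Fin 2) F) := congrArg (mat hF) h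
    have h2 := congrArg (fun X => (↑Mu⁻¹ : Matrix (Fin 2) (Fin 2) F) * X * M) h'
    simp only [← Matrix.mul_assoc, hinv2, Matrix.one_mul] at h2
    simp only [Matrix.mul_assoc, hinv2, Matrix.mul_one] at h2
    exact Subtype.ext (Matrix.map_injective sub.injective h2)
  have hcard : Nat.card (Matrix.SpecialLinearGroup (Fin 2) K) = Nat.card (sug hF (Fin 2)) := by
    have hfin : Fintype K := Fintype.ofFinite K
    rw [CfsgLib.KnownA.SL2Stem.card_sl2, ← Nat.card_eq_fintype_card, hK, card_sug, Fintype.card_fin]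
    have h := card_su_mul hF (n := 2) (by norm_num)
    rw [card_gu hF 2, Finset.prod_range_succ, Finset.prod_range_succ, Finset.prod_range_zero,
      if_pos Even.zero, if_neg (by simp), show q ^ (1 + 1) - 1 = (q + 1) * (q - 1) by
        simpa using Nat.sq_sub_sq q 1] at h
    simp only [show 2 * (2 - 1) / 2 = 1 from rfl, pow_one, one_mul, zero_add] at h
    refine Nat.eq_of_mul_eq_mul_left (show 0 < q + 1 by omega) ?_
    rw [h]; ring
  exact ⟨MulEquiv.ofBijective f ((Nat.bijective_iff_injective_and_card f).2 ⟨hinj, hcard⟩)⟩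

variable {ℓ : ℕ} [hℓ : Fact ℓ.Prime]

theorem good_two (hℓq : ¬ ℓ ∣ q) : Good ℓ (sug hF (Fin 2)) := by
  classical
  obtain ⟨K, hK, ⟨e⟩⟩ := exists_sl2_equiv (hF := hF)
  have : Fintype K := Fintype.ofFinite K
  have hKc : Fintype.card K = q := by rw [← Nat.card_eq_fintype_card, hK]
  let b1 : Module.Basis (Fin 1) K K := Module.Basis.singleton (Fin 1) K
  have hinj := CfsgLib.KnownB.SpElem.restrictSp_injective b1
  have hcard : Nat.card (Matrix.SpecialLinearGroup (Fin 2) K) =
      Nat.card (Matrix.symplecticGroup (Fin 1) K) := by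
    rw [CfsgLib.KnownA.SL2Stem.card_sl2, SpStemL.card_sp, Finset.prod_range_one,
      show Fintype.card K ^ 1 ^ 2 = Fintype.card K by norm_num,
      show Fintype.card K ^ (2 * (0 + 1)) - 1 = (Fintype.card K + 1) * (Fintype.card K - 1) by
        rw [← Nat.sq_sub_sq]]
  let e1 := MulEquiv.ofBijective _ ((Nat.bijective_iff_injective_and_card
    (CfsgLib.KnownB.SpElem.restrictSp b1)).2 ⟨hinj, hcard⟩)
  exact (SpStemL.good_sp (by rw [hKc]; exact hℓq) 1).of_equiv (e1.symm.trans e)

theorem sub_le_one {n : ℕ} (hn : n ≤ 1) : Subsingleton (sug hF (Fin n)) := ⟨fun a b => by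
  refine mat_injective hF ?_
  rcases Nat.le_one_iff_eq_zero_or_eq_one.1 hn with rfl | rfl
  · ext i; exact i.elim0
  · ext i j
    obtain rfl := Fin.eq_zero i; obtain rfl := Fin.eq_zero j
    have h1 := det_mat hF a
    have h2 := det_mat hF b
    rw [det_fin_one] at h1 h2
    rw [h1, h2]⟩

theorem factorization_le_of_le {G : Type*} [Group G] [Finite G] {H K : Subgroup G} (h : H ≤ K) :
    (Nat.card H).factorization ℓ ≤ (Nat.card K).factorization ℓ :=
  (Nat.factorization_le_iff_dvd Nat.card_pos.ne' Nat.card_pos.ne').2 (Subgroup.card_dvd_of_le h) ℓ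

theorem card_sup_zpowers_dvd {G : Type*} [Group G] [Finite G] (K : Subgroup G) (g : G)
    (hn : ∀ k ∈ K, g * k * g⁻¹ ∈ K) (l : ℕ) (hl : ∀ i : ℕ, g ^ i ∈ K → l ∣ i) :
    Nat.card K * l ∣ Nat.card (K ⊔ Subgroup.zpowers g : Subgroup G) := by
  set N := K ⊔ Subgroup.zpowers g with hN
  have hle : K ≤ N := le_sup_left
  have : (K.subgroupOf N).Normal := by
    rw [Subgroup.normal_subgroupOf_iff_le_normalizer hle]
    refine sup_le Subgroup.le_normalizer (Subgroup.zpowers_le.2 ?_)
    rw [Subgroup.mem_normalizer_iff]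
    exact norm_iff_of_le hn
  set x := QuotientGroup.mk' (K.subgroupOf N) ⟨g, Subgroup.mem_sup_right (Subgroup.mem_zpowers g)⟩
  have ho : l ∣ orderOf x := by
    refine hl _ ?_
    have h := pow_orderOf_eq_one x
    rw [← map_pow, QuotientGroup.mk'_apply, QuotientGroup.eq_one_iff, Subgroup.mem_subgroupOf] at h
    exact h
  rw [← (K.subgroupOf N).card_mul_index, Nat.card_congr (Subgroup.subgroupOfEquivOfLe hle).toEquiv]
  refine Nat.mul_dvd_mul_left _ (ho.trans ?_)
  rw [Subgroup.index_eq_card]
  exact orderOf_dvd_natCard x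

theorem card_sup_ge {G : Type*} [Group G] [Finite G] (K A : Subgroup G)
    (hn : ∀ a ∈ A, ∀ k ∈ K, a * k * a⁻¹ ∈ K) (hi : ∀ a ∈ A, a ∈ K → a = 1) :
    Nat.card K * Nat.card A = Nat.card (K ⊔ A : Subgroup G) := by
  have hAn : A ≤ Subgroup.normalizer (K : Set G) := fun a ha => by
    rw [Subgroup.mem_normalizer_iff]; exact norm_iff_of_le (hn a ha)
  let f : K × A → (K ⊔ A : Subgroup G) := fun ka =>
    ⟨ka.1.1 * ka.2.1, mul_mem (Subgroup.mem_sup_left ka.1.2) (Subgroup.mem_sup_right ka.2.2)⟩
  have hf : Function.Bijective f := by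
    constructor
    · rintro ⟨⟨k, hk⟩, ⟨a, ha⟩⟩ ⟨⟨k', hk'⟩, ⟨a', ha'⟩⟩ e
      have e1 : k * a = k' * a' := congrArg Subtype.val e
      have e2 : a' * a⁻¹ = k'⁻¹ * k := by
        rw [eq_inv_mul_iff_mul_eq, ← mul_assoc, ← e1, mul_inv_cancel_right]
      have h1 := hi _ (mul_mem ha' (inv_mem ha)) (e2 ▸ mul_mem (inv_mem hk') hk)
      obtain rfl := mul_inv_eq_one.1 h1
      obtain rfl := mul_right_cancel e1
      rfl
    · rintro ⟨g, hg⟩
      rw [← SetLike.mem_coe, Subgroup.coe_mul_of_right_le_normalizer_left K A hAn] at hg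
      obtain ⟨k, hk, a, ha, rfl⟩ := hg
      exact ⟨⟨⟨k, hk⟩, ⟨a, ha⟩⟩, rfl⟩
  rw [← Nat.card_eq_of_bijective f hf, Nat.card_prod]

/-- The base subgroup, the column torus and the cycle, with their orders. -/
theorem card_colSub (l c : ℕ) [NeZero l] [NeZero c] (hl : 2 ≤ l) :
    Nat.card (Fin l → sug hF (Fin c)) * (q + 1) ^ (l - 1) * l ∣
      Nat.card ((blk hF (ι := Fin c) (k := l)).range ⊔ (colTor (hF := hF) (c := c) (l := l)).range ⊔
        Subgroup.zpowers (blkB fun _ : Fin c => cyc (hF := hF) l) : Subgroup (sug hF (Fin c × Fin l))) ∧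
    (∀ a ∈ (colTor (hF := hF) (c := c) (l := l)).range, ∀ k ∈ (blk hF (ι := Fin c) (k := l)).range,
      a * k * a⁻¹ ∈ (blk hF (ι := Fin c) (k := l)).range) ∧
    (∀ k ∈ (blk hF (ι := Fin c) (k := l)).range,
      (blkB fun _ : Fin c => cyc (hF := hF) l) * k * (blkB fun _ : Fin c => cyc (hF := hF) l)⁻¹ ∈
        (blk hF (ι := Fin c) (k := l)).range) ∧
    (∀ a ∈ (colTor (hF := hF) (c := c) (l := l)).range,
      (blkB fun _ : Fin c => cyc (hF := hF) l) * a * (blkB fun _ : Fin c => cyc (hF := hF) l)⁻¹ ∈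
        (colTor (hF := hF) (c := c) (l := l)).range) ∧
    (∀ f : T0 hF l, ∃ f' : T0 hF l, (∀ i, f'.1 i = f.1 ((finRotate l).symm i)) ∧
      (blkB fun _ : Fin c => cyc (hF := hF) l) * colTor (c := c) f * (blkB fun _ : Fin c => cyc (hF := hF) l)⁻¹ =
        colTor f') := by
  set g := blkB fun _ : Fin c => cyc (hF := hF) l with hg
  have hAK : ∀ a ∈ (colTor (hF := hF) (c := c) (l := l)).range, ∀ k ∈ (blk hF (ι := Fin c) (k := l)).range,
      a * k * a⁻¹ ∈ (blk hF (ι := Fin c) (k := l)).range := by
    rintro _ ⟨f, rfl⟩ _ ⟨A, rfl⟩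
    rw [colTor_conj_blk]; exact ⟨_, rfl⟩
  have hτw : ∀ i j, mat hF (cyc (hF := hF) l) i j ≠ 0 → j = (finRotate l).symm i := by
    intro i j h
    rw [cyc, mat_mon, PEquiv.toMatrix_toPEquiv_mul, submatrix_apply, id] at h
    by_contra hne
    exact h (diagonal_apply_ne _ (Ne.symm hne))
  have hgK : ∀ k ∈ (blk hF (ι := Fin c) (k := l)).range, g * k * g⁻¹ ∈ (blk hF (ι := Fin c) (k := l)).range := by
    rintro _ ⟨A, rfl⟩
    refine ⟨fun i => A ((finRotate l).symm i), ?_⟩
    rw [hg, blkB_const_conj (cyc l) A _ (fun i j h => by rw [hτw i j h])]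
  have hgA : ∀ f : T0 hF l, ∃ f' : T0 hF l, (∀ i, f'.1 i = f.1 ((finRotate l).symm i)) ∧
      g * colTor (c := c) f * g⁻¹ = colTor f' := by
    intro f
    have hp : (fun i => f.1 ((finRotate l).symm i)) ∈ T0 hF l := by
      show ∏ i, f.1 ((finRotate l).symm i) = 1
      rw [Equiv.prod_comp (finRotate l).symm]; exact f.2
    refine ⟨⟨_, hp⟩, fun i => rfl, ?_⟩
    rw [hg]
    simp only [colTor, MonoidHom.comp_apply, ← map_mul, ← map_inv]
    congr 1
    funext x
    rw [Pi.mul_apply, Pi.mul_apply, Pi.inv_apply, MonoidHom.mulSingle_apply, MonoidHom.mulSingle_apply]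
    rcases eq_or_ne x 0 with rfl | hx
    · rw [Pi.mulSingle_eq_same, Pi.mulSingle_eq_same]
      exact mon_conj_dia hF _ _ _ (fun i => mem_muG.1 (f.1 i).2) (prod_T0 f)
    · rw [Pi.mulSingle_eq_of_ne hx, Pi.mulSingle_eq_of_ne hx, mul_one, mul_inv_cancel]
  refine ⟨?_, hAK, hgK, ?_, hgA⟩
  · set B := (blk hF (ι := Fin c) (k := l)).range ⊔ (colTor (hF := hF) (c := c) (l := l)).range with hB
    have hgB : ∀ k ∈ B, g * k * g⁻¹ ∈ B := by
      have : B ≤ B.comap (MulAut.conj g).toMonoidHom := by
        refine sup_le (fun k hk => Subgroup.mem_sup_left (hgK k hk)) ?_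
        rintro _ ⟨f, rfl⟩
        obtain ⟨f', -, e⟩ := hgA f
        exact Subgroup.mem_sup_right ⟨f', e.symm⟩
      exact fun k hk => this hk
    have hdiag : ∀ k ∈ B, ∀ x i j, i ≠ j → mat hF k (x, i) (x, j) = 0 := by
      let D : Subgroup (sug hF (Fin c × Fin l)) :=
        { carrier := {k | ∀ p r, p.2 ≠ r.2 → mat hF k p r = 0}
          one_mem' := fun p r h => by rw [map_one, Matrix.one_apply_ne (fun e => h (by rw [e]))]
          mul_mem' := fun {a b} ha hb p r h => by
            rw [map_mul, Matrix.mul_apply]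
            refine Finset.sum_eq_zero fun s _ => ?_
            rcases eq_or_ne p.2 s.2 with e | e
            · rw [hb s r (e ▸ h), mul_zero]
            · rw [ha p s e, zero_mul]
          inv_mem' := fun {a} ha p r h => by rw [mat_inv, ct_apply, ha r p (Ne.symm h), map_zero] }
      have : B ≤ D := by
        refine sup_le ?_ ?_
        · rintro _ ⟨A, rfl⟩ p r h
          rw [mat_blk, blockDiagonal_apply, if_neg h]
        · rintro _ ⟨f, rfl⟩ p r h
          rw [mat_colTor, diagonal_apply_ne _ (fun e => h (by rw [e]))]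
      exact fun k hk x i j hij => this hk (x, i) (x, j) hij
    refine (Nat.mul_dvd_mul_right (dvd_of_eq ?_) l).trans (card_sup_zpowers_dvd B g hgB l fun i hi => ?_)
    · rw [hB, ← card_sup_ge _ _ hAK ?_, ← Nat.card_congr (MonoidHom.ofInjective (blk_injective hF)).toEquiv]
      · congr 1
        obtain ⟨l', rfl⟩ : ∃ l', l = l' + 1 := ⟨l - 1, by omega⟩
        rw [← Nat.card_congr (MonoidHom.ofInjective (show Function.Injective (colTor (hF := hF) (c := c) (l := l' + 1))
          from blkB_injective.comp ((Pi.mulSingle_injective _).comp tor0_injective))).toEquiv, card_T0,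
          Nat.add_sub_cancel]
      · rintro _ ⟨f, rfl⟩ ⟨A, hA⟩
        rw [eq_one_of_colTor_mem f hA.symm, map_one]
    · refine dvd_of_cyc_pow_diag (hF := hF) hl i fun a b hab => ?_
      have := hdiag _ hi 0 a b hab
      rwa [hg, ← map_pow, mat_blkB, if_pos rfl, Pi.pow_apply] at this
  · rintro _ ⟨f, rfl⟩
    obtain ⟨f', -, e⟩ := hgA f
    exact ⟨f', e.symm⟩

theorem val_sum_m_eq (m : ℕ) (h : ℓ ∣ q + 1) (hm : 1 ≤ m) :
    (Nat.card (sug hF (Fin m))).factorization ℓ + padicValNat ℓ (q + 1) =
      m * padicValNat ℓ (q + 1) + m / 2 * bU ℓ q + padicValNat ℓ m.factorial := by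
  have hq := two_le_of_card_sq hF
  rw [val_su (fun hd => hℓ.out.not_dvd_one (by simpa using Nat.dvd_sub h hd)) hm, val_sum_on hq h]

theorem not_dvd_index_colSub (h : ℓ ∣ q + 1) (t : ℕ) [NeZero ℓ] [NeZero (ℓ ^ t)] (hb : bU ℓ q ≠ 0 → 1 ≤ t) :
    ¬ ℓ ∣ ((blk hF (ι := Fin (ℓ ^ t)) (k := ℓ)).range ⊔ (colTor (hF := hF) (c := ℓ ^ t) (l := ℓ)).range ⊔
        Subgroup.zpowers (blkB fun _ : Fin (ℓ ^ t) => cyc (hF := hF) ℓ) :
          Subgroup (sug hF (Fin (ℓ ^ t) × Fin ℓ))).index := by
  refine SpStemL.not_dvd_index_of_val _ ?_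
  have h2 := hℓ.out.two_le
  obtain ⟨hd, -⟩ := card_colSub (hF := hF) ℓ (ℓ ^ t) h2
  have h1 := (Nat.factorization_le_iff_dvd (mul_ne_zero (mul_ne_zero Nat.card_pos.ne' (pow_ne_zero _ (by omega)))
    hℓ.out.ne_zero) Nat.card_pos.ne').2 hd ℓ
  rw [Nat.factorization_mul (mul_ne_zero Nat.card_pos.ne' (pow_ne_zero _ (by omega))) hℓ.out.ne_zero,
    Nat.factorization_mul Nat.card_pos.ne' (pow_ne_zero _ (by omega)), Finsupp.add_apply, Finsupp.add_apply,
    hℓ.out.factorization_self, Nat.card_fun, Nat.card_fin, Nat.factorization_pow, Finsupp.smul_apply,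
    smul_eq_mul, Nat.factorization_pow, Finsupp.smul_apply, smul_eq_mul, Nat.factorization_def (q + 1) hℓ.out] at h1
  refine le_trans ?_ h1
  have hc := pow_pos hℓ.out.pos t
  have e2 := val_sum_m_eq (hF := hF) (ℓ ^ t) h hc
  have e1 := val_sum_m_eq (hF := hF) (Fintype.card (Fin (ℓ ^ t) × Fin ℓ)) h (by
    rw [Fintype.card_prod, Fintype.card_fin, Fintype.card_fin]; exact Nat.mul_pos hc hℓ.out.pos)
  rw [Fintype.card_prod, Fintype.card_fin, Fintype.card_fin] at e1
  rw [Nat.card_congr (reindexSU hF (Fintype.equivFin (Fin (ℓ ^ t) × Fin ℓ))).toEquiv, Fintype.card_prod,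
    Fintype.card_fin, Fintype.card_fin]
  have hv := val_factorial_pow (ℓ := ℓ) t
  rw [pow_succ] at hv
  set a := padicValNat ℓ (q + 1) with ha
  have e3 : ℓ * (Nat.card (sug hF (Fin (ℓ ^ t)))).factorization ℓ + ℓ * a =
      ℓ * (ℓ ^ t * a + ℓ ^ t / 2 * bU ℓ q + padicValNat ℓ (ℓ ^ t).factorial) := by
    rw [← mul_add, e2]
  have e4 : (ℓ - 1) * a + a = ℓ * a := by
    obtain ⟨l', hl'⟩ : ∃ l', ℓ = l' + 1 := ⟨ℓ - 1, by omega⟩
    rw [hl', Nat.add_sub_cancel]; ring
  have e5 : ℓ ^ t * ℓ / 2 * bU ℓ q = ℓ * (ℓ ^ t / 2 * bU ℓ q) := by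
    by_cases hb0 : bU ℓ q = 0
    · simp [hb0]
    · have hl2 : ℓ = 2 := by
        by_contra hne; exact hb0 (by simp [bU, hne])
      obtain ⟨s, rfl⟩ : ∃ s, t = s + 1 := ⟨t - 1, by have := hb hb0; omega⟩
      subst hl2
      rw [pow_succ, Nat.mul_div_cancel _ two_pos, Nat.mul_div_cancel _ two_pos]; ring
  have e6 : ℓ ^ t * ℓ * a = ℓ * (ℓ ^ t * a) := by ring
  simp only [mul_add] at e3
  omega

/-- The abelianisation is a `p`-group. -/
theorem not_dvd_ab (hℓq : ¬ ℓ ∣ q) (n : ℕ) : ¬ ℓ ∣ Nat.card (Abelianization (sug hF (Fin n))) := by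
  classical
  have hq := two_le_of_card_sq hF
  rcases Nat.lt_or_ge n 3 with hn | hn
  · rcases Nat.lt_or_ge n 2 with h | h
    · have := sub_le_one (hF := hF) (n := n) (by omega)
      exact good_of_subsingleton.ab
    · obtain rfl : n = 2 := by omega
      exact (good_two hℓq).ab
  by_cases h32 : n = 3 ∧ q = 2
  swap
  · let e := MulEquiv.subgroupCongr (sug_eq_su hF n)
    have hp := UMinDeg.commutator_su hF hn h32
    rw [Nat.card_congr e.abelianizationCongr.toEquiv]
    have : Subsingleton (Abelianization (Cfsg.SU n F q)) := by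
      refine ⟨fun a b => ?_⟩
      obtain ⟨x, rfl⟩ := QuotientGroup.mk'_surjective _ a
      obtain ⟨y, rfl⟩ := QuotientGroup.mk'_surjective _ b
      refine (QuotientGroup.eq (s := commutator (Cfsg.SU n F q))).2 ?_
      rw [hp]; exact Subgroup.mem_top _
    rw [Nat.card_of_subsingleton (1 : Abelianization (Cfsg.SU n F q))]
    exact hℓ.out.not_dvd_one
  obtain ⟨rfl, rfl⟩ := h32
  intro hd
  by_cases hl3 : ℓ = 3
  swap
  · have h2 := hd.trans (Subgroup.card_quotient_dvd_card _)
    have h3 := val_su (ℓ := ℓ) (hF := hF) hℓq (show 1 ≤ 3 by norm_num)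
    have h4 := (hℓ.out.dvd_iff_one_le_factorization Nat.card_pos.ne').1 h2
    have hne : ¬ ℓ ∣ 3 := fun h => hl3 ((Nat.prime_dvd_prime_iff_eq hℓ.out Nat.prime_three).1 h)
    rw [Finset.sum_range_succ, Finset.sum_range_succ, Finset.sum_range_one,
      show e 2 (0 + 1) = 3 by decide, show e 2 (1 + 1) = 3 by decide, show e 2 (2 + 1) = 3 * 3 by decide,
      padicValNat.mul (by norm_num) (by norm_num), padicValNat.eq_zero_of_not_dvd hne] at h3
    omega
  subst hl3
  obtain ⟨x, hx⟩ := exists_prime_orderOf_dvd_card' 3 hd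
  obtain ⟨g, rfl⟩ := QuotientGroup.mk'_surjective _ x
  set f := Abelianization.of (G := sug hF (Fin 3))
  replace hx : orderOf (f g) = 3 := hx
  have := hℓ
  -- the torus and the cycle are killed
  have hT : ∀ i j : Fin 3, i ≠ j → ∀ h : sug hF (Fin 3), ∀ (c : F), NormOne hF c →
      mat hF h = diagonal (Function.update (Function.update 1 i c) j c⁻¹) → f h = 1 := by
    intro i j hij h c hc hh
    have hsig : mon hF (Equiv.swap i j) i * h * (mon hF (Equiv.swap i j) i)⁻¹ = h⁻¹ := by
      have hh' : h = dia hF (Function.update (Function.update 1 i c) j c⁻¹)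
          (fun k => by
            by_cases h1 : k = j
            · subst h1; simpa using hc.inv hF
            by_cases h2 : k = i
            · subst h2; simpa [h1] using hc
            simp [h1, h2, normOne_one])
          (by rw [← det_diagonal, ← hh]; exact det_mat hF h) := mat_injective hF hh
      rw [hh', mon_conj_dia, ← hh']
      refine mat_injective hF ?_
      rw [mat_dia, mat_inv, hh, ct_diagonal]
      congr 1
      funext k
      have hs : qFrob hF c = c⁻¹ := eq_inv_of_mul_eq_one_left hc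
      rw [Equiv.symm_swap]
      by_cases h1 : k = j
      · subst h1; simp [hij, hs, map_inv₀]
      by_cases h2 : k = i
      · subst h2; simp [h1, hs]
      simp [h1, h2, Equiv.swap_apply_of_ne_of_ne h2 h1]
    have h1 := congrArg f hsig
    rw [map_mul, map_mul, map_inv, mul_inv_cancel_comm, map_inv] at h1
    have h3 : (f h) ^ 3 = 1 := by
      rw [← map_pow, ← map_one f]
      congr 1
      refine mat_injective hF ?_
      rw [map_pow, map_one, hh, diagonal_pow, ← diagonal_one]
      congr 1
      funext k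
      have := (normOne_iff hF).1 hc
      by_cases h1 : k = j
      · subst h1; simp [this]
      by_cases h2 : k = i
      · subst h2; simp [h1, this]
      simp [h1, h2]
    have h2 : (f h) ^ 2 = 1 := by
      rw [sq]
      conv_lhs => arg 2; rw [h1]
      rw [mul_inv_cancel]
    simpa using pow_gcd_eq_one.2 ⟨h2, h3⟩
  have hker : ∀ v : sug hF (Fin 3), f (v * v) = 1 → (f v) ^ 3 = 1 → f v = 1 := fun v h2 h3 => by
    rw [← pow_two, map_pow] at h2
    simpa using pow_gcd_eq_one.2 ⟨h2, h3⟩
  obtain ⟨h2F, -⟩ : (2 : F) = 0 ∧ True := ⟨by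
    have h := FiniteField.cast_card_eq_zero F
    rw [hF] at h
    push_cast at h
    exact pow_eq_zero_iff (n := 2) two_ne_zero |>.1 (by linear_combination h), trivial⟩
  have hsgn : ∀ τ : Equiv.Perm (Fin 3), sgn τ = (1 : F) := fun τ => by
    rcases Int.units_eq_one_or (Equiv.Perm.sign τ) with h | h <;> simp only [sgn, h, Units.val_one,
      Units.val_neg, Int.cast_neg, Int.cast_one]
    linear_combination -h2F
  have hmon : ∀ (τ : Equiv.Perm (Fin 3)) (i : Fin 3), mat hF (mon hF τ i) =
      (τ.symm.toPEquiv.toMatrix : Matrix (Fin 3) (Fin 3) F) := fun τ i => by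
    rw [mat_mon, hsgn, show Function.update (1 : Fin 3 → F) i 1 = 1 from Function.update_eq_self i 1,
      Pi.one_def, diagonal_one, Matrix.mul_one]
  have hcyc : f (cyc 3) = 1 := by
    have e1 : cyc (hF := hF) 3 = mon hF (Equiv.swap 0 1) 0 * mon hF (Equiv.swap 1 2) 0 := by
      refine mat_injective hF ?_
      rw [map_mul, cyc, hmon, hmon, hmon, ← PEquiv.toMatrix_trans, ← Equiv.toPEquiv_trans]
      congr 2
      decide
    have hs : ∀ i j : Fin 3, f (mon hF (Equiv.swap i j) 0) ^ 2 = 1 := fun i j => by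
      rw [← map_pow, ← map_one f]
      congr 1
      refine mat_injective hF ?_
      rw [map_pow, map_one, sq, hmon, ← PEquiv.toMatrix_trans, ← Equiv.toPEquiv_trans, Equiv.symm_swap,
        show (Equiv.swap i j).trans (Equiv.swap i j) = Equiv.refl _ from Equiv.ext fun k => by simp,
        Equiv.toPEquiv_refl, PEquiv.toMatrix_refl]
    have h2 : f (cyc 3) ^ 2 = 1 := by rw [e1, map_mul, mul_pow, hs, hs, one_mul]
    have h3 : f (cyc 3) ^ 3 = 1 := by
      rw [← map_pow, ← map_one f]
      congr 1
      refine mat_injective hF ?_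
      rw [map_pow, map_one, pow_succ, sq, cyc, hmon, ← PEquiv.toMatrix_trans, ← PEquiv.toMatrix_trans,
        ← Equiv.toPEquiv_trans, ← Equiv.toPEquiv_trans,
        show (((finRotate 3).symm.trans (finRotate 3).symm).trans (finRotate 3).symm) = Equiv.refl _ by decide,
        Equiv.toPEquiv_refl, PEquiv.toMatrix_refl]
    simpa using pow_gcd_eq_one.2 ⟨h2, h3⟩
  have : NeZero (3 ^ 0) := ⟨one_ne_zero⟩
  let N := (blk hF (ι := Fin (3 ^ 0)) (k := 3)).range ⊔ (colTor (hF := hF) (c := 3 ^ 0) (l := 3)).range ⊔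
        Subgroup.zpowers (blkB fun _ : Fin (3 ^ 0) => cyc (hF := hF) 3)
  let e0 : sug hF (Fin (3 ^ 0) × Fin 3) ≃* sug hF (Fin 3) :=
    reindexSU hF ((Equiv.prodCongr (finCongr (pow_zero 3)) (Equiv.refl _)).trans (Equiv.uniqueProd (Fin 3) (Fin 1)))
  have hsub := sub_le_one (hF := hF) (n := 3 ^ 0) (by norm_num)
  have hN : N ≤ (f.comp e0.toMonoidHom).ker := by
    refine sup_le (sup_le ?_ ?_) (Subgroup.zpowers_le.2 ?_)
    · rintro _ ⟨A, rfl⟩
      rw [show A = 1 from Subsingleton.elim _ _, map_one]; exact one_mem _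
    · rintro _ ⟨φ, rfl⟩
      show f (e0 (colTor φ)) = 1
      have he : mat hF (e0 (colTor (c := 3 ^ 0) φ)) = mat hF (tor0 3 φ) := by
        ext i j
        simp [e0, mat_reindexSU, mat_colTor, mat_tor0, diagonal_apply, Fin.eq_zero]
      rw [mat_injective hF he]
      -- split the torus element
      let c1 : F := ((φ.1 0 : Fˣ) : F)
      let c2 : F := ((φ.1 2 : Fˣ) : F)⁻¹
      have hc1 : NormOne hF c1 := mem_muG.1 (φ.1 0).2
      have hc2 : NormOne hF c2 := (mem_muG.1 (φ.1 2).2).inv hF
      have hp := prod_T0 φ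
      rw [Fin.prod_univ_three] at hp
      let d1 : sug hF (Fin 3) := dia hF (Function.update (Function.update 1 0 c1) 1 c1⁻¹)
        (fun k => by fin_cases k <;> simp [hc1, hc1.inv hF, normOne_one]) (by simp [Fin.prod_univ_three, hc1.ne_zero hF])
      let d2 : sug hF (Fin 3) := dia hF (Function.update (Function.update 1 1 c2) 2 c2⁻¹)
        (fun k => by fin_cases k <;> simp [hc2, hc2.inv hF, normOne_one]) (by simp [Fin.prod_univ_three, hc2.ne_zero hF])
      have hsplit : tor0 3 φ = d1 * d2 := by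
        refine mat_injective hF ?_
        rw [map_mul, mat_tor0, mat_dia, mat_dia, diagonal_mul_diagonal]
        congr 1
        funext k
        fin_cases k <;> simp [c1, c2]
        field_simp
        linear_combination hp
      rw [hsplit, map_mul, hT 0 1 (by decide) d1 c1 hc1 (mat_dia hF _ _ _),
        hT 1 2 (by decide) d2 c2 hc2 (mat_dia hF _ _ _), one_mul]
    · show f (e0 _) = 1
      have he : mat hF (e0 (blkB fun _ => cyc (hF := hF) 3)) = mat hF (cyc (hF := hF) 3) := by
        ext i j
        simp [e0, mat_reindexSU, mat_blkB, Fin.eq_zero]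
      rw [mat_injective hF he]; exact hcyc
  have hidx := not_dvd_index_colSub (hF := hF) (ℓ := 3) (by norm_num) 0 (by simp [bU])
  have h1 : f g ^ N.index = 1 := by
    obtain ⟨y, rfl⟩ := e0.surjective g
    have := (f.comp e0.toMonoidHom).ker.pow_index_mem y
    obtain ⟨k, hk⟩ := Subgroup.index_dvd_of_le hN
    rw [MonoidHom.mem_ker, MonoidHom.comp_apply, map_pow, map_pow] at this
    show f (e0 y) ^ N.index = 1
    rw [hk, pow_mul]
    simp only [MulEquiv.coe_toMonoidHom] at this
    rw [this, one_pow]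
  have := orderOf_dvd_of_pow_eq_one h1
  rw [hx] at this
  exact hidx this

/-- All `SU_n` are good away from the characteristic. -/
theorem good_su (hℓq : ¬ ℓ ∣ q) : ∀ n : ℕ, Good ℓ (sug hF (Fin n)) := by
  classical
  intro n
  induction n using Nat.strong_induction_on with
  | _ n ih =>
  refine ⟨?_, not_dvd_ab hℓq n⟩
  rcases Nat.lt_or_ge n 3 with hn | hn
  · rcases Nat.lt_or_ge n 2 with h | h
    · have := sub_le_one (hF := hF) (n := n) (by omega)
      exact good_of_subsingleton.mfree
    · obtain rfl : n = 2 := by omega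
      exact (good_two hℓq).mfree
  have hq := two_le_of_card_sq hF
  -- splitting off a summand, and an element with a prescribed order modulo the two factors
  have split : ∀ a b : ℕ, a + b = n → 0 < a → 0 < b → ∀ E [Group E] (π : E →* sug hF (Fin a ⊕ Fin b)),
      IsLExt ℓ π → ∀ g : sug hF (Fin a ⊕ Fin b),
      (∀ k ∈ (suSum hF (ι := Fin a) (κ := Fin b)).range, g * k * g⁻¹ ∈ (suSum hF (ι := Fin a) (κ := Fin b)).range) →
      ∀ l, (∀ i : ℕ, g ^ i ∈ (suSum hF (ι := Fin a) (κ := Fin b)).range → l ∣ i) → l ≠ 0 →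
      (Nat.card (sug hF (Fin n))).factorization ℓ ≤
        (Nat.card (sug hF (Fin a))).factorization ℓ + (Nat.card (sug hF (Fin b))).factorization ℓ + l.factorization ℓ →
      Kills π ⊤ := by
    intro a b hab ha hb E _ π hπ g hg l hl hl0 hv
    have hgood := ((ih a (by omega)).prod (ih b (by omega))).of_equiv
      (MonoidHom.ofInjective (suSum_injective hF (ι := Fin a) (κ := Fin b)))
    refine kills_top_of_index hπ (SpStemL.not_dvd_index_of_val _ ?_)
      (kills_sup_zpowers hπ hgood g fun k => norm_iff_of_le hg k)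
    have h1 := (Nat.factorization_le_iff_dvd (mul_ne_zero Nat.card_pos.ne' hl0) Nat.card_pos.ne').2
      (card_sup_zpowers_dvd _ g hg l hl) ℓ
    rw [Nat.factorization_mul Nat.card_pos.ne' hl0, Finsupp.add_apply,
      ← Nat.card_congr (MonoidHom.ofInjective (suSum_injective hF (ι := Fin a) (κ := Fin b))).toEquiv,
      Nat.card_prod, Nat.factorization_mul Nat.card_pos.ne' Nat.card_pos.ne', Finsupp.add_apply] at h1
    refine le_trans ?_ (le_trans hv h1)
    rw [← Nat.card_congr (reindexSU hF (finSumFinEquiv.trans (finCongr hab))).toEquiv]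
  by_cases hq1 : ℓ ∣ q + 1
  · -- `ℓ` divides `q + 1`
    obtain ⟨t, r, hr, hnr⟩ := Nat.exists_eq_pow_mul_and_not_dvd (show n ≠ 0 by omega) ℓ hℓ.out.ne_one
    by_cases hr1 : r = 1
    swap
    · have hr0 : r ≠ 0 := by rintro rfl; exact hr (dvd_zero ℓ)
      have hlt : ℓ ^ t < n := by
        rw [hnr]; exact (Nat.lt_mul_iff_one_lt_right (pow_pos hℓ.out.pos t)).2 (by omega)
      have hta := pow_pos hℓ.out.pos t
      set a := ℓ ^ t with ha
      set b := n - a with hb
      obtain ⟨γ, hγ, hγo⟩ := exists_normOne_gen hF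
      intro E _ π hπ
      let R := reindexSU hF ((finSumFinEquiv (m := a) (n := b)).trans (finCongr (show a + b = n by omega)))
      have hk : (R.symm.toMonoidHom.comp π).ker = π.ker := by ext x; simp [MonoidHom.mem_ker]
      have h' : IsLExt ℓ (R.symm.toMonoidHom.comp π) :=
        ⟨⟨R.symm.surjective.comp hπ.cs.surj, hk ▸ hπ.cs.central⟩, hπ.fin, hk ▸ hπ.isP⟩
      have hkills : Kills (R.symm.toMonoidHom.comp π) ⊤ := by
        let i0 : Fin a := ⟨0, hta⟩
        let j0 : Fin b := ⟨0, by omega⟩
        let fa : Fin a → F := Function.update 1 i0 γ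
        let fb : Fin b → F := Function.update 1 j0 γ⁻¹
        have hfa : ∀ i, NormOne hF (fa i) := fun i => by
          by_cases h : i = i0
          · subst h; simpa [fa] using hγ
          · simp [fa, h, normOne_one]
        have hfb : ∀ i, NormOne hF (fb i) := fun i => by
          by_cases h : i = j0
          · subst h; simpa [fb] using hγ.inv hF
          · simp [fb, h, normOne_one]
        let g : sug hF (Fin a ⊕ Fin b) := dia hF (Sum.elim fa fb)
          (fun i => by rcases i with i | i <;> simp [hfa, hfb]) (by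
          rw [Fintype.prod_sum_type]
          simp only [Sum.elim_inl, Sum.elim_inr, fa, fb]
          rw [Finset.prod_update_of_mem (Finset.mem_univ _), Finset.prod_update_of_mem (Finset.mem_univ _)]
          simp [hγ.ne_zero hF])
        refine split a b (by omega) hta (by omega) E _ h' g ?_ (q + 1) ?_ (by omega) ?_
        · rintro _ ⟨⟨X, Y⟩, rfl⟩
          refine ⟨(conjDia fa hfa X, conjDia fb hfb Y), mat_injective hF ?_⟩
          simp only [g, map_mul, mat_inv, mat_suSum, mat_dia, conjDia, mat_mk]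
          rw [show diagonal (Sum.elim fa fb) = fromBlocks (diagonal fa) 0 0 (diagonal fb) from
            (fromBlocks_diagonal fa fb).symm, ct_fromBlocks, ct_zero, ct_zero]
          simp [fromBlocks_multiply, ← fromBlocks_diagonal]
        · rintro i ⟨⟨X, Y⟩, hXY⟩
          refine hγo i ?_
          have hX : mat hF X = diagonal fa ^ i := by
            have h2 := congrArg (mat hF) hXY
            rw [map_pow, mat_suSum, mat_dia, diagonal_pow,
              show diagonal (Sum.elim fa fb ^ i) = fromBlocks (diagonal (fa ^ i)) 0 0 (diagonal (fb ^ i)) from by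
                rw [fromBlocks_diagonal]; congr 1; funext k; rcases k with k | k <;> rfl] at h2
            rw [(fromBlocks_inj.1 h2).1, diagonal_pow]
          have hd := congrArg Matrix.det hX
          rw [det_mat, det_pow, det_diagonal] at hd
          simp only [fa] at hd
          rw [Finset.prod_update_of_mem (Finset.mem_univ _)] at hd
          simp only [Pi.one_apply, Finset.prod_const_one, mul_one] at hd
          exact hd.symm
        · have e0 := val_sum_m_eq (hF := hF) n hq1 (by omega)
          have e1 := val_sum_m_eq (hF := hF) a hq1 hta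
          have e2 := val_sum_m_eq (hF := hF) b hq1 (by omega)
          rw [Nat.factorization_def (q + 1) hℓ.out]
          have hvc := val_choose (ℓ := ℓ) (a := a) (b := b) (by
            rw [show a + b = n by omega, hnr]; exact not_dvd_choose_pow t r hr)
          rw [show a + b = n by omega] at hvc
          have hdiv : a / 2 * bU ℓ q + b / 2 * bU ℓ q = n / 2 * bU ℓ q := by
            by_cases hb0 : bU ℓ q = 0
            · simp [hb0]
            · have hl2 : ℓ = 2 := by
                by_contra hne; exact hb0 (by simp [bU, hne])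
              rw [← add_mul]
              congr 1
              subst hl2
              rcases Nat.eq_zero_or_pos t with ht | ht
              · subst ht
                have : a = 1 := by rw [ha, pow_zero]
                have : r % 2 = 1 := by omega
                have : n = r := by rw [hnr, ‹a = 1›, one_mul]
                omega
              · have : 2 ∣ a := by rw [ha]; exact dvd_pow_self 2 (by omega)
                omega
          have hma : a * padicValNat ℓ (q + 1) + b * padicValNat ℓ (q + 1) = n * padicValNat ℓ (q + 1) := by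
            rw [← add_mul, show a + b = n by omega]
          omega
      intro z hz hzc
      exact hkills z (by rw [hk]; exact hz) hzc
    rw [hr1, mul_one] at hnr
    obtain ⟨s, rfl⟩ : ∃ s, t = s + 1 := ⟨t - 1, by
      rcases Nat.eq_zero_or_pos t with rfl | ht
      · rw [pow_zero] at hnr; omega
      · omega⟩
    set c := ℓ ^ s with hc
    have hc0 : 0 < c := pow_pos hℓ.out.pos s
    haveI : NeZero c := ⟨hc0.ne'⟩
    haveI : NeZero ℓ := ⟨hℓ.out.ne_zero⟩
    have hcn : c < n := by
      rw [hnr, pow_succ]; exact (Nat.lt_mul_iff_one_lt_right hc0).2 hℓ.out.one_lt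
    refine mfree_transport (reindexSU hF ((finProdFinEquiv (m := c) (n := ℓ)).trans
      (finCongr (show c * ℓ = n by rw [hnr, pow_succ])))) fun E _ π hπ => ?_
    refine kills_top_of_index hπ (not_dvd_index_colSub hq1 s fun hb => ?_) ?_
    · have hl2 : ℓ = 2 := by
        by_contra hne; exact hb (by simp [bU, hne])
      subst hl2
      by_contra hs
      obtain rfl : s = 0 := by omega
      simp at hnr; omega
    obtain ⟨-, hAK, hgK, hgA, hgA'⟩ := card_colSub (hF := hF) ℓ c hℓ.out.two_le
    set col : Fin c → sug hF (Fin ℓ) →* sug hF (Fin c × Fin ℓ) := fun j =>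
      blkB.comp (MonoidHom.mulSingle (fun _ : Fin c => sug hF (Fin ℓ)) j) with hcol
    refine kills_sup_abelian hπ (((Good.pi (ih c hcn) ℓ)).of_equiv (MonoidHom.ofInjective (blk_injective hF)))
      hAK ?_ _ hgK hgA ?_
    · -- the torus lifts to an abelian group
      rintro _ ⟨f, rfl⟩ _ ⟨f', rfl⟩
      refine ⟨by rw [← map_mul, ← map_mul, mul_comm], ?_⟩
      -- generators
      let gen : Fin ℓ → muG hF →* T0 hF ℓ := fun j =>
        { toFun := fun a => ⟨Pi.mulSingle 0 a * Pi.mulSingle j a⁻¹, by
            show ∏ i, (Pi.mulSingle (0 : Fin ℓ) a * Pi.mulSingle j a⁻¹ : Fin ℓ → muG hF) i = 1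
            simp [Finset.prod_mul_distrib]⟩
          map_one' := Subtype.ext (by simp)
          map_mul' := fun a b => Subtype.ext (by
            show Pi.mulSingle 0 (a * b) * Pi.mulSingle j (a * b)⁻¹ =
              (Pi.mulSingle (0 : Fin ℓ) a * Pi.mulSingle j a⁻¹ : Fin ℓ → muG hF) * (Pi.mulSingle 0 b * Pi.mulSingle j b⁻¹)
            rw [Pi.mulSingle_mul, mul_inv, Pi.mulSingle_mul, mul_mul_mul_comm]) }
      have hgenall : ∀ f : T0 hF ℓ, f = ∏ j ∈ Finset.univ.erase (0 : Fin ℓ), gen j (f.1 j)⁻¹ := by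
        intro f
        refine Subtype.ext (funext fun i => ?_)
        rw [SubmonoidClass.coe_finsetProd, Finset.prod_apply]
        simp only [gen, MonoidHom.coe_mk, OneHom.coe_mk, Pi.mul_apply, inv_inv, Finset.prod_mul_distrib]
        rcases eq_or_ne i 0 with rfl | hi
        · rw [Finset.prod_eq_one (f := fun j => Pi.mulSingle (M := fun _ => muG hF) j (f.1 j) 0) fun j hj =>
            Pi.mulSingle_eq_of_ne (Ne.symm (Finset.ne_of_mem_erase hj)) _, mul_one]
          simp only [Pi.mulSingle_eq_same, Finset.prod_inv_distrib]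
          have h0 := Finset.mul_prod_erase Finset.univ f.1 (Finset.mem_univ 0)
          rw [show ∏ i, f.1 i = 1 from f.2] at h0
          exact eq_inv_of_mul_eq_one_left h0
        · rw [Finset.prod_eq_one (f := fun j => Pi.mulSingle (M := fun _ => muG hF) 0 (f.1 j)⁻¹ i) fun j _ =>
            Pi.mulSingle_eq_of_ne hi _, one_mul, Finset.prod_eq_single i (fun j _ hj =>
              Pi.mulSingle_eq_of_ne (Ne.symm hj) _) (fun h => absurd (Finset.mem_erase.2 ⟨hi, Finset.mem_univ _⟩) h),
            Pi.mulSingle_eq_same]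
      have hsame : ∀ j a b, cpair hπ.cs (colTor (c := c) (gen j a)) (colTor (c := c) (gen j b)) = 1 := by
        intro j a b
        obtain ⟨c0, hc0⟩ := IsCyclic.exists_generator (α := muG hF)
        obtain ⟨x, hx⟩ := hπ.cs.surj (colTor (c := c) (gen j c0))
        obtain ⟨ka, rfl⟩ := Subgroup.mem_zpowers_iff.1 (hc0 a)
        obtain ⟨kb, rfl⟩ := Subgroup.mem_zpowers_iff.1 (hc0 b)
        rw [map_zpow, map_zpow, map_zpow, map_zpow, ← hx, ← map_zpow, ← map_zpow, cpair_map,
          commutatorElement_eq_one_iff_mul_comm]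
        exact (Commute.zpow_zpow_self x ka kb).eq
      have hcomm : ∀ f f' : T0 hF ℓ, colTor (c := c) f * colTor (c := c) f' = colTor (c := c) f' * colTor (c := c) f :=
        fun f f' => by rw [← map_mul, ← map_mul, mul_comm]
      have hdiff : ∀ j k, j ≠ 0 → k ≠ 0 → ∀ a b,
          cpair hπ.cs (colTor (c := c) (gen j a)) (colTor (c := c) (gen k b)) = 1 := by
        intro j k hj hk a b
        rcases eq_or_ne j k with rfl | hjk
        · exact hsame j a b
        have hodd : ℓ ≠ 2 := by
          intro h2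
          subst h2
          omega
        set P := cpair hπ.cs (colTor (c := c) (gen j a)) (colTor (c := c) (gen k b)) with hP
        set s := col 0 (mon hF (Equiv.swap (0 : Fin ℓ) j) 0) with hs
        have hconj : ∀ f : T0 hF ℓ, ∀ f' : T0 hF ℓ, (∀ i, f'.1 i = f.1 (Equiv.swap (0 : Fin ℓ) j i)) →
            s * colTor (c := c) f * s⁻¹ = colTor f' := by
          intro f f' hff
          rw [hs, hcol, colTor]
          simp only [MonoidHom.comp_apply, ← map_mul, ← map_inv]
          congr 2
          show mon hF (Equiv.swap 0 j) 0 * tor0 ℓ f * (mon hF (Equiv.swap 0 j) 0)⁻¹ = tor0 ℓ f'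
          refine (mon_conj_dia hF _ _ _ (fun i => mem_muG.1 (f.1 i).2) (prod_T0 f)).trans (mat_injective hF ?_)
          rw [mat_dia, mat_tor0]
          congr 1
          funext i
          rw [hff, Equiv.symm_swap]
        have e1 := hconj (gen j a) (gen j a⁻¹) (fun i => by
          simp only [gen, MonoidHom.coe_mk, OneHom.coe_mk, Pi.mul_apply, inv_inv]
          by_cases h1 : i = 0
          · subst h1; simp [hj, hj.symm]
          by_cases h2 : i = j
          · subst h2; simp [h1, Ne.symm h1]
          simp [h1, h2, Equiv.swap_apply_of_ne_of_ne h1 h2])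
        have e2 := hconj (gen k b) (gen j b⁻¹ * gen k b) (fun i => by
          simp only [gen, MonoidHom.coe_mk, OneHom.coe_mk, Subgroup.coe_mul, Pi.mul_apply, inv_inv]
          by_cases h1 : i = 0
          · subst h1; simp [hk.symm, hj.symm, hjk, hjk.symm]
          by_cases h2 : i = j
          · subst h2; simp [h1, hjk, Ne.symm h1, hk.symm]
          simp [h1, h2, Equiv.swap_apply_of_ne_of_ne h1 h2, mul_comm])
        obtain ⟨se, hse⟩ := hπ.cs.surj s
        have hPk : P ∈ π.ker := cpair_mem_ker hπ.cs (hcomm _ _)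
        have h1 : P = cpair hπ.cs (colTor (c := c) (gen j a⁻¹)) (colTor (c := c) (gen j b⁻¹ * gen k b)) := by
          rw [← e1, ← e2, ← hse, ← conj_cpair hπ.cs se, ← hP, hπ.cs.conj_ker hPk]
        rw [map_mul, cpair_mul_right_of_comm hπ.cs (hcomm _ _), hsame, one_mul] at h1
        have h2 : cpair hπ.cs (colTor (c := c) (gen j a⁻¹)) (colTor (c := c) (gen k b)) * P = 1 := by
          rw [hP, ← cpair_mul_left_of_comm hπ.cs (hcomm _ _) (hcomm _ _), ← map_mul, ← map_mul, inv_mul_cancel,
            map_one, map_one, cpair_one_left]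
        rw [← h1] at h2
        exact pow_eq_one_of_coprime hπ (n := 2)
          (fun h => hodd ((Nat.prime_dvd_prime_iff_eq hℓ.out Nat.prime_two).1 h)) hPk (by rw [sq]; exact h2)
      have hone : ∀ j, j ≠ 0 → ∀ a, ∀ f : T0 hF ℓ,
          cpair hπ.cs (colTor (c := c) (gen j a)) (colTor (c := c) f) = 1 := by
        intro j hj a f
        have hmem : f ∈ (commSet hπ.cs (colTor (c := c) (gen j a))).comap colTor := by
          rw [hgenall f]
          exact Subgroup.prod_mem _ fun k hk => hdiff j k hj (Finset.ne_of_mem_erase hk) a _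
        exact hmem
      rw [cpair_swap hπ.cs (colTor (c := c) f'), inv_eq_one]
      have hmem : f ∈ (commSet hπ.cs (colTor (c := c) f')).comap colTor := by
        rw [hgenall f]
        refine Subgroup.prod_mem _ fun k hk => ?_
        show cpair hπ.cs (colTor (c := c) f') _ = 1
        rw [cpair_swap hπ.cs, hone k (Finset.ne_of_mem_erase hk), inv_one]
      exact hmem
    · rintro _ ⟨f, rfl⟩ hfK
      set g := blkB fun _ : Fin c => cyc (hF := hF) ℓ
      obtain ⟨f', hf', he⟩ := hgA' f
      obtain ⟨A, hA⟩ := hfK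
      have h1 : colTor (c := c) (f * f'⁻¹) = blk hF A := by
        rw [hA, map_mul, map_inv, ← he, commutatorElement_def]; group
      have h2 := eq_one_of_colTor_mem _ h1
      rw [mul_inv_eq_one] at h2
      have hconst : ∀ i, f.1 i = f.1 0 := by
        have hstep : ∀ k : ℕ, f.1 ((finRotate ℓ ^ k) 0) = f.1 0 := fun k => by
          induction k with
          | zero => rfl
          | succ k ihk =>
            have := hf' ((finRotate ℓ ^ (k + 1)) 0)
            rw [← h2, pow_succ', Equiv.Perm.mul_apply, Equiv.symm_apply_apply, ihk] at this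
            rw [pow_succ', Equiv.Perm.mul_apply]; exact this
        intro i
        obtain ⟨l', hl'⟩ : ∃ l', ℓ = l' + 2 := ⟨ℓ - 2, by have := hℓ.out.two_le; omega⟩
        subst hl'
        obtain ⟨k, hk⟩ := (isCycle_finRotate (n := l')).exists_pow_eq
          (x := 0) (y := i) (by simp [finRotate_succ_apply]) (by simp [finRotate_succ_apply])
        rw [← hk]; exact hstep k
      have hscal : mat hF (tor0 ℓ f) = ((f.1 0 : Fˣ) : F) • (1 : Matrix (Fin ℓ) (Fin ℓ) F) := by
        rw [mat_tor0, smul_one_eq_diagonal]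
        exact congrArg _ (funext fun i => by rw [hconst i])
      have hall : ∀ j (x : sug hF (Fin ℓ)), cpair hπ.cs (colTor (c := c) f) (col j x) = 1 := by
        intro j x
        refine cpair_trivial_of_ab hπ (col j) (not_dvd_ab hℓq ℓ) (fun y => ?_) x
        rw [colTor, hcol]
        simp only [MonoidHom.comp_apply, ← map_mul]
        congr 1
        funext i
        rcases eq_or_ne i j with rfl | hij
        · rcases eq_or_ne i (0 : Fin c) with rfl | hi
          · simp only [MonoidHom.mulSingle_apply, Pi.mul_apply, Pi.mulSingle_eq_same]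
            exact mat_injective hF (by rw [map_mul, map_mul, hscal]; simp)
          · simp [hi]
        · simp [hij]
      have hmem : (fun _ : Fin c => cyc (hF := hF) ℓ) ∈ (commSet hπ.cs (colTor (c := c) f)).comap blkB :=
        Subgroup.pi_mem_of_mulSingle_mem _ fun j => hall j _
      exact hmem
  · -- `ℓ` does not divide `q + 1`
    have hℓ2 : ℓ ≠ 2 := by
      rintro rfl
      rcases Nat.even_or_odd q with ⟨a, ha⟩ | ⟨a, ha⟩
      · exact hℓq ⟨a, by omega⟩
      · exact hq1 ⟨a + 1, by omega⟩
    set d := dU ℓ q with hdd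
    have hd : 0 < d := dU_pos (ℓ := ℓ) hℓq
    have hvq : padicValNat ℓ (q + 1) = 0 := padicValNat.eq_zero_of_not_dvd hq1
    have hvS : ∀ m, 1 ≤ m → (Nat.card (sug hF (Fin m))).factorization ℓ =
        m / d * padicValNat ℓ (e q d) + padicValNat ℓ (m / d).factorial := fun m hm => by
      have := val_su (hF := hF) hℓq hm
      rw [hvq, add_zero, val_sum_off hq hℓq hq1] at this
      exact this
    by_cases hK : n / d = 0
    · refine mfree_of_index (H := ⊥) (SpStemL.not_dvd_index_of_val _ ?_) fun E _ π hπ =>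
        (good_of_subsingleton (ℓ := ℓ)).mfree E π hπ
      rw [hvS n (by omega), hK]; simp
    have split' : ∀ a b : ℕ, a + b = n → 0 < a → 0 < b → a / d + b / d = n / d →
        ¬ ℓ ∣ (n / d).choose (a / d) → MFree ℓ (sug hF (Fin n)) := by
      intro a b hab ha hb hdiv hch E _ π hπ
      let R := reindexSU hF ((finSumFinEquiv (m := a) (n := b)).trans (finCongr hab))
      have hk : (R.symm.toMonoidHom.comp π).ker = π.ker := by ext x; simp [MonoidHom.mem_ker]
      have h' : IsLExt ℓ (R.symm.toMonoidHom.comp π) :=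
        ⟨⟨R.symm.surjective.comp hπ.cs.surj, hk ▸ hπ.cs.central⟩, hπ.fin, hk ▸ hπ.isP⟩
      have hkills := split a b hab ha hb E _ h' 1 (fun k hk' => by simpa using hk') 1 (fun i _ => one_dvd i)
        one_ne_zero (by
          rw [hvS n (by omega), hvS a ha, hvS b hb, ← hdiv]
          rw [← hdiv] at hch
          rw [← val_choose hch, add_mul, Nat.factorization_one, Finsupp.zero_apply]
          omega)
      intro z hz hzc
      exact hkills z (by rw [hk]; exact hz) hzc
    by_cases hex : n = d * (n / d)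
    swap
    · have hlt : d * (n / d) < n := lt_of_le_of_ne (Nat.mul_div_le n d) (Ne.symm hex)
      refine split' (d * (n / d)) (n - d * (n / d)) (by omega) (Nat.mul_pos hd (Nat.pos_of_ne_zero hK))
        (by omega) ?_ ?_
      · have hm' : n - d * (n / d) = n % d := by have := Nat.div_add_mod n d; omega
        rw [hm', Nat.div_eq_of_lt (Nat.mod_lt n hd), Nat.mul_div_cancel_left _ hd, add_zero]
      · rw [Nat.mul_div_cancel_left _ hd, Nat.choose_self]; exact hℓ.out.not_dvd_one
    obtain ⟨K, hKm⟩ : ∃ K, K = n / d := ⟨_, rfl⟩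
    rw [← hKm] at hK hex
    obtain ⟨t, r, hr, hKr⟩ := Nat.exists_eq_pow_mul_and_not_dvd hK ℓ hℓ.out.ne_one
    by_cases hr1 : r = 1
    swap
    · have hr0 : r ≠ 0 := by rintro rfl; exact hr (dvd_zero ℓ)
      have hlt : ℓ ^ t < K := by
        rw [hKr]; exact (Nat.lt_mul_iff_one_lt_right (pow_pos hℓ.out.pos t)).2 (by omega)
      refine split' (d * ℓ ^ t) (n - d * ℓ ^ t) ?_ (Nat.mul_pos hd (pow_pos hℓ.out.pos t)) ?_ ?_ ?_
      · have := Nat.mul_le_mul_left d hlt.le; omega
      · have := Nat.mul_lt_mul_of_pos_left hlt hd; omega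
      · rw [hex, ← Nat.mul_sub, Nat.mul_div_cancel_left _ hd, Nat.mul_div_cancel_left _ hd,
          Nat.mul_div_cancel_left _ hd]
        omega
      · rw [← hKm, Nat.mul_div_cancel_left _ hd, hKr]; exact not_dvd_choose_pow t r hr
    rw [hr1, mul_one] at hKr
    rcases Nat.eq_zero_or_pos t with rfl | ht
    · -- cyclic Sylow subgroup
      rw [pow_zero] at hKr
      rw [hKr, mul_one] at hex
      obtain ⟨pc, hpc⟩ := CharP.exists F
      haveI := hpc
      haveI : Fact pc.Prime := ⟨CharP.char_is_prime F pc⟩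
      obtain ⟨a, ha⟩ : ∃ a, q = pc ^ a := by
        obtain ⟨f, hp, hf⟩ := FiniteField.card F pc
        obtain ⟨k, -, hk⟩ := (Nat.dvd_prime_pow hp).1
          (show q ∣ pc ^ (f : ℕ) by rw [← hf, hF, sq]; exact dvd_mul_right q q)
        exact ⟨k, hk⟩
      obtain ⟨B, hB, hBo⟩ := exists_gu_order (hF := hF) ha (show 1 ≤ n by omega)
      set A := padicValNat ℓ (e q d) with hA
      have hdvd : ℓ ^ A ∣ orderOf B := (hA ▸ pow_padicValNat_dvd).trans (hex ▸ hBo)
      obtain ⟨r', hr'⟩ := hdvd
      set B' := B ^ r' with hB'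
      have hB'o : orderOf B' = ℓ ^ A := by
        have hpos : 0 < orderOf B := orderOf_pos B
        have hr'0 : r' ≠ 0 := by rintro rfl; rw [mul_zero] at hr'; omega
        rw [hB', orderOf_pow' _ hr'0, hr', Nat.gcd_eq_right (dvd_mul_left _ _), Nat.mul_div_cancel _ (by omega)]
      have hct : ct hF (B' : Matrix (Fin n) (Fin n) F) * (B' : Matrix (Fin n) (Fin n) F) = 1 := by
        have h := (SemiUnitary.mem_gu_iff hF B').1 (pow_mem hB r')
        have h' := congrArg Matrix.transpose h
        rw [transpose_mul, transpose_transpose, transpose_one] at h'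
        exact h'
      have hdet : (B' : Matrix (Fin n) (Fin n) F).det = 1 := by
        set x := (B' : Matrix (Fin n) (Fin n) F).det with hx
        have h1 : x ^ ℓ ^ A = 1 := by
          rw [hx, ← det_pow, ← Units.val_pow_eq_pow_val, ← hB'o, pow_orderOf_eq_one, Units.val_one, det_one]
        have h2 : x ^ (q + 1) = 1 := by
          have := congrArg Matrix.det hct
          rw [det_mul, det_one, ct, det_transpose, SemiUnitary.det_map, ← hx, qFrob_apply, ← pow_succ] at this
          exact this
        have := pow_gcd_eq_one.2 ⟨h1, h2⟩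
        rwa [((hℓ.out.coprime_iff_not_dvd.2 hq1).pow_left A).gcd_eq_one, pow_one] at this
      let g : sug hF (Fin n) := SUModel.mk hF _ hct hdet
      have hgo : ℓ ^ A ∣ orderOf g := by
        rw [← hB'o]
        refine orderOf_dvd_of_pow_eq_one (Units.ext ?_)
        rw [Units.val_pow_eq_pow_val, Units.val_one]
        have := congrArg (mat hF) (pow_orderOf_eq_one g)
        rw [map_pow, map_one, mat_mk] at this
        exact this
      refine fun E _ π hπ => kills_top_of_index hπ (H := Subgroup.zpowers g) (SpStemL.not_dvd_index_of_val _ ?_)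
        (kills_zpowers hπ.cs g)
      rw [hvS n (by omega), ← hKm, hKr, Nat.card_zpowers]
      simpa [hA] using (hℓ.out.pow_dvd_iff_le_factorization (orderOf_pos g).ne').1 hgo
    · -- wreath product
      obtain ⟨s, rfl⟩ : ∃ s, t = s + 1 := ⟨t - 1, by omega⟩
      set c := d * ℓ ^ s
      have hmc : c * ℓ = n := by rw [hex, hKr, pow_succ, ← mul_assoc]
      have hc0 : 0 < c := Nat.mul_pos hd (pow_pos hℓ.out.pos s)
      haveI : NeZero c := ⟨hc0.ne'⟩
      haveI : NeZero ℓ := ⟨hℓ.out.ne_zero⟩
      have hcm : c < n := by rw [← hmc]; exact (Nat.lt_mul_iff_one_lt_right hc0).2 hℓ.out.one_lt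
      refine mfree_transport (reindexSU hF ((finProdFinEquiv (m := c) (n := ℓ)).trans (finCongr hmc)))
        fun E _ π hπ => ?_
      set g := blkB fun _ : Fin c => cyc (hF := hF) ℓ
      obtain ⟨-, -, hgK, -, -⟩ := card_colSub (hF := hF) ℓ c hℓ.out.two_le
      refine kills_top_of_index hπ (SpStemL.not_dvd_index_of_val _ ?_)
        (kills_sup_zpowers hπ ((Good.pi (ih c hcm) ℓ).of_equiv (MonoidHom.ofInjective (blk_injective hF))) g
          fun k => norm_iff_of_le hgK k)
      have hdiv := card_sup_zpowers_dvd (blk hF (ι := Fin c) (k := ℓ)).range g hgK ℓ fun i hi => by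
        refine dvd_of_cyc_pow_diag (hF := hF) hℓ.out.two_le i fun a b hab => ?_
        obtain ⟨A, hA⟩ := hi
        have h := congrFun (congrFun (congrArg (mat hF) hA) (0, a)) (0, b)
        rw [mat_blk, blockDiagonal_apply, if_neg hab, ← map_pow, mat_blkB, if_pos rfl, Pi.pow_apply] at h
        exact h.symm
      have h1 := (Nat.factorization_le_iff_dvd (mul_ne_zero Nat.card_pos.ne' hℓ.out.ne_zero)
        Nat.card_pos.ne').2 hdiv ℓ
      rw [Nat.factorization_mul Nat.card_pos.ne' hℓ.out.ne_zero, Finsupp.add_apply, hℓ.out.factorization_self,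
        ← Nat.card_congr (MonoidHom.ofInjective (blk_injective hF (ι := Fin c) (k := ℓ))).toEquiv, Nat.card_fun,
        Nat.card_fin, Nat.factorization_pow, Finsupp.smul_apply, smul_eq_mul, hvS c hc0,
        show c / d = ℓ ^ s from Nat.mul_div_cancel_left _ hd] at h1
      rw [Nat.card_congr (reindexSU hF ((finProdFinEquiv (m := c) (n := ℓ)).trans (finCongr hmc))).toEquiv,
        hvS n (by omega), ← hKm, hKr]
      refine le_trans (le_of_eq ?_) h1
      rw [← val_factorial_pow s, pow_succ]
      ring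

end CfsgLib.KnownA.SUStemL
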