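import Cfsg.Prelude.Def_ChevAutomorphisms
import Cfsg.Prelude.Def_ChevG2
import Cfsg.Prelude.Def_ChevB2
import Cfsg.Prelude.Def_ChevD4
import Cfsg.Prelude.Def_ChevF4
import Cfsg.Prelude.Def_ChevE6
import Cfsg.Prelude.Def_ChevE7
import Cfsg.Prelude.Def_ChevE8

/-!
Conjugation of root elements by the diagonal matrix of a character of the root lattice.
-/

set_option autoImplicit false

namespace CfsgLib.KnownA.ChevChar

open Cfsg.Lie

/-- The entries of one chain are successive sums with `r`. -/
def stepsOK (D : ChevalleyDatum) (r : ℕ) : ℕ → List (ℕ × ℤ) → Bool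
  | _, [] => true
  | prev, (u, _) :: rest =>
      decide (u < D.nroots) && (D.chainRoot r prev 1 == some u) && stepsOK D r u rest

/-- All chains of the table are successive sums. -/
def chainsOK (D : ChevalleyDatum) : Bool :=
  (List.range D.nroots).all fun r =>
    (D.chain.getD r #[]).toList.all fun e => stepsOK D r e.1 e.2.toList

theorem char_of_steps {F : Type*} [Field F] {D : ChevalleyDatum} {χ : ℕ → Fˣ}
    (hχ : D.IsRootCharacter χ) {r : ℕ} (hr : r < D.nroots) :
    ∀ (L : List (ℕ × ℤ)) (prev : ℕ), prev < D.nroots → stepsOK D r prev L = true →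
      ∀ j p, L[j]? = some p → χ p.1 = χ r ^ (j + 1) * χ prev := by
  intro L
  induction L with
  | nil => intro prev _ _ j p hj; simp at hj
  | cons a L ih =>
    intro prev hprev hok j p hj
    obtain ⟨u, M⟩ := a
    simp only [stepsOK, Bool.and_eq_true, decide_eq_true_eq, beq_iff_eq] at hok
    obtain ⟨⟨hu, hroot⟩, hrest⟩ := hok
    have hu' : χ u = χ r * χ prev := hχ.2 r prev u hr hprev hroot
    cases j with
    | zero =>
      simp only [List.getElem?_cons_zero, Option.some.injEq] at hj
      rw [← hj, pow_one]
      exact hu'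
    | succ j =>
      simp only [List.getElem?_cons_succ] at hj
      rw [ih u hu hrest j p hj, hu', pow_succ (χ r) (j + 1), mul_assoc]

theorem char_of_chainCoeff {F : Type*} [Field F] {D : ChevalleyDatum} (hD : chainsOK D = true)
    {χ : ℕ → Fˣ} (hχ : D.IsRootCharacter χ) {r s u : ℕ} (hr : r < D.nroots) (hs : s < D.nroots)
    {km : ℕ × ℤ} (h : km ∈ D.chainCoeff r s u) : χ u = χ r ^ km.1 * χ s := by
  simp only [ChevalleyDatum.chainCoeff, List.mem_flatMap, List.mem_filter, List.mem_map,
    decide_eq_true_eq] at h
  obtain ⟨e, ⟨he, hes⟩, q, ⟨hq, hqu⟩, rfl⟩ := h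
  simp only [chainsOK, List.all_eq_true, List.mem_range] at hD
  have hok := hD r hr e he
  obtain ⟨p, j⟩ := q
  rw [List.mk_mem_zipIdx_iff_getElem?] at hq
  have := char_of_steps hχ hr _ e.1 (hes ▸ hs) hok j p hq
  rw [hes] at this
  rw [← hqu]
  exact this

theorem charDiag_x {F : Type*} [Field F] (D : ChevalleyDatum) (hD : chainsOK D = true)
    (χ : ℕ → Fˣ) (hχ : D.IsRootCharacter χ) (r : ℕ) (hr : r < D.nroots) (t : F) :
    D.charDiag F χ * D.x F r t * D.charDiag F (fun s => (χ s)⁻¹) =
      D.x F r ((χ r : F) * t) := by
  simp only [ChevalleyDatum.x, dif_pos hr, ChevalleyDatum.charDiag]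
  ext a b
  rw [Matrix.mul_diagonal, Matrix.diagonal_mul]
  rcases b with i | ⟨s, hs⟩
  · rcases a with i' | ⟨u, hu⟩
    · simp only [ChevalleyDatum.xMat, Matrix.of_apply, Sum.elim_inl]
      ring
    · simp only [ChevalleyDatum.xMat, Matrix.of_apply, Sum.elim_inl, Sum.elim_inr, Fin.mk.injEq]
      split_ifs with h
      · subst h; ring
      · simp
  · simp only [ChevalleyDatum.xMat, Matrix.of_apply, Sum.elim_inr, Fin.mk.injEq]
    by_cases hsr : s = r
    · subst hsr
      rcases a with i' | ⟨u, hu⟩
      · simp
      · simp only [if_pos, Sum.elim_inr, Fin.mk.injEq]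
        split_ifs with h
        · subst h; simp
        · simp
    · simp only [if_neg hsr]
      by_cases hsn : s = D.negIdx.getD r 0
      · have hneg : χ s = (χ r)⁻¹ := by rw [hsn]; exact hχ.1 r hr
        simp only [if_pos hsn]
        rcases a with i' | ⟨u, hu⟩
        · simp only [Sum.elim_inl, one_mul, hneg, inv_inv]; ring
        · simp only [Sum.elim_inr, Fin.mk.injEq]
          split_ifs with h1 h2
          · subst h1; simp
          · subst h2; rw [hneg, inv_inv]; ring
          · simp
      · simp only [if_neg hsn]
        rcases a with i' | ⟨u, hu⟩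
        · simp
        · simp only [Sum.elim_inr, Fin.mk.injEq, mul_add, add_mul]
          congr 1
          · split_ifs with h
            · subst h; simp
            · simp
          · rw [← List.sum_map_mul_left, ← List.sum_map_mul_right]
            congr 1
            refine List.map_congr_left fun km hkm => ?_
            rw [char_of_chainCoeff hD hχ hr hs hkm]
            simp only [Units.val_mul, Units.val_pow_eq_pow_val, Units.val_inv_eq_inv_val, mul_pow]
            have := (χ s).ne_zero
            field_simp

theorem chainsOK_G2 : chainsOK chevG2 = true := by decide +kernel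
theorem chainsOK_B2 : chainsOK chevB2 = true := by decide +kernel
theorem chainsOK_D4 : chainsOK chevD4 = true := by decide +kernel
theorem chainsOK_F4 : chainsOK chevF4 = true := by decide +kernel
theorem chainsOK_E6 : chainsOK chevE6 = true := by decide +kernel
theorem chainsOK_E7 : chainsOK chevE7 = true := by decide +kernel
theorem chainsOK_E8 : chainsOK chevE8 = true := by decide +kernel

end CfsgLib.KnownA.ChevChar
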