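import Mathlib.LinearAlgebra.Matrix.Rank
import Mathlib.LinearAlgebra.Matrix.DotProduct
import Mathlib.LinearAlgebra.BilinearForm.Properties
import Mathlib.Tactic

/-!
The rank of an alternating bilinear form, and of an alternating matrix, is even.
-/

set_option autoImplicit false

namespace CfsgLib.KnownA

open Module

theorem even_finrank_range_of_alt {F V : Type*} [Field F] [AddCommGroup V] [Module F V]
    [FiniteDimensional F V] (B : V →ₗ[F] V →ₗ[F] F) (hB : ∀ v, B v v = 0) :
    Even (finrank F (LinearMap.range B)) := by
  suffices H : ∀ n : ℕ, ∀ W : Submodule F V, finrank F W = n →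
      Even (finrank F (LinearMap.range (B.compl₁₂ W.subtype W.subtype))) by
    have h := H _ ⊤ rfl
    have e : LinearMap.ker (B.compl₁₂ (⊤ : Submodule F V).subtype (⊤ : Submodule F V).subtype) =
        (LinearMap.ker B).comap (⊤ : Submodule F V).subtype := by
      ext x
      simp only [LinearMap.mem_ker, Submodule.mem_comap, LinearMap.ext_iff,
        LinearMap.compl₁₂_apply, LinearMap.zero_apply]
      exact ⟨fun h y => h ⟨y, trivial⟩, fun h y => h _⟩
    have r1 := LinearMap.finrank_range_add_finrank_ker B
    have r2 := LinearMap.finrank_range_add_finrank_ker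
      (B.compl₁₂ (⊤ : Submodule F V).subtype (⊤ : Submodule F V).subtype)
    rw [e, (Submodule.comapSubtypeEquivOfLe le_top).finrank_eq, finrank_top] at r2
    have heq : finrank F (LinearMap.range B) = finrank F (LinearMap.range
        (B.compl₁₂ (⊤ : Submodule F V).subtype (⊤ : Submodule F V).subtype)) := by omega
    rwa [heq]
  intro n
  induction n using Nat.strong_induction_on with
  | _ n ih =>
    intro W hW
    set C := B.compl₁₂ W.subtype W.subtype with hC
    by_cases h0 : C = 0
    · rw [h0, LinearMap.range_zero, finrank_bot]; exact ⟨0, rfl⟩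
    obtain ⟨u, v, huv⟩ : ∃ u v : W, B u v ≠ 0 := by
      by_contra h
      push Not at h
      exact h0 (by ext a b; simpa [hC] using h a b)
    have hskew : ∀ x y : V, B x y = - B y x := fun x y => by
      have h := hB (x + y)
      simp only [map_add, LinearMap.add_apply, hB, add_zero, zero_add] at h
      linear_combination h
    set φ : W →ₗ[F] F × F := ((B (u : V)).comp W.subtype).prod ((B (v : V)).comp W.subtype) with hφ
    set W' : Submodule F V := (LinearMap.ker φ).map W.subtype with hW'
    have hsurj : LinearMap.range φ = ⊤ := by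
      rw [eq_top_iff]
      rintro ⟨a, b⟩ _
      refine ⟨(b / B v u) • u + (a / B u v) • v, ?_⟩
      have hvu : B (v : V) u ≠ 0 := by rw [hskew]; exact neg_ne_zero.mpr huv
      simp [hφ, hB, div_mul_cancel₀ _ huv, div_mul_cancel₀ _ hvu]
    have hker : finrank F W' + 2 = n := by
      have := LinearMap.finrank_range_add_finrank_ker φ
      rw [hsurj, finrank_top, finrank_prod, finrank_self, hW] at this
      rw [hW', (Submodule.equivMapOfInjective _ W.injective_subtype _).symm.finrank_eq]
      omega
    set C' := B.compl₁₂ W'.subtype W'.subtype with hC'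
    have hle : W' ≤ W := Submodule.map_subtype_le W _
    have hkk : (LinearMap.ker C').map W'.subtype = (LinearMap.ker C).map W.subtype := by
      ext x
      simp only [Submodule.mem_map, LinearMap.mem_ker, Submodule.subtype_apply]
      constructor
      · rintro ⟨w, hw, rfl⟩
        refine ⟨⟨w, hle w.2⟩, ?_, rfl⟩
        obtain ⟨z, hz, hzw⟩ := w.2
        simp only [Submodule.subtype_apply] at hzw
        simp only [SetLike.mem_coe, LinearMap.mem_ker, hφ, LinearMap.prod_apply, Function.prod,
          Prod.mk_eq_zero, LinearMap.coe_comp, Function.comp_apply, Submodule.subtype_apply] at hz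
        rw [hzw] at hz
        ext y
        obtain ⟨c, hc⟩ : ∃ c : W, c = (B (v : V) y / B v u) • u + (B (u : V) y / B u v) • v := ⟨_, rfl⟩
        have hvu : B (v : V) u ≠ 0 := by rw [hskew]; exact neg_ne_zero.mpr huv
        have hy' : ((y : V) - c) ∈ W' := by
          refine ⟨y - c, ?_, rfl⟩
          simp [hφ, hc, hB, div_mul_cancel₀ _ huv, div_mul_cancel₀ _ hvu]
        have e1 : B (w : V) (y - c) = 0 := by
          have := LinearMap.congr_fun hw ⟨_, hy'⟩
          simpa [hC'] using this
        have e2 : B (w : V) c = 0 := by
          simp [hc, hskew (w : V) u, hskew (w : V) v, hz.1, hz.2]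
        rw [map_sub, e2, sub_zero] at e1
        simpa [hC] using e1
      · rintro ⟨w, hw, rfl⟩
        have hwu : B (w : V) u = 0 := by simpa [hC] using LinearMap.congr_fun hw u
        have hwv : B (w : V) v = 0 := by simpa [hC] using LinearMap.congr_fun hw v
        refine ⟨⟨w, ⟨w, ?_, rfl⟩⟩, ?_, rfl⟩
        · simp [hφ, hskew (u : V) w, hskew (v : V) w, hwu, hwv]
        · ext y
          simpa [hC', hC] using LinearMap.congr_fun hw ⟨y, hle y.2⟩
    have r1 := LinearMap.finrank_range_add_finrank_ker C
    have r2 := LinearMap.finrank_range_add_finrank_ker C'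
    have k : finrank F (LinearMap.ker C') = finrank F (LinearMap.ker C) := by
      rw [(Submodule.equivMapOfInjective _ W'.injective_subtype _).finrank_eq, hkk,
        ← (Submodule.equivMapOfInjective _ W.injective_subtype _).finrank_eq]
    obtain ⟨r, hr⟩ := ih (finrank F W') (by omega) W' rfl
    rw [← hC'] at hr
    exact ⟨r + 1, by omega⟩

theorem even_rank_of_alt_matrix {F ι : Type*} [Field F] [Fintype ι] [DecidableEq ι]
    (M : Matrix ι ι F) (hM : ∀ v : ι → F, v ⬝ᵥ M.mulVec v = 0) : Even M.rank := by
  set B : (ι → F) →ₗ[F] (ι → F) →ₗ[F] F :=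
    (dotProductEquiv F ι).toLinearMap.comp M.mulVecLin with hB
  have h := even_finrank_range_of_alt B (fun v => by
    simpa [hB, dotProduct_comm] using hM v)
  rw [hB, LinearMap.range_comp, ← (Submodule.equivMapOfInjective _
    (dotProductEquiv F ι).injective _).finrank_eq] at h
  exact h

end CfsgLib.KnownA
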