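import Cfsg.Agent.Lib.KnownA.SchurCert

/-!
Permutations of at most `128` points packed seven bits to an image: kernel checks of membership in a
generated group, lower bounds for orders from partial stabiliser chains, and `SchurCert` for such
groups.
-/

set_option autoImplicit false
set_option maxRecDepth 100000

namespace CfsgLib.KnownA.PermCert

variable {n : ℕ}

/-- The image of a point. -/
def pimg (c i : ℕ) : ℕ := Nat.shiftRight c (7 * i) % 128

/-- The set of images of the first `k` points, as a mask. -/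
def imgMask (c : ℕ) : ℕ → ℕ
  | 0 => 0
  | k + 1 => Nat.lor (Nat.shiftLeft 1 (pimg c k)) (imgMask c k)

theorem testBit_imgMask {c j : ℕ} : ∀ {k : ℕ},
    (imgMask c k).testBit j = true ↔ ∃ i < k, pimg c i = j
  | 0 => by simp [imgMask]
  | k + 1 => by
    show ((1 <<< pimg c k) ||| imgMask c k).testBit j = true ↔ _
    rw [Nat.testBit_or, Nat.one_shiftLeft, Nat.testBit_two_pow, Bool.or_eq_true, decide_eq_true_iff,
      testBit_imgMask (k := k)]
    constructor
    · rintro (h | ⟨i, hi, h⟩)
      · exact ⟨k, by omega, h⟩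
      · exact ⟨i, by omega, h⟩
    · rintro ⟨i, hi, h⟩
      rcases Nat.lt_succ_iff_lt_or_eq.1 hi with hi | rfl
      · exact Or.inr ⟨i, hi, h⟩
      · exact Or.inl h

/-- The images of the points are exactly the points. -/
def valid (n c : ℕ) : Bool := Nat.beq (imgMask c n) (2 ^ n - 1)

theorem valid_lt {c : ℕ} (h : valid n c = true) {i : ℕ} (hi : i < n) : pimg c i < n := by
  have e : imgMask c n = 2 ^ n - 1 := Nat.eq_of_beq_eq_true h
  have := (testBit_imgMask (c := c) (j := pimg c i) (k := n)).2 ⟨i, hi, rfl⟩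
  rw [e, Nat.testBit_two_pow_sub_one] at this
  exact of_decide_eq_true this

/-- The map of a code. -/
def mapOf (n c : ℕ) (i : Fin n) : Fin n :=
  ⟨pimg c i % n, Nat.mod_lt _ (lt_of_le_of_lt (Nat.zero_le _) i.2)⟩

theorem mapOf_bijective {c : ℕ} (h : valid n c = true) : Function.Bijective (mapOf n c) := by
  refine Finite.surjective_iff_bijective.1 fun j => ?_
  have e : imgMask c n = 2 ^ n - 1 := Nat.eq_of_beq_eq_true h
  have : (imgMask c n).testBit j = true := by
    rw [e, Nat.testBit_two_pow_sub_one]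
    exact decide_eq_true j.2
  obtain ⟨i, hi, e'⟩ := testBit_imgMask.1 this
  exact ⟨⟨i, hi⟩, Fin.ext (by simp [mapOf, e', Nat.mod_eq_of_lt j.2])⟩

/-- The permutation of a code. -/
noncomputable def permOf (n c : ℕ) : Equiv.Perm (Fin n) :=
  if h : valid n c = true then Equiv.ofBijective _ (mapOf_bijective h) else 1

theorem permOf_val {c : ℕ} (h : valid n c = true) (i : Fin n) :
    ((permOf n c i : Fin n) : ℕ) = pimg c i := by
  simp [permOf, h, mapOf, Nat.mod_eq_of_lt (valid_lt h i.2)]

/-- A word applied to a point. -/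
def actW : List ℕ → ℕ → ℕ
  | [], i => i
  | c :: L, i => pimg c (actW L i)

/-- The product of a word. -/
noncomputable def prodW (n : ℕ) (L : List ℕ) : Equiv.Perm (Fin n) := (L.map (permOf n)).prod

theorem prodW_val : ∀ {L : List ℕ}, (∀ c ∈ L, valid n c = true) → ∀ i : Fin n,
    ((prodW n L i : Fin n) : ℕ) = actW L i
  | [], _, i => rfl
  | c :: L, h, i => by
    have ih := prodW_val (L := L) (fun x hx => h x (List.mem_cons_of_mem _ hx)) i
    show ((permOf n c (prodW n L i) : Fin n) : ℕ) = _
    rw [permOf_val (h c (List.mem_cons_self ..)), ih]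
    rfl

/-- Two words act alike. -/
def eqW (n : ℕ) (L L' : List ℕ) : Bool :=
  (List.range n).all fun i => Nat.beq (actW L i) (actW L' i)

theorem eqW_iff {L L' : List ℕ} (h : ∀ c ∈ L, valid n c = true) (h' : ∀ c ∈ L', valid n c = true) :
    eqW n L L' = true ↔ prodW n L = prodW n L' := by
  simp only [eqW, List.all_eq_true, List.mem_range]
  constructor
  · intro e
    refine Equiv.ext fun i => Fin.ext ?_
    rw [prodW_val h, prodW_val h', Nat.eq_of_beq_eq_true (e i i.2)]
  · intro e i hi
    rw [← prodW_val h ⟨i, hi⟩, ← prodW_val h' ⟨i, hi⟩, e]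
    exact Nat.beq_refl _

/-- A straight-line program: each step gives a claimed product of two earlier entries. -/
def slpRun (n : ℕ) : List (ℕ × ℕ × ℕ) → List ℕ → Option (List ℕ)
  | [], F => some F
  | (a, b, c) :: ops, F =>
    bif F.any (Nat.beq a) && F.any (Nat.beq b) && valid n c && eqW n [c] [a, b]
      then slpRun n ops (c :: F) else none

theorem slpRun_sound (K : Subgroup (Equiv.Perm (Fin n))) :
    ∀ {ops : List (ℕ × ℕ × ℕ)} {F F' : List ℕ},
      (∀ c ∈ F, valid n c = true ∧ permOf n c ∈ K) → slpRun n ops F = some F' →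
      ∀ c ∈ F', valid n c = true ∧ permOf n c ∈ K
  | [], F, F', h, e => by
    rw [slpRun, Option.some.injEq] at e; subst e; exact h
  | (a, b, c) :: ops, F, F', h, e => by
    rw [slpRun] at e
    cases hp : (F.any (Nat.beq a) && F.any (Nat.beq b) && valid n c && eqW n [c] [a, b]) with
    | false => rw [hp] at e; simp at e
    | true =>
      rw [hp] at e
      simp only [Bool.and_eq_true, List.any_eq_true] at hp
      obtain ⟨⟨⟨⟨a', ha', hae⟩, ⟨b', hb', hbe⟩⟩, hv⟩, he⟩ := hp
      have hFa := h _ (Nat.eq_of_beq_eq_true hae ▸ ha')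
      have hFb := h _ (Nat.eq_of_beq_eq_true hbe ▸ hb')
      refine slpRun_sound K (F := c :: F) (fun d hd => ?_) e
      rcases List.mem_cons.1 hd with rfl | hd
      · refine ⟨hv, ?_⟩
        have := (eqW_iff (L := [d]) (L' := [a, b]) (by simp [hv]) (by simp [hFa.1, hFb.1])).1 he
        simp only [prodW, List.map_cons, List.map_nil, List.prod_cons, List.prod_nil, mul_one] at this
        rw [this]
        exact mul_mem hFa.2 hFb.2
      · exact h d hd

/-- The group generated by some codes. -/
noncomputable def genGroup (n : ℕ) (gens : List ℕ) : Subgroup (Equiv.Perm (Fin n)) :=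
  Subgroup.closure {σ | ∃ c ∈ gens, σ = permOf n c}

theorem mem_genGroup {gens : List ℕ} {c : ℕ} (h : c ∈ gens) : permOf n c ∈ genGroup n gens :=
  Subgroup.subset_closure ⟨c, h, rfl⟩

theorem genGroup_le {gens : List ℕ} {K : Subgroup (Equiv.Perm (Fin n))}
    (h : ∀ c ∈ gens, permOf n c ∈ K) : genGroup n gens ≤ K := by
  refine (Subgroup.closure_le K).2 ?_
  rintro _ ⟨c, hc, rfl⟩
  exact h c hc

/-- A partial stabiliser chain: base points with transversals of distinct images. -/
def chainOK (n : ℕ) : List ℕ → List (ℕ × List ℕ) → Bool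
  | _, [] => true
  | pre, (b, T) :: L => Nat.blt b n && T.all (fun c => valid n c &&
      pre.all fun a => Nat.beq (pimg c a) a) &&
      ((List.range T.length).all fun i => (List.range i).all fun j =>
        !Nat.beq (pimg (T.getD i 0) b) (pimg (T.getD j 0) b)) &&
      chainOK n (b :: pre) L

/-- The bound given by a chain. -/
def chainProd : List (ℕ × List ℕ) → ℕ
  | [] => 1
  | (_, T) :: L => T.length * chainProd L

theorem card_ge_chain (K : Subgroup (Equiv.Perm (Fin n))) :
    ∀ {L : List (ℕ × List ℕ)} {pre : List ℕ}, chainOK n pre L = true →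
      (∀ e ∈ L, ∀ c ∈ e.2, permOf n c ∈ K) → ∀ H : Subgroup (Equiv.Perm (Fin n)),
      (∀ σ, σ ∈ H ↔ σ ∈ K ∧ ∀ a ∈ pre, ∀ h : a < n, σ ⟨a, h⟩ = ⟨a, h⟩) →
      chainProd L ≤ Nat.card H
  | [], pre, _, _, H, _ => Nat.card_pos
  | (b, T) :: L, pre, h, hK, H, hH => by
    simp only [chainOK, Bool.and_eq_true, List.all_eq_true, List.mem_range, Nat.blt_eq] at h
    obtain ⟨⟨⟨hb, hT⟩, hd⟩, hL⟩ := h
    let H' : Subgroup (Equiv.Perm (Fin n)) :=
      H ⊓ MulAction.stabilizer (Equiv.Perm (Fin n)) (⟨b, hb⟩ : Fin n)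
    have ih := card_ge_chain K hL (fun e he => hK e (List.mem_cons_of_mem _ he)) H' (fun σ => by
      rw [Subgroup.mem_inf, hH, MulAction.mem_stabilizer_iff]
      constructor
      · rintro ⟨⟨h1, h2⟩, h3⟩
        refine ⟨h1, fun a ha hlt => ?_⟩
        rcases List.mem_cons.1 ha with rfl | ha
        · exact h3
        · exact h2 a ha hlt
      · rintro ⟨h1, h2⟩
        exact ⟨⟨h1, fun a ha => h2 a (List.mem_cons_of_mem _ ha)⟩, h2 b (List.mem_cons_self ..) hb⟩)
    have hmem : ∀ i : Fin T.length, permOf n (T.getD i 0) ∈ H := fun i => by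
      have hm : T.getD i 0 ∈ T := by rw [List.getD_eq_getElem _ _ i.2]; exact List.getElem_mem _
      refine (hH _).2 ⟨hK _ (List.mem_cons_self ..) _ hm, fun a ha hlt => Fin.ext ?_⟩
      rw [permOf_val (hT _ hm).1]
      exact Nat.eq_of_beq_eq_true ((hT _ hm).2 a ha)
    let f : Fin T.length × H' → H := fun p =>
      ⟨permOf n (T.getD p.1 0) * p.2, mul_mem (hmem p.1) (Subgroup.mem_inf.1 p.2.2).1⟩
    have hf : Function.Injective f := by
      rintro ⟨i, x⟩ ⟨j, y⟩ e
      have e' : permOf n (T.getD i 0) * x = permOf n (T.getD j 0) * y := congrArg Subtype.val e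
      have hx : (x : Equiv.Perm (Fin n)) ⟨b, hb⟩ = ⟨b, hb⟩ := (Subgroup.mem_inf.1 x.2).2
      have hy : (y : Equiv.Perm (Fin n)) ⟨b, hb⟩ = ⟨b, hb⟩ := (Subgroup.mem_inf.1 y.2).2
      have := congrArg (fun σ : Equiv.Perm (Fin n) => ((σ ⟨b, hb⟩ : Fin n) : ℕ)) e'
      simp only [Equiv.Perm.mul_apply, hx, hy] at this
      have hmi : ∀ k : Fin T.length, valid n (T.getD k 0) = true := fun k => (hT _ (by
        rw [List.getD_eq_getElem _ _ k.2]; exact List.getElem_mem _)).1
      rw [permOf_val (hmi i), permOf_val (hmi j)] at this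
      have hij : i = j := by
        rcases lt_trichotomy i.val j.val with hlt | he | hlt
        · have h' := hd j j.2 i hlt
          rw [this, Nat.beq_refl] at h'
          exact absurd h' (by decide)
        · exact Fin.ext he
        · have h' := hd i i.2 j hlt
          rw [this, Nat.beq_refl] at h'
          exact absurd h' (by decide)
      subst hij
      exact Prod.ext rfl (Subtype.ext (mul_left_cancel e'))
    have hc := Nat.card_le_card_of_injective f hf
    rw [Nat.card_prod, Nat.card_fin] at hc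
    exact le_trans (Nat.mul_le_mul_left _ ih) hc

/-- All checks of a certificate. -/
def allOK {V : Type} (n : ℕ) (o : SchurCert.Ops V) (C : SchurCert.Cert V) (extras codes : List ℕ) :
    Bool :=
  codes.all (valid n) &&
  C.presOK (fun w w' => eqW n (w.filterMap fun i => codes[i]?) (w'.filterMap fun i => codes[i]?)) &&
  C.edgesOK o &&
  C.injOK (fun w w' => eqW n (w.filterMap fun i => codes[i]?) (w'.filterMap fun i => codes[i]?)) &&
  C.consOK (fun w w' => eqW n (w.filterMap fun i => codes[i]?) (w'.filterMap fun i => codes[i]?)) &&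
  C.finalOK o extras

open SchurCert in
/-- A checked certificate bounds the kernels of stem extensions. -/
theorem ker_le {V : Type} (o : Ops V) (C : Cert V) (extras codes : List ℕ)
    (G : Subgroup (Equiv.Perm (Fin n)))
    (hev : ∀ {K : Type} [CommGroup K] (τ : ℕ → K), (∀ x : K, x ^ C.p = 1) →
      Nonempty (Ev o C.rels.length τ))
    (hmem : ∀ c ∈ codes, permOf n c ∈ G)
    (hcard : Nat.Coprime C.p (Nat.card ↥G / C.N)) (h : allOK n o C extras codes = true)
    {Γ : Type} [Group Γ] [Finite Γ] {σ : Γ →* ↥G} (hσ : Cfsg.IsStemExtension σ)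
    (hexp : ∀ x ∈ σ.ker, x ^ C.p = 1) :
    ∃ τ : ℕ → Γ, ((∀ r, τ r ∈ σ.ker) ∧ ∀ r q comb, C.boundOK o r q comb = true → τ r ^ q = 1) ∧
      σ.ker ≤ Subgroup.closure (τ '' {r | r ∈ extras}) := by
  simp only [allOK, Bool.and_eq_true] at h
  obtain ⟨⟨⟨⟨⟨hcodes, h1⟩, h2⟩, h3⟩, h4⟩, h5⟩ := h
  rw [List.all_eq_true] at hcodes
  let gen : ℕ → ↥G := fun i =>
    if h : i < codes.length then ⟨permOf n codes[i], hmem _ (List.getElem_mem h)⟩ else 1
  have hv : ∀ w : List ℕ, ∀ c ∈ w.filterMap (fun i => codes[i]?), valid n c = true := fun w c hc => by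
    obtain ⟨i, -, hi⟩ := List.mem_filterMap.1 hc
    exact hcodes c (List.mem_of_getElem? hi)
  have hcoe : ∀ w : List ℕ, ((SchurCert.wprod gen w : ↥G) : Equiv.Perm (Fin n)) =
      prodW n (w.filterMap fun i => codes[i]?) := by
    intro w
    induction w with
    | nil => rfl
    | cons i w ih =>
      have e : ((SchurCert.wprod gen (i :: w) : ↥G) : Equiv.Perm (Fin n)) =
          (gen i : Equiv.Perm (Fin n)) * prodW n (w.filterMap fun i => codes[i]?) := by
        rw [← ih]; rfl
      rw [e, List.filterMap_cons]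
      by_cases hi : i < codes.length
      · rw [List.getElem?_eq_getElem hi]
        simp [gen, hi, prodW]
      · rw [List.getElem?_eq_none (by omega)]
        simp [gen, hi]
  refine ker_le_of_cert _ gen (fun w w' he => Subtype.ext ?_) (fun w w' he heq => ?_) o C extras
    hev hcard h1 h2 h3 h4 h5 hσ hexp
  · rw [hcoe, hcoe]; exact (eqW_iff (hv w) (hv w')).1 he
  · rw [(eqW_iff (hv w) (hv w')).2 (by rw [← hcoe, ← hcoe, heq])] at he
    exact Bool.noConfusion he

end CfsgLib.KnownA.PermCert
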