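import Cfsg.Agent.Lib.KnownA.MathieuData2

/-!
Automorphisms of `M11`, `M12` and `M22`: normalise an element of order 11 and one of order 5, then
use a few relations; the outer automorphism comes from `x ↦ -1/x`.
-/

set_option autoImplicit false
set_option maxRecDepth 100000
-- one kernel evaluation at a time
set_option Elab.async false

namespace CfsgLib.KnownA.Mathieu

open CfsgLib.Golay Cfsg
open scoped Pointwise

/-- The value of a word in the letters `g`. -/
def evalW {M : Type*} [Monoid M] (g : List M) (w : List ℕ) : M :=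
  (w.map fun k => g.getD k 1).prod

theorem map_evalW {M N : Type*} [Monoid M] [Monoid N] (f : M →* N) (g : List M) (w : List ℕ) :
    f (evalW g w) = evalW (g.map f) w := by
  rw [evalW, evalW, map_list_prod, List.map_map]
  congr 1
  refine List.map_congr_left fun k _ => ?_
  rw [Function.comp_apply, List.getD_eq_getElem?_getD, List.getD_eq_getElem?_getD,
    List.getElem?_map]
  cases g[k]? <;> simp

/-- Normal form of an automorphism. -/
theorem normal_form {G : Type*} [Group G] [Finite G] (p : ℕ) [hp : Fact p.Prime]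
    (hdvd : p ∣ Nat.card G) (hdvd' : ¬ p ^ 2 ∣ Nat.card G) (A C D : G) (hA : orderOf A = p) (r : ℕ)
    (hCA : C * A * C⁻¹ = A ^ r) (hcentA : ∀ x, x * A = A * x → ∃ i, x = A ^ i)
    (hfix : ∀ i < p, ∃ l < p, A ^ l * (C * A ^ i) * (A ^ l)⁻¹ = C)
    (E : List ℕ) (hE : ∀ k < p, k ≠ 0 → ∃ j < p, k * r ^ j % p ∈ E)
    (hEinv : ∀ e ∈ E, e * e % p = 1) (Z : List G) (hcentC : ∀ x, x * C = C * x → x ∈ Z) {s : ℕ}
    (hD : D * C * D⁻¹ = C ^ s) (R : List (List ℕ)) (hR : ∀ w ∈ R, evalW [A, C, D] w = 1)
    (S : List (ℕ × ℕ))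
    (hS : ∀ e ∈ E, ∀ i < Z.length, (e, i) ∉ S →
      ∃ w ∈ R, evalW [A ^ e, C, D * Z.getD i 1] w ≠ 1) (φ : MulAut G) :
    ∃ h : G, ∃ t ∈ S, h * φ A * h⁻¹ = A ^ t.1 ∧ h * φ C * h⁻¹ = C ∧
      h * φ D * h⁻¹ = D * Z.getD t.2 1 := by
  have hAp : A ^ p = 1 := by rw [← hA]; exact pow_orderOf_eq_one A
  have hpow : ∀ i, A ^ i = A ^ (i % p) := fun i => pow_eq_pow_mod i hAp
  have hsyl : ∀ x : G, orderOf x = p → Nat.card (Subgroup.zpowers x) =
      p ^ (Nat.card G).factorization p := by
    intro x hx
    rw [Nat.card_zpowers, hx, show (Nat.card G).factorization p = 1 from ?_, pow_one]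
    refine le_antisymm ?_ (hp.out.factorization_pos_of_dvd Nat.card_pos.ne' hdvd)
    by_contra hc
    exact hdvd' ((Nat.pow_dvd_pow p (not_le.mp hc)).trans (Nat.ordProj_dvd _ _))
  have hφA : orderOf (φ A) = p := (MulEquiv.orderOf_eq φ A).trans hA
  obtain ⟨g₁, hg₁⟩ := MulAction.exists_smul_eq G (Sylow.ofCard _ (hsyl _ hφA))
    (Sylow.ofCard _ (hsyl _ hA))
  have hmem : g₁ * φ A * g₁⁻¹ ∈ Subgroup.zpowers A := by
    have h' : g₁ * φ A * g₁⁻¹ ∈
        ((g₁ • Sylow.ofCard (Subgroup.zpowers (φ A)) (hsyl _ hφA) : Sylow p G) : Subgroup G) :=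
      ⟨φ A, Subgroup.mem_zpowers _, rfl⟩
    rw [hg₁] at h'
    exact h'
  obtain ⟨k, hkp, hk⟩ : ∃ k < p, A ^ k = g₁ * φ A * g₁⁻¹ := by
    rw [← mem_powers_iff_mem_zpowers, Submonoid.mem_powers_iff] at hmem
    obtain ⟨k, hk⟩ := hmem
    exact ⟨k % p, Nat.mod_lt _ hp.out.pos, by rw [← hpow]; exact hk⟩
  have hk0 : k ≠ 0 := fun h0 => by
    rw [h0, pow_zero] at hk
    have h1 : φ A = 1 := by
      have := congrArg (fun z => g₁⁻¹ * z * g₁) hk.symm
      simpa [mul_assoc] using this
    rw [h1, orderOf_one] at hφA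
    exact hp.out.ne_one hφA.symm
  obtain ⟨j, -, hje⟩ := hE k hkp hk0
  have hCj : ∀ j i, C ^ j * A ^ i * (C ^ j)⁻¹ = A ^ (i * r ^ j) := by
    intro j
    induction j with
    | zero => simp
    | succ j ih =>
      intro i
      have : C * A ^ i * C⁻¹ = A ^ (i * r) := by
        rw [← conj_pow, hCA, ← pow_mul, mul_comm]
      calc C ^ (j + 1) * A ^ i * (C ^ (j + 1))⁻¹ = C ^ j * (C * A ^ i * C⁻¹) * (C ^ j)⁻¹ := by
            rw [pow_succ]; group
        _ = A ^ (i * r ^ (j + 1)) := by rw [this, ih, pow_succ']; ring_nf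
  obtain ⟨e, he, heA⟩ : ∃ e ∈ E, (C ^ j * g₁) * φ A * (C ^ j * g₁)⁻¹ = A ^ e := by
    refine ⟨k * r ^ j % p, hje, ?_⟩
    rw [← hpow, ← hCj, hk]; group
  set h₁ := C ^ j * g₁
  set C₁ := h₁ * φ C * h₁⁻¹ with hC₁
  have hC₁A : C₁ * A ^ e * C₁⁻¹ = (A ^ e) ^ r := by
    have h' := congrArg (fun z => h₁ * φ z * h₁⁻¹) hCA
    simp only [map_mul, map_inv, map_pow] at h'
    rw [← heA, hC₁, conj_pow]
    rw [← h']; group
  have hee : A ^ (e * e) = A := by rw [hpow, hEinv e he, pow_one]
  have hC₁A' : C₁ * A * C₁⁻¹ = A ^ r := by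
    have h' := congrArg (fun z => z ^ e) hC₁A
    simp only [conj_pow] at h'
    rw [← pow_mul, hee] at h'
    rw [h', ← pow_mul, ← pow_mul, show e * (r * e) = e * e * r by ring, pow_mul, hee]
  obtain ⟨i, hi⟩ := hcentA (C⁻¹ * C₁) (by
    have h' : C₁ * A * C₁⁻¹ = C * A * C⁻¹ := hC₁A'.trans hCA.symm
    calc C⁻¹ * C₁ * A = C⁻¹ * (C₁ * A * C₁⁻¹) * C₁ := by group
      _ = A * (C⁻¹ * C₁) := by rw [h']; group)
  obtain ⟨l, -, hl⟩ := hfix (i % p) (Nat.mod_lt _ hp.out.pos)
  rw [← hpow, ← hi] at hl
  set h₂ := A ^ l * h₁ with hh₂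
  have hA₂ : h₂ * φ A * h₂⁻¹ = A ^ e := by
    calc h₂ * φ A * h₂⁻¹ = A ^ l * (h₁ * φ A * h₁⁻¹) * (A ^ l)⁻¹ := by rw [hh₂]; group
      _ = A ^ e := by rw [heA]; group
  have hC₂ : h₂ * φ C * h₂⁻¹ = C := by
    refine Eq.trans ?_ hl
    rw [hh₂, hC₁]; group
  have hD₂ : (h₂ * φ D * h₂⁻¹) * C * (h₂ * φ D * h₂⁻¹)⁻¹ = C ^ s := by
    have h' := congrArg (fun z => h₂ * φ z * h₂⁻¹) hD
    simp only [map_mul, map_inv, map_pow, ← conj_pow] at h'
    rw [hC₂] at h'
    rw [← h']
    conv_lhs => rw [← hC₂]
    group
  have hz := hcentC (D⁻¹ * (h₂ * φ D * h₂⁻¹)) (by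
    have h' : (h₂ * φ D * h₂⁻¹) * C * (h₂ * φ D * h₂⁻¹)⁻¹ = D * C * D⁻¹ := hD₂.trans hD.symm
    calc D⁻¹ * (h₂ * φ D * h₂⁻¹) * C = D⁻¹ * ((h₂ * φ D * h₂⁻¹) * C * (h₂ * φ D * h₂⁻¹)⁻¹) *
          (h₂ * φ D * h₂⁻¹) := by group
      _ = C * (D⁻¹ * (h₂ * φ D * h₂⁻¹)) := by rw [h']; group)
  obtain ⟨m, hm, hmz⟩ := List.getElem_of_mem hz
  have hDm : h₂ * φ D * h₂⁻¹ = D * Z.getD m 1 := by
    rw [List.getD_eq_getElem _ _ hm, hmz, mul_inv_cancel_left]
  by_cases hmem : (e, m) ∈ S
  · exact ⟨h₂, (e, m), hmem, hA₂, hC₂, hDm⟩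
  exfalso
  obtain ⟨w, hw, hne⟩ := hS e he m hm hmem
  apply hne
  let ψ : G →* G := ((MulAut.conj h₂).toMonoidHom).comp φ.toMonoidHom
  have h' := congrArg ψ (hR w hw)
  rw [map_evalW, map_one] at h'
  rw [← hA₂, ← hDm]
  conv_lhs => rw [← hC₂]
  exact h'

/-- At most two classes of automorphisms. -/
theorem out_card_two {G : Type*} [Group G] [Finite G] (A C D : G)
    (hgen : Subgroup.closure ({A, C, D} : Set G) = ⊤) (Z : List G) (S : List (ℕ × ℕ))
    (hnf : ∀ φ : MulAut G, ∃ h : G, ∃ t ∈ S, h * φ A * h⁻¹ = A ^ t.1 ∧ h * φ C * h⁻¹ = C ∧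
      h * φ D * h⁻¹ = D * Z.getD t.2 1)
    (hZ : Z.getD 0 1 = 1) :
    (S = [(1, 0)] → Nat.card (Cfsg.Out G) = 1) ∧
    (∀ e₂ i₂, S = [(1, 0), (e₂, i₂)] → (∃ τ : MulAut G, ∀ g : G, τ ≠ MulAut.conj g) →
      Nat.card (Cfsg.Out G) = 2) := by
  have same : ∀ φ ψ : MulAut G, ∀ h h' : G, ∀ a c d : G,
      h * φ A * h⁻¹ = a → h * φ C * h⁻¹ = c → h * φ D * h⁻¹ = d →
      h' * ψ A * h'⁻¹ = a → h' * ψ C * h'⁻¹ = c → h' * ψ D * h'⁻¹ = d →
      (φ : MulAut G) = MulAut.conj (h⁻¹ * h') * ψ := by
    intro φ ψ h h' a c d h1 h2 h3 h4 h5 h6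
    have heq : ((MulAut.conj h).toMonoidHom).comp φ.toMonoidHom =
        ((MulAut.conj h').toMonoidHom).comp ψ.toMonoidHom := by
      refine MonoidHom.eq_of_eqOn_dense hgen ?_
      intro x hx
      simp only [Set.mem_insert_iff, Set.mem_singleton_iff] at hx
      rcases hx with rfl | rfl | rfl
      · exact h1.trans h4.symm
      · exact h2.trans h5.symm
      · exact h3.trans h6.symm
    refine MulEquiv.ext fun x => ?_
    have hx : h * φ x * h⁻¹ = h' * ψ x * h'⁻¹ := DFunLike.congr_fun heq x
    rw [MulAut.mul_apply, MulAut.conj_apply]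
    calc φ x = h⁻¹ * (h * φ x * h⁻¹) * h := by group
      _ = h⁻¹ * (h' * ψ x * h'⁻¹) * h := by rw [hx]
      _ = _ := by group
  have base : ∀ φ : MulAut G, ∀ h : G, h * φ A * h⁻¹ = A ^ (1, 0).1 → h * φ C * h⁻¹ = C →
      h * φ D * h⁻¹ = D * Z.getD ((1 : ℕ), 0).2 1 → φ = MulAut.conj h⁻¹ := by
    intro φ h h1 h2 h3
    have := same φ 1 h 1 _ _ _ h1 h2 h3 (by simp) (by simp) (by simp [← List.getD_eq_getElem?_getD, hZ])
    simpa using this
  constructor
  · intro hS
    refine Out_card_eq_one fun φ => ?_
    obtain ⟨h, t, ht, h1, h2, h3⟩ := hnf φ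
    rw [hS, List.mem_singleton] at ht
    subst ht
    exact ⟨h⁻¹, base φ h h1 h2 h3⟩
  · intro e₂ i₂ hS ⟨τ, hτ⟩
    have hcases : ∀ φ : MulAut G, (∃ g, φ = MulAut.conj g) ∨ ∃ g, φ = MulAut.conj g * τ := by
      intro φ
      obtain ⟨h, t, ht, h1, h2, h3⟩ := hnf φ
      obtain ⟨h', t', ht', h4, h5, h6⟩ := hnf τ
      rw [hS] at ht ht'
      simp only [List.mem_cons, List.not_mem_nil, or_false] at ht ht'
      rcases ht with rfl | rfl
      · exact Or.inl ⟨_, base φ h h1 h2 h3⟩
      · rcases ht' with rfl | rfl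
        · exact absurd (base τ h' h4 h5 h6) (hτ _)
        · exact Or.inr ⟨_, same φ τ h h' _ _ _ h1 h2 h3 h4 h5 h6⟩
    rw [Nat.card_eq_two_iff]
    refine ⟨1, QuotientGroup.mk τ, fun h1 => ?_, Set.eq_univ_of_forall fun x => ?_⟩
    · have : τ ∈ Cfsg.Inn G := (QuotientGroup.eq_one_iff τ).mp h1.symm
      obtain ⟨g, hg⟩ := this
      exact hτ g hg.symm
    · induction x using QuotientGroup.induction_on with | H a =>
      rcases hcases a with ⟨g, rfl⟩ | ⟨g, rfl⟩
      · exact Or.inl ((QuotientGroup.eq_one_iff _).mpr ⟨g, rfl⟩)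
      · refine Or.inr ?_
        rw [Set.mem_singleton_iff]
        show QuotientGroup.mk' (Cfsg.Inn G) (MulAut.conj g * τ) = QuotientGroup.mk' (Cfsg.Inn G) τ
        rw [map_mul, show QuotientGroup.mk' (Cfsg.Inn G) (MulAut.conj g) = 1 from
          (QuotientGroup.eq_one_iff _).mpr ⟨g, rfl⟩, one_mul]

/-! ### The centraliser search -/

/-- The permutation commuting with `c` with the given values at the orbit representatives. -/
def tabCode (c : ℕ) (tab : List (ℕ × ℕ)) (ys : List ℕ) : ℕ :=
  encFun 24 fun i => imgIter c (tab.getD i (0, 0)).2 (ys.getD (tab.getD i (0, 0)).1 0)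

/-- Leaves are in the list or outside `fixMasks X`. -/
def leafOK (X : List ℕ) (c : ℕ) (tab : List (ℕ × ℕ)) (Z : List ℕ) (ys : List ℕ) : Bool :=
  !inFix X (tabCode c tab ys) || Z.any fun z => (List.range 24).all fun i =>
    Nat.beq (img z i) (img (tabCode c tab ys) i)

/-- `y` has the same short periods under `c` as `b`. -/
def samePeriods (c b y : ℕ) : Bool :=
  (List.range 6).all fun k => Nat.beq (imgIter c k y) y == Nat.beq (imgIter c k b) b

/-- Backtracking over the images of the orbit representatives. -/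
def srch (X : List ℕ) (c : ℕ) (tab : List (ℕ × ℕ)) (Z : List ℕ) :
    List (ℕ × List ℕ) → List ℕ → Bool
  | [], ys => leafOK X c tab Z ys
  | (b, ts) :: L, ys => (List.range 24).all fun y =>
      !samePeriods c b y || (ts.any fun x => !isCode (mimg (tabCode c tab (ys ++ [y])) x)) ||
        srch X c tab Z L (ys ++ [y])

/-- The table describes the orbits, and the tests only see known points. -/
def srchData (c : ℕ) (tab : List (ℕ × ℕ)) (reps : List ℕ) (tests : List (List ℕ)) : Bool :=
  ((List.range 24).all fun i => decide ((tab.getD i (0, 0)).1 < reps.length) &&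
      Nat.beq (imgIter c (tab.getD i (0, 0)).2 (reps.getD (tab.getD i (0, 0)).1 0)) i) &&
    reps.all (fun r => decide (r < 24)) && Nat.beq tests.length reps.length &&
    (List.range tests.length).all fun j => (tests.getD j []).all fun x =>
      isCode x && decide (x < 16777216) &&
        (List.range 24).all fun i => !x.testBit i || decide ((tab.getD i (0, 0)).1 ≤ j)

theorem srch_sound {X : List ℕ} {c : ℕ} {tab : List (ℕ × ℕ)} {reps : List ℕ}
    {tests : List (List ℕ)} {Z : List ℕ} (hX : ∀ A ∈ X, A < 16777216) (hv : valid c = true)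
    (hdata : srchData c tab reps tests = true) (hZv : Z.all valid = true)
    (h : srch X c tab Z (reps.zip tests) [] = true) (σ : Equiv.Perm GolayPt)
    (hσ : σ ∈ fixMasks X) (hc : σ * permOf c = permOf c * σ) : ∃ z ∈ Z, σ = permOf z := by
  simp only [srchData, Bool.and_eq_true, List.all_eq_true, List.mem_range, decide_eq_true_eq,
    Bool.or_eq_true] at hdata
  obtain ⟨⟨⟨htab, hreps⟩, hlen⟩, htests⟩ := hdata
  have hlen' : tests.length = reps.length := Nat.eq_of_beq_eq_true hlen
  have hcomm : ∀ k i, i < 24 → idx (σ (pt (imgIter c k i))) = imgIter c k (idx (σ (pt i))) := by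
    intro k i hi
    have h1 : σ * permOf c ^ k = permOf c ^ k * σ := (Commute.pow_right hc k).eq
    have h2 := congrArg (fun τ : Equiv.Perm GolayPt => τ (pt i)) h1
    simp only [Equiv.Perm.mul_apply] at h2
    rw [(imgIter_spec hv k hi).1, ← pt_idx (σ (pt i)), (imgIter_spec hv k (idx_lt _)).1] at h2
    rw [h2, idx_pt (imgIter_spec hv k (idx_lt _)).2]
  set ysT := reps.map fun r => idx (σ (pt r)) with hys
  have hrep : ∀ j, j < reps.length → reps.getD j 0 < 24 := fun j hj => by
    rw [List.getD_eq_getElem _ _ hj]; exact hreps _ (List.getElem_mem hj)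
  have hlt : ∀ (ys : List ℕ), (∀ y ∈ ys, y < 24) → ∀ i < 24,
      imgIter c (tab.getD i (0, 0)).2 (ys.getD (tab.getD i (0, 0)).1 0) < 24 := by
    intro ys hys i _
    refine (imgIter_spec hv _ ?_).2
    rw [List.getD_eq_getElem?_getD]
    cases he : ys[(tab.getD i (0, 0)).1]? with
    | none => simp
    | some v => exact hys v (List.mem_of_getElem? he)
  have hysT : ∀ y ∈ ysT, y < 24 := by
    intro y hy
    obtain ⟨r, -, rfl⟩ := List.mem_map.mp hy
    exact idx_lt _
  have hagree : ∀ n, ∀ i < 24, (tab.getD i (0, 0)).1 < n →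
      img (tabCode c tab (ysT.take n)) i = idx (σ (pt i)) := by
    intro n i hi hn
    have hys' : ∀ y ∈ ysT.take n, y < 24 := fun y hy => hysT y (List.mem_of_mem_take hy)
    rw [tabCode, img_encFun (fun j hj => (hlt _ hys' j hj).trans (by norm_num)) i hi]
    obtain ⟨hj, hi'⟩ := htab i hi
    have hlen2 : (tab.getD i (0, 0)).1 < (ysT.take n).length := by
      rw [List.length_take, hys, List.length_map]; omega
    conv_rhs => rw [← Nat.eq_of_beq_eq_true hi', hcomm _ _ (hrep _ hj)]
    congr 1
    rw [List.getD_eq_getElem _ _ hlen2, List.getElem_take, List.getD_eq_getElem _ _ hj]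
    simp [hys]
  have key : ∀ L n, L = (reps.zip tests).drop n → srch X c tab Z L (ysT.take n) = true →
      ∃ z ∈ Z, σ = permOf z := by
    intro L
    induction L with
    | nil =>
      intro n hn h
      have hlen3 : reps.length ≤ n := by
        have := congrArg List.length hn
        simp [List.length_drop, List.length_zip, hlen'] at this
        omega
      have hfull : ysT.take n = ysT := List.take_of_length_le (by rw [hys, List.length_map]; omega)
      have himg : ∀ i < 24, img (tabCode c tab ysT) i = idx (σ (pt i)) := fun i hi => by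
        rw [← hfull]; exact hagree n i hi ((htab i hi).1.trans_le hlen3)
      rw [hfull, srch, leafOK, Bool.or_eq_true] at h
      have hvg : valid (tabCode c tab ysT) = true := by
        have : mimg (tabCode c tab ysT) 16777215 = 16777215 := by
          refine Nat.eq_of_testBit_eq fun j => ?_
          rw [Bool.eq_iff_iff, testBit_mimg, testBit_full, decide_eq_true_iff]
          constructor
          · rintro ⟨i, hi, -, rfl⟩; rw [himg i hi]; exact idx_lt _
          · intro hj
            exact ⟨idx (σ⁻¹ (pt j)), idx_lt _, by rw [testBit_full]; simpa using idx_lt _,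
              by rw [himg _ (idx_lt _), pt_idx, show σ (σ⁻¹ (pt j)) = pt j by simp, idx_pt hj]⟩
        rw [valid, this]; rfl
      have hperm : permOf (tabCode c tab ysT) = σ := Equiv.ext fun q => by
        rw [permOf_apply hvg, himg _ (idx_lt q), pt_idx, pt_idx]
      have hin : inFix X (tabCode c tab ysT) = true := by
        simp only [inFix, Bool.and_eq_true, List.all_eq_true]
        refine ⟨inM24_complete hvg (hperm ▸ hσ.1), fun A hA => ?_⟩
        have := hσ.2 A hA
        rw [← hperm, smul_mset hvg] at this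
        rw [mset_inj (mimg_lt hvg A) (hX A hA) this]
        exact Nat.beq_refl A
      rcases h with h | h
      · rw [hin] at h; simp at h
      · simp only [List.any_eq_true, List.all_eq_true, List.mem_range] at h
        obtain ⟨z, hz, hzi⟩ := h
        refine ⟨z, hz, ?_⟩
        rw [List.all_eq_true] at hZv
        rw [← hperm]
        refine Equiv.ext fun q => ?_
        rw [permOf_apply hvg, permOf_apply (hZv z hz), Nat.eq_of_beq_eq_true (hzi _ (idx_lt q))]
    | cons a L ih =>
      intro n hn h
      obtain ⟨b, ts⟩ := a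
      have hn' : n < (reps.zip tests).length := by
        by_contra hcon
        rw [List.drop_eq_nil_of_le (not_lt.mp hcon)] at hn
        exact List.cons_ne_nil _ _ hn
      rw [List.drop_eq_getElem_cons hn', List.cons.injEq] at hn
      obtain ⟨hhead, htail⟩ := hn
      have hnr : n < reps.length := by simp [List.length_zip, hlen'] at hn'; omega
      rw [List.getElem_zip, Prod.mk.injEq] at hhead
      simp only [srch, List.all_eq_true, List.mem_range, Bool.or_eq_true] at h
      have htake : ysT.take (n + 1) = ysT.take n ++ [idx (σ (pt b))] := by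
        rw [List.take_succ_eq_append_getElem (by rw [hys, List.length_map]; omega), hhead.1]
        simp [hys]
      have hb : b < 24 := by rw [hhead.1]; exact hreps _ (List.getElem_mem hnr)
      rcases h _ (idx_lt (σ (pt b))) with (h1 | h1) | h1
      · exfalso
        have : samePeriods c b (idx (σ (pt b))) = true := by
          simp only [samePeriods, List.all_eq_true, beq_iff_eq]
          intro k _
          rw [Bool.eq_iff_iff]
          constructor <;> intro h2
          · have h3 := Nat.eq_of_beq_eq_true h2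
            rw [← hcomm k b hb] at h3
            have h4 := σ.injective (idx_injective h3)
            have h5 := congrArg idx h4
            rw [idx_pt (imgIter_spec hv k hb).2, idx_pt hb] at h5
            rw [h5]; exact Nat.beq_refl b
          · have h3 := Nat.eq_of_beq_eq_true h2
            have h4 : imgIter c k (idx (σ (pt b))) = idx (σ (pt b)) := by rw [← hcomm k b hb, h3]
            rw [h4]; exact Nat.beq_refl _
        rw [this] at h1; simp at h1
      · exfalso
        simp only [List.any_eq_true] at h1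
        obtain ⟨x, hx, hcode⟩ := h1
        have hnt : n < tests.length := by omega
        have hxj : x ∈ tests.getD n [] := by
          rw [List.getD_eq_getElem _ _ hnt, ← hhead.2]; exact hx
        have ht := htests n hnt x hxj
        simp only [and_assoc] at ht
        obtain ⟨hxc, hx24, hsupp⟩ := ht
        rw [← htake] at hcode
        set g := tabCode c tab (ysT.take (n + 1))
        have hbit : ∀ i < 24, x.testBit i = true → img g i = idx (σ (pt i)) := by
          intro i hi hb'
          refine hagree (n + 1) i hi ?_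
          rcases hsupp i hi with h2 | h2
          · rw [hb'] at h2; simp at h2
          · omega
        have hsmul : σ • mset x = mset (mimg g x) := by
          ext q
          rw [Finset.mem_smul_finset, mem_mset, testBit_mimg]
          constructor
          · rintro ⟨p, hp, rfl⟩
            refine ⟨idx p, idx_lt p, mem_mset.1 hp, ?_⟩
            rw [hbit _ (idx_lt p) (mem_mset.1 hp), pt_idx, Equiv.Perm.smul_def]
          · rintro ⟨i, hi, hb', he⟩
            refine ⟨pt i, mem_mset.2 (by rwa [idx_pt hi]), ?_⟩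
            rw [hbit i hi hb'] at he
            rw [Equiv.Perm.smul_def]
            exact idx_injective he
        have hm24 : mimg g x < 16777216 := by
          rw [show (16777216 : ℕ) = 2 ^ 24 by norm_num]
          refine Nat.lt_pow_two_of_testBit _ fun j hj => ?_
          by_contra hcon
          rw [Bool.not_eq_false] at hcon
          obtain ⟨i, hi, hb', he⟩ := testBit_mimg.1 hcon
          rw [hbit i hi hb'] at he
          have := idx_lt (σ (pt i))
          omega
        have hcode' : isCode (mimg g x) = true := by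
          rw [← mset_mem_supports_iff hm24, ← hsmul]
          exact mem_M24_iff.1 hσ.1 _ ((mset_mem_supports_iff hx24).2 hxc)
        rw [hcode'] at hcode; simp at hcode
      · exact ih (n + 1) htail (by rw [htake]; exact h1)
  exact key (reps.zip tests) 0 (by rw [List.drop_zero]) (by simpa using h)

/-- The product of the letters, as a list of codes. -/
def wordCodes (g : List (List ℕ)) (w : List ℕ) : List ℕ := (w.map fun k => g.getD k []).flatten

/-- What the kernel checks for one group. -/
def outData (X : List ℕ) (ca cc : ℕ) (Z24 : List ℕ) (init : List ℕ) (ops' : List (ℕ × ℕ × ℕ)) (cd : ℕ) (Z : List ℕ)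
    (R : List (List ℕ)) (s : ℕ) (S : List (ℕ × ℕ)) : Bool :=
  inFix X ca && inFix X cc && inFix X cd && Z.all (inFix X) &&
    eqW [Z.getD 0 idCode] [] && slpOK [ca, cc, cd] ops' init &&
    eqW [cc, ca] (List.replicate 3 ca ++ [cc]) &&
    eqW [cd, cc] (List.replicate s cc ++ [cd]) &&
    R.all (fun w => w.all (fun k => decide (k < 3)) &&
      eqW (wordCodes [[ca], [cc], [cd]] w) []) &&
    (Z24.all fun z => !inFix X z || Z.any fun z' => Nat.beq z z') &&
    [1, 10].all fun e => (List.range Z.length).all fun i => decide ((e, i) ∈ S) ||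
      R.any fun w => !eqW (wordCodes [List.replicate e ca, [cc], [cd, Z.getD i idCode]] w) []

theorem c_fix : ∀ i < 11, ∃ l < 11, eqW (List.replicate l codeC ++ code5 :: List.replicate i codeC)
    (code5 :: List.replicate l codeC) = true := by decide +kernel

theorem sq11 : ∀ k < 11, k ≠ 0 → ∃ j < 11, k * 3 ^ j % 11 ∈ [1, 10] := by decide +kernel

theorem srch5_data : srchData code5 tab5 reps5 tests5 = true := by decide +kernel

theorem cent24_valid : cent24.all inM24 = true := by decide +kernel

/-- The first level of the search, on part of the range. -/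
private def srchTop (l : List ℕ) : Bool := l.all fun y =>
  !samePeriods code5 ((reps5.zip tests5).headD (0, [])).1 y ||
    (((reps5.zip tests5).headD (0, [])).2.any fun x => !isCode (mimg (tabCode code5 tab5 [y]) x)) ||
    srch [] code5 tab5 cent24 (reps5.zip tests5).tail [y]

private theorem srchTop_0 : srchTop [0] = true := by decide +kernel

private theorem srchTop_1 : srchTop [1] = true := by decide +kernel

private theorem srchTop_2 : srchTop [2] = true := by decide +kernel

private theorem srchTop_3 : srchTop [3] = true := by decide +kernel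

private theorem srchTop_4 : srchTop [4] = true := by decide +kernel

private theorem srchTop_5 : srchTop [5] = true := by decide +kernel

private theorem srchTop_6 : srchTop [6] = true := by decide +kernel

private theorem srchTop_7 : srchTop [7] = true := by decide +kernel

private theorem srchTop_8 : srchTop [8] = true := by decide +kernel

private theorem srchTop_9 : srchTop [9] = true := by decide +kernel

private theorem srchTop_10 : srchTop [10] = true := by decide +kernel

private theorem srchTop_11 : srchTop [11] = true := by decide +kernel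

private theorem srchTop_12 : srchTop [12] = true := by decide +kernel

private theorem srchTop_13 : srchTop [13] = true := by decide +kernel

private theorem srchTop_14 : srchTop [14] = true := by decide +kernel

private theorem srchTop_15 : srchTop [15] = true := by decide +kernel

private theorem srchTop_16 : srchTop [16] = true := by decide +kernel

private theorem srchTop_17 : srchTop [17] = true := by decide +kernel

private theorem srchTop_18 : srchTop [18] = true := by decide +kernel

private theorem srchTop_19 : srchTop [19] = true := by decide +kernel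

private theorem srchTop_20 : srchTop [20] = true := by decide +kernel

private theorem srchTop_21 : srchTop [21] = true := by decide +kernel

private theorem srchTop_22 : srchTop [22] = true := by decide +kernel

private theorem srchTop_23 : srchTop [23] = true := by decide +kernel

theorem srch5 : srch [] code5 tab5 cent24 (reps5.zip tests5) [] = true := by
  show srchTop (List.range 24) = true
  have hcons : ∀ y l, srchTop [y] = true → srchTop l = true → srchTop (y :: l) = true := by
    intro y l h₁ h₂
    rw [srchTop, List.all_cons, Bool.and_eq_true] at h₁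
    rw [srchTop, List.all_cons, Bool.and_eq_true]
    exact ⟨h₁.1, h₂⟩
  exact hcons _ _ srchTop_0 (hcons _ _ srchTop_1 (hcons _ _ srchTop_2 (hcons _ _ srchTop_3 (hcons _ _ srchTop_4 (hcons _ _ srchTop_5 (hcons _ _ srchTop_6 (hcons _ _ srchTop_7 (hcons _ _ srchTop_8 (hcons _ _ srchTop_9 (hcons _ _ srchTop_10 (hcons _ _ srchTop_11 (hcons _ _ srchTop_12 (hcons _ _ srchTop_13 (hcons _ _ srchTop_14 (hcons _ _ srchTop_15 (hcons _ _ srchTop_16 (hcons _ _ srchTop_17 (hcons _ _ srchTop_18 (hcons _ _ srchTop_19 (hcons _ _ srchTop_20 (hcons _ _ srchTop_21 (hcons _ _ srchTop_22 (hcons _ _ srchTop_23 rfl)))))))))))))))))))))))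

theorem prod_wordCodes (g : List (List ℕ)) (w : List ℕ) :
    ((wordCodes g w).map permOf).prod = evalW (g.map fun l => (l.map permOf).prod) w := by
  rw [wordCodes, evalW, List.map_flatten, List.prod_flatten, List.map_map, List.map_map]
  congr 1
  refine List.map_congr_left fun k _ => ?_
  rw [Function.comp_apply, Function.comp_apply, List.getD_eq_getElem?_getD,
    List.getD_eq_getElem?_getD, List.getElem?_map]
  cases g[k]? <;> simp

/-- The common argument. -/
theorem out_small {X : List ℕ} {ca cc : ℕ} {tab : List (ℕ × ℕ)} {reps : List ℕ} {tests : List (List ℕ)} {Z24 : List ℕ} {L : List Level} {fin : List (ℕ × ℕ × ℕ)}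
    {init : List ℕ} {ops ops' : List (ℕ × ℕ × ℕ)} {cd : ℕ} {Z : List ℕ} {R : List (List ℕ)}
    {s : ℕ} {S : List (ℕ × ℕ)} (hX : ∀ A ∈ X, A < 16777216) (hc : chainOK X L fin = true)
    (hgen : slpOK init ops (chainGens L) = true)
    (h11 : 11 ∣ Nat.card (fixMasks X)) (h11' : ¬ 11 ^ 2 ∣ Nat.card (fixMasks X))
    (hcentA : ∀ σ ∈ M24, σ * permOf ca = permOf ca * σ → ∃ i, σ = permOf ca ^ i)
    (hA11 : eqW (List.replicate 11 ca) [] = true) (hA1 : eqW [ca] [] = false)
    (hcfix : ∀ i < 11, ∃ l < 11, eqW (List.replicate l ca ++ cc :: List.replicate i ca)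
      (cc :: List.replicate l ca) = true)
    (hdata : srchData cc tab reps tests = true) (hZ24 : Z24.all inM24 = true)
    (hsr : srch [] cc tab Z24 (reps.zip tests) [] = true)
    (hd : outData X ca cc Z24 init ops' cd Z R s S = true) :
    (S = [(1, 0)] → Nat.card (Cfsg.Out ↥(fixMasks X)) = 1) ∧
    (∀ e₂ i₂, S = [(1, 0), (e₂, i₂)] → (∃ τ : MulAut (fixMasks X), ∀ g, τ ≠ MulAut.conj g) →
      Nat.card (Cfsg.Out ↥(fixMasks X)) = 2) := by
  simp only [outData, Bool.and_eq_true, List.all_eq_true, decide_eq_true_eq, Bool.or_eq_true,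
    List.any_eq_true, List.mem_range] at hd
  obtain ⟨⟨⟨⟨⟨⟨⟨⟨⟨⟨hA, hC⟩, hD⟩, hZ⟩, hZ0⟩, hgen'⟩, hCA⟩, hDC⟩, hR⟩, hsrch⟩, hS⟩ := hd
  let A : fixMasks X := ⟨permOf ca, inFix_mem hA⟩
  let C : fixMasks X := ⟨permOf cc, inFix_mem hC⟩
  let D : fixMasks X := ⟨permOf cd, inFix_mem hD⟩
  let Z' : List (fixMasks X) :=
    Z.map fun z => if h : inFix X z = true then ⟨permOf z, inFix_mem h⟩ else 1
  have vA := inFix_valid hA
  have vC := inFix_valid hC
  have vD := inFix_valid hD
  have hZget : ∀ i, ((Z'.getD i 1 : fixMasks X) : Equiv.Perm GolayPt) = permOf (Z.getD i idCode) := by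
    intro i
    rcases Nat.lt_or_ge i Z.length with hi | hi
    · rw [List.getD_eq_getElem _ _ (by simpa [Z'] using hi), List.getD_eq_getElem _ _ hi]
      simp [Z', hZ _ (List.getElem_mem hi)]
    · rw [List.getD_eq_default _ _ (by simpa [Z'] using hi), List.getD_eq_default _ _ hi,
        permOf_idCode]
      rfl
  have hv : ∀ i, valid (Z.getD i idCode) = true := by
    intro i
    rw [List.getD_eq_getElem?_getD]
    cases he : Z[i]? with
    | none => exact idCode_valid
    | some v => exact inFix_valid (hZ v (List.mem_of_getElem? he))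
  have hwv : ∀ (g : List (List ℕ)), (∀ l ∈ g, ∀ c ∈ l, valid c = true) → ∀ w,
      (wordCodes g w ++ ([] : List ℕ)).all valid = true := by
    intro g hg w
    rw [List.all_eq_true]
    intro c hc
    simp only [List.append_nil, wordCodes, List.mem_flatten, List.mem_map] at hc
    obtain ⟨l, ⟨k, -, rfl⟩, hcl⟩ := hc
    rw [List.getD_eq_getElem?_getD] at hcl
    cases he : g[k]? with
    | none => rw [he] at hcl; simp at hcl
    | some v => rw [he] at hcl; exact hg v (List.mem_of_getElem? he) c hcl
  have hcoe : ∀ (g : List (fixMasks X)) w, ((evalW g w : fixMasks X) : Equiv.Perm GolayPt) =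
      evalW (g.map (↑)) w := fun g w => map_evalW (fixMasks X).subtype g w
  have hordA : orderOf A = 11 := by
    have : Fact (Nat.Prime 11) := ⟨by norm_num⟩
    refine orderOf_eq_prime (Subtype.ext ?_) fun h1 => ?_
    · have := eqW_sound (by simp [List.mem_replicate, vA]) hA11
      rw [List.map_replicate, List.prod_replicate] at this
      simpa [A] using this
    · refine neW_sound (by simp [vA]) hA1 ?_
      have := congrArg Subtype.val h1
      simpa [A] using this
  have hnf : ∀ φ : MulAut (fixMasks X), ∃ h, ∃ t ∈ S, h * φ A * h⁻¹ = A ^ t.1 ∧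
      h * φ C * h⁻¹ = C ∧ h * φ D * h⁻¹ = D * Z'.getD t.2 1 := by
    have : Fact (Nat.Prime 11) := ⟨by norm_num⟩
    intro φ
    refine normal_form 11 h11 h11' A C D hordA 3 ?_ (fun x hx => by
        obtain ⟨i, hi⟩ := hcentA (x : Equiv.Perm GolayPt) x.2.1 (congrArg Subtype.val hx)
        exact ⟨i, Subtype.ext (by rw [hi]; rfl)⟩) ?_ [1, 10] sq11
      (by decide +kernel) Z' ?_ (s := s) ?_ R ?_ S ?_ φ
    · rw [mul_inv_eq_iff_eq_mul]
      refine Subtype.ext ?_
      have := eqW_sound (by rw [List.all_eq_true]; intro g hg; simp [List.mem_replicate] at hg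
                            rcases hg with rfl | rfl | rfl | rfl <;> assumption) hCA
      simpa [A, C, pow_succ, mul_assoc] using this
    · intro i hi
      obtain ⟨l, hl, he⟩ := hcfix i hi
      refine ⟨l, hl, ?_⟩
      rw [mul_inv_eq_iff_eq_mul]
      refine Subtype.ext ?_
      have := eqW_sound (by rw [List.all_eq_true]; intro g hg; simp [List.mem_replicate] at hg
                            aesop) he
      simpa [A, C, mul_assoc] using this
    · intro x hx
      rw [List.all_eq_true] at hZ24
      obtain ⟨z, hz, he⟩ := srch_sound (X := []) (by simp) vC hdata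
        (List.all_eq_true.2 fun z hz => inM24_valid (hZ24 z hz)) hsr (x : Equiv.Perm GolayPt)
        ⟨x.2.1, by simp⟩ (congrArg Subtype.val hx)
      have hzX : inFix X z = true := by
        simp only [inFix, Bool.and_eq_true, List.all_eq_true]
        refine ⟨hZ24 z hz, fun A hA => ?_⟩
        have h' := x.2.2 A hA
        rw [he, smul_mset (inM24_valid (hZ24 z hz))] at h'
        rw [mset_inj (mimg_lt (inM24_valid (hZ24 z hz)) A) (hX A hA) h']
        exact Nat.beq_refl A
      rcases hsrch z hz with h' | ⟨z', hz', hzz⟩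
      · rw [hzX] at h'; simp at h'
      obtain rfl := Nat.eq_of_beq_eq_true hzz
      exact List.mem_map.mpr ⟨z, hz', by rw [dif_pos (hZ z hz')]; exact Subtype.ext he.symm⟩
    · rw [mul_inv_eq_iff_eq_mul]
      refine Subtype.ext ?_
      have := eqW_sound (by rw [List.all_eq_true]; intro g hg; simp [List.mem_replicate] at hg
                            aesop) hDC
      simpa [C, D, mul_assoc] using this
    · intro w hw
      refine Subtype.ext ?_
      rw [hcoe]
      have := eqW_sound (hwv [[ca], [cc], [cd]] (by simp [vA, vC, vD]) w) (hR w hw).2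
      rw [prod_wordCodes] at this
      simpa [A, C, D] using this
    · intro e he i hi hne
      have hi' : i < Z.length := by simpa [Z'] using hi
      rcases hS e he i hi' with h | ⟨w, hw, hwne⟩
      · exact absurd h hne
      · refine ⟨w, hw, fun h1 => ?_⟩
        have hall : ∀ l ∈ [List.replicate e ca, [cc], [cd, Z.getD i idCode]], ∀ c ∈ l,
            valid c = true := by
          simp [List.mem_replicate, vA, vC, vD, hv i, -List.getD_eq_getElem?_getD]
        refine neW_sound (hwv _ hall w) (by simpa using hwne) ?_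
        rw [prod_wordCodes]
        have h2 := congrArg Subtype.val h1
        rw [hcoe] at h2
        simpa [A, C, D, hZget, -List.getD_eq_getElem?_getD] using h2
  refine out_card_two A C D ?_ Z' S hnf ?_
  · rw [eq_top_iff, ← Subgroup.map_subtype_le_map_subtype, MonoidHom.map_closure]
    refine (Subgroup.map_le_range _ _).trans ?_
    rw [Subgroup.range_subtype]
    refine fixMasks_le_of_gens hc (slpOK_sound (fun g hg => slpOK_sound (fun g' hg' => ?_) hgen' g hg) hgen)
    refine Subgroup.subset_closure ?_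
    simp only [List.mem_cons, List.not_mem_nil, or_false] at hg'
    rcases hg' with rfl | rfl | rfl
    · exact ⟨A, by simp, rfl⟩
    · exact ⟨C, by simp, rfl⟩
    · exact ⟨D, by simp, rfl⟩
  · refine Subtype.ext ?_
    rw [hZget]
    have := eqW_sound (by simp [hv 0, -List.getD_eq_getElem?_getD]) hZ0
    simpa [-List.getD_eq_getElem?_getD] using this

theorem valid_T : valid codeT = true := by decide +kernel

/-- An outer automorphism: conjugation by `x ↦ -1/x`. -/
theorem exists_outer {X : List ℕ} (hT : ∀ σ ∈ fixMasks X, permOf codeT * σ * (permOf codeT)⁻¹ ∈ fixMasks X)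
    (hA : inFix X codeC = true) (hout : X.any (fun A => !Nat.beq (mimg codeT A) A) = true)
    (hX : ∀ A ∈ X, A < 16777216) :
    ∃ τ : MulAut (fixMasks X), ∀ g, τ ≠ MulAut.conj g := by
  have hmap : (fixMasks X).map (MulAut.conj (permOf codeT)).toMonoidHom = fixMasks X := by
    refine Subgroup.eq_of_le_of_card_ge ?_
      (by rw [Subgroup.card_map_of_injective (MulAut.conj _).injective])
    rintro _ ⟨σ, hσ, rfl⟩
    exact hT σ hσ
  refine ⟨((MulAut.conj (permOf codeT)).subgroupMap (fixMasks X)).trans
    (MulEquiv.subgroupCongr hmap), fun g hg => ?_⟩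
  have h := congrArg Subtype.val (DFunLike.congr_fun hg ⟨permOf codeC, inFix_mem hA⟩)
  change permOf codeT * permOf codeC * (permOf codeT)⁻¹ =
    (g : Equiv.Perm GolayPt) * permOf codeC * (g : Equiv.Perm GolayPt)⁻¹ at h
  have hTM : permOf codeT ∈ M24 := inM24_mem (by decide +kernel)
  have hc : (g : Equiv.Perm GolayPt)⁻¹ * permOf codeT * permOf codeC =
      permOf codeC * ((g : Equiv.Perm GolayPt)⁻¹ * permOf codeT) := by
    calc (g : Equiv.Perm GolayPt)⁻¹ * permOf codeT * permOf codeC
        = (g : Equiv.Perm GolayPt)⁻¹ * (permOf codeT * permOf codeC * (permOf codeT)⁻¹) * permOf codeT := by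
          group
      _ = permOf codeC * ((g : Equiv.Perm GolayPt)⁻¹ * permOf codeT) := by rw [h]; group
  obtain ⟨i, hi⟩ := cent_C _ (M24.mul_mem (M24.inv_mem g.2.1) hTM) hc
  have hmem : permOf codeT ∈ fixMasks X := by
    rw [show permOf codeT = (g : Equiv.Perm GolayPt) * permOf codeC ^ i by rw [← hi]; group]
    exact Subgroup.mul_mem _ g.2 (Subgroup.pow_mem _ (inFix_mem hA) i)
  simp only [List.any_eq_true] at hout
  obtain ⟨A, hAX, hne⟩ := hout
  have := hmem.2 A hAX
  rw [smul_mset valid_T] at this
  rw [mset_inj (mimg_lt valid_T A) (hX A hAX) this] at hne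
  simp at hne

theorem mem_T : inM24 codeT = true := by decide +kernel

theorem out_M11 : Nat.card (Cfsg.Out ↥Spor.M11) = 1 := by
  rw [sporM11_eq]
  exact (out_small (ca := codeC) (cc := code5) (tab := tab5) (reps := reps5) (tests := tests5) (Z24 := cent24) (init := M11genInit) (ops := M11genOps) (ops' := ops11) (cd := code5D11) (Z := cent11)
    (R := rels11) (s := 2) (S := [(1, 0)]) (by decide +kernel) chain11 M11gen_ok
    (by rw [card_fix11]; norm_num) (by rw [card_fix11]; norm_num) cent_C (by decide +kernel) (by decide +kernel) c_fix srch5_data cent24_valid srch5 (by decide +kernel)).1 rfl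

theorem out_M22 : Nat.card (Cfsg.Out ↥Spor.M22) = 2 := by
  rw [sporM22_eq]
  refine (out_small (ca := codeC) (cc := code5) (tab := tab5) (reps := reps5) (tests := tests5) (Z24 := cent24) (init := M22genInit) (ops := M22genOps) (ops' := ops22) (cd := code5D22) (Z := cent22)
    (R := rels22) (s := 2) (S := [(1, 0), (10, 0)]) (by decide +kernel) chain22 M22gen_ok
    (by rw [card_fix22]; norm_num) (by rw [card_fix22]; norm_num) cent_C (by decide +kernel) (by decide +kernel) c_fix srch5_data cent24_valid srch5 (by decide +kernel)).2 10 0 rfl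
    (exists_outer ?_ (by decide +kernel) (by decide +kernel) (by decide +kernel))
  intro σ hσ
  have h22 : ∀ {τ}, τ ∈ fixMasks X22 ↔ τ ∈ M24 ∧ τ (pt 0) = pt 0 ∧ τ (pt 23) = pt 23 := by
    intro τ
    rw [show X22 = Nat.shiftLeft 1 0 :: X23 from rfl, mem_fixMasks_bit (by norm_num : 0 < 24),
      show X23 = [Nat.shiftLeft 1 23] from rfl, mem_fixMasks_bit (by norm_num : 23 < 24), fixMasks_nil]
    tauto
  obtain ⟨h1, h0, h23⟩ := h22.1 hσ
  have e0 : (permOf codeT) (pt 23) = pt 0 := by
    rw [permOf_pt valid_T (by norm_num)]; exact congrArg pt (by decide +kernel)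
  have e23 : (permOf codeT) (pt 0) = pt 23 := by
    rw [permOf_pt valid_T (by norm_num)]; exact congrArg pt (by decide +kernel)
  have i0 : (permOf codeT)⁻¹ (pt 0) = pt 23 := by rw [Equiv.Perm.inv_eq_iff_eq, e0]
  have i23 : (permOf codeT)⁻¹ (pt 23) = pt 0 := by rw [Equiv.Perm.inv_eq_iff_eq, e23]
  refine h22.2 ⟨M24.mul_mem (M24.mul_mem (inM24_mem mem_T) h1) (M24.inv_mem (inM24_mem mem_T)), ?_, ?_⟩
  · rw [Equiv.Perm.mul_apply, Equiv.Perm.mul_apply, i0, h23, e0]
  · rw [Equiv.Perm.mul_apply, Equiv.Perm.mul_apply, i23, h0, e23]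

theorem out_M12 : Nat.card (Cfsg.Out ↥Spor.M12) = 2 := by
  rw [sporM12_eq]
  refine (out_small (ca := codeC) (cc := code5) (tab := tab5) (reps := reps5) (tests := tests5) (Z24 := cent24) (init := M12genInit) (ops := M12genOps) (ops' := ops12) (cd := code5D12) (Z := cent12)
    (R := rels12) (s := 1) (S := [(1, 0), (10, 0)]) (by decide +kernel) chain12 M12gen_ok
    (by rw [card_fix12]; norm_num) (by rw [card_fix12]; norm_num) cent_C (by decide +kernel) (by decide +kernel) c_fix srch5_data cent24_valid srch5 (by decide +kernel)).2 10 0 rfl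
    (exists_outer ?_ (by decide +kernel) (by decide +kernel) (by decide +kernel))
  intro σ hσ
  have hT' := inM24_mem mem_T
  refine ⟨M24.mul_mem (M24.mul_mem hT' hσ.1) (M24.inv_mem hT'), fun A hA => ?_⟩
  simp only [List.mem_singleton] at hA
  subst hA
  have hcompl : mset (Nat.xor 16777215 sqMask) = symmDiff (Finset.univ) (mset sqMask) := by
    rw [show Nat.xor 16777215 sqMask = 16777215 ^^^ sqMask from rfl, mset_xor, mset_full]
  have hTs : permOf codeT • mset sqMask = mset (Nat.xor 16777215 sqMask) := by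
    rw [smul_mset valid_T]; exact congrArg mset (by decide +kernel)
  have hTc : permOf codeT • mset (Nat.xor 16777215 sqMask) = mset sqMask := by
    rw [smul_mset valid_T]; exact congrArg mset (by decide +kernel)
  have hσc : σ • mset (Nat.xor 16777215 sqMask) = mset (Nat.xor 16777215 sqMask) := by
    rw [hcompl, Finset.smul_finset_symmDiff, Finset.smul_finset_univ, hσ.2 sqMask (by simp)]
  rw [mul_smul, mul_smul, show (permOf codeT)⁻¹ • mset sqMask = mset (Nat.xor 16777215 sqMask) by
    rw [inv_smul_eq_iff, hTc], hσc, hTc]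

end CfsgLib.KnownA.Mathieu
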