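import Cfsg.Prelude.Def_LocalEven
import Cfsg.Agent.Lib.KnownC.AutPSURad
import Cfsg.Agent.Lib.Amalgam.QdBasic

/-!
The three-dimensional unitary groups are free of `Qd(p)` in the defining characteristic: the
`p`-elements normalising a non-trivial `p`-subgroup fix a common isotropic line, so form a subgroup.
-/

set_option autoImplicit false
set_option linter.unusedSectionVars false
set_option linter.style.haveILetI false

namespace CfsgLib.KnownA.QdFree

open CfsgLib.Geom CfsgLib.Classical CfsgLib.KnownC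
open scoped MatrixGroups

/-- `x` is a `p`-element. -/
def IsPElt (p : ℕ) {G : Type*} [Monoid G] (x : G) : Prop := ∃ k, x ^ p ^ k = 1

theorem IsPElt.map {p : ℕ} {G H : Type*} [Monoid G] [Monoid H] (f : G →* H) {x : G}
    (hx : IsPElt p x) : IsPElt p (f x) := by
  obtain ⟨k, hk⟩ := hx
  exact ⟨k, by rw [← map_pow, hk, map_one]⟩

theorem isPElt_of_mem {p : ℕ} {G : Type*} [Group G] {T : Subgroup G} (hT : IsPGroup p ↥T) {x : G}
    (hx : x ∈ T) : IsPElt p x := by
  obtain ⟨k, hk⟩ := hT ⟨x, hx⟩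
  exact ⟨k, congrArg Subtype.val hk⟩

/-- A `p`-element lifts to a `p`-element. -/
theorem exists_lift_pElt {p : ℕ} [hp : Fact p.Prime] {G H : Type*} [Group G] [Finite G] [Group H]
    (π : G →* H) (hπ : Function.Surjective π) {z : H} (hz : IsPElt p z) :
    ∃ g, π g = z ∧ IsPElt p g := by
  obtain ⟨k, hk⟩ := hz
  obtain ⟨g, hg⟩ := hπ z
  obtain ⟨a, m, hm, ho⟩ := Nat.exists_eq_pow_mul_and_not_dvd (orderOf_pos g).ne' p hp.out.ne_one
  obtain ⟨j, hj⟩ := exists_pow_eq_self_of_coprime (x := z) (n := m)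
    ((Nat.Coprime.pow_right k ((hp.out.coprime_iff_not_dvd.2 hm).symm)).coprime_dvd_right
      (orderOf_dvd_of_pow_eq_one hk))
  refine ⟨(g ^ m) ^ j, by rw [map_pow, map_pow, hg, hj], a, ?_⟩
  rw [← pow_mul, ← pow_mul, show m * (j * p ^ a) = p ^ a * m * j by ring, ← ho, pow_mul,
    pow_orderOf_eq_one, one_pow]

theorem map_eq_top {p : ℕ} [Fact p.Prime] {G H : Type*} [Group G] [Finite G] [Group H] {f : G →* H}
    (hf : Function.Surjective f) (Q : Sylow p G) (hH : IsPGroup p H) :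
    (Q : Subgroup G).map f = ⊤ :=
  ((Q.mapSurjective hf).is_maximal' (hH.to_subgroup ⊤) le_top).symm

/-- A group with `p`-closed `p`-local normalisers does not involve `Qd(p)`. -/
theorem not_involves_qd {p : ℕ} [hp : Fact p.Prime] {G : Type*} [Group G] [Finite G]
    (hclosed : ∀ T : Subgroup G, IsPGroup p ↥T → T ≠ ⊥ → ∀ x y,
      x ∈ Subgroup.normalizer (T : Set G) → y ∈ Subgroup.normalizer (T : Set G) →
      IsPElt p x → IsPElt p y → IsPElt p (x * y)) :
    ¬ Cfsg.Involves ↥(Cfsg.qd p) G := by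
  rintro ⟨A, R, hR, ⟨φ⟩⟩
  haveI := hR
  let f : ↥A →* ↥(Cfsg.qdOver (ZMod p)) := φ.toMonoidHom.comp (QuotientGroup.mk' _)
  have hf : Function.Surjective f := φ.surjective.comp (QuotientGroup.mk'_surjective _)
  let V : Subgroup ↥(Cfsg.qdOver (ZMod p)) := (CfsgLib.Amalgam.Qd.lin (ZMod p)).ker
  have hV : IsPGroup p ↥V := CfsgLib.Amalgam.Qd.isPGroup_ker
  haveI : V.Normal := MonoidHom.normal_ker _
  obtain ⟨Q⟩ : Nonempty (Sylow p ↥(V.comap f)) := inferInstance
  set T : Subgroup ↥A := (Q : Subgroup ↥(V.comap f)).map (V.comap f).subtype with hTdef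
  have hTp : IsPGroup p ↥T := Q.2.map _
  -- `T` is non-trivial
  have hT1 : T ≠ ⊥ := by
    intro hbot
    have hs : Function.Surjective (f.subgroupComap V) := fun y => by
      obtain ⟨a, ha⟩ := hf y.1
      exact ⟨⟨a, by rw [Subgroup.mem_comap, ha]; exact y.2⟩, Subtype.ext ha⟩
    have hQ : (Q : Subgroup ↥(V.comap f)) = ⊥ := by
      rw [eq_bot_iff]
      intro a ha
      have : (a : ↥A) ∈ T := ⟨a, ha, rfl⟩
      rw [hbot, Subgroup.mem_bot] at this
      exact Subgroup.mem_bot.2 (Subtype.ext this)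
    have h1 := map_eq_top hs Q hV
    rw [hQ, Subgroup.map_bot] at h1
    have h2 : CfsgLib.Amalgam.Qd.el (![1, 0] : Fin 2 → ZMod p) 1 ∈ V :=
      (CfsgLib.Amalgam.Qd.mem_ker_iff _).2 ⟨_, rfl⟩
    have h3 : (⟨_, h2⟩ : ↥V) ∈ (⊥ : Subgroup ↥V) := h1 ▸ Subgroup.mem_top _
    have h4 := congrArg Subtype.val (Subgroup.mem_bot.1 h3)
    rw [Subgroup.coe_one, ← CfsgLib.Amalgam.Qd.el_one] at h4
    have := congrFun (CfsgLib.Amalgam.Qd.el_inj h4).1 0
    simp at this
  -- the normaliser of `T` covers the quotient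
  have hN := Sylow.normalizer_sup_eq_top Q
  have hcover : ∀ b : ↥(Cfsg.qdOver (ZMod p)), ∃ a ∈ Subgroup.normalizer (T : Set ↥A), f a = b := by
    intro b
    obtain ⟨a₀, ha₀⟩ := hf b
    have ha : a₀ ∈ Subgroup.normalizer (T : Set ↥A) ⊔ V.comap f := by
      rw [hTdef, hN]; exact Subgroup.mem_top _
    obtain ⟨v, hv⟩ : ∃ v, v ∈ V.comap f ∧ a₀ * v⁻¹ ∈ Subgroup.normalizer (T : Set ↥A) := by
      obtain ⟨c, hc, v, hv, rfl⟩ := Subgroup.mem_sup_of_normal_right.1 ha
      exact ⟨v, hv, by simpa using hc⟩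
    obtain ⟨k, hk⟩ := hV ⟨f v, hv.1⟩
    obtain ⟨w, hw, -⟩ := exists_lift_pElt (f.subgroupComap V) (fun y => by
      obtain ⟨a, ha⟩ := hf y.1
      exact ⟨⟨a, by rw [Subgroup.mem_comap, ha]; exact y.2⟩, Subtype.ext ha⟩)
      (z := (⟨f v, hv.1⟩ : ↥V)) ⟨k, hk⟩
    have hs : Function.Surjective (f.subgroupComap V) := fun y => by
      obtain ⟨a, ha⟩ := hf y.1
      exact ⟨⟨a, by rw [Subgroup.mem_comap, ha]; exact y.2⟩, Subtype.ext ha⟩
    have h1 : (⟨f v, hv.1⟩ : ↥V) ∈ (Q : Subgroup ↥(V.comap f)).map (f.subgroupComap V) := by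
      rw [map_eq_top hs Q hV]; exact Subgroup.mem_top _
    obtain ⟨s, hs', hsv⟩ := h1
    have hsN : (s : ↥A) ∈ Subgroup.normalizer (T : Set ↥A) := Subgroup.le_normalizer ⟨s, hs', rfl⟩
    refine ⟨a₀ * v⁻¹ * s, mul_mem hv.2 hsN, ?_⟩
    have hsv' : f (s : ↥A) = f v := congrArg Subtype.val hsv
    rw [map_mul, map_mul, map_inv, hsv', ha₀, inv_mul_cancel_right]
  -- move to `G`
  set T' : Subgroup G := T.map A.subtype with hT'
  have hT'1 : T' ≠ ⊥ := fun h => hT1 ((Subgroup.map_eq_bot_iff_of_injective _ A.subtype_injective).1 h)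
  have hNT : ∀ a ∈ Subgroup.normalizer (T : Set ↥A), (a : G) ∈ Subgroup.normalizer (T' : Set G) := by
    intro a ha
    have hle := Subgroup.le_normalizer_map (A.subtype) (Subgroup.mem_map_of_mem A.subtype ha)
    exact hle
  -- lifts of two `p`-elements with product not a `p`-element
  let U : SL(2, ZMod p) := ⟨!![1, 1; 0, 1], by simp [Matrix.det_fin_two]⟩
  let L : SL(2, ZMod p) := ⟨!![1, 0; 1, 1], by simp [Matrix.det_fin_two]⟩
  have hpel : ∀ M : SL(2, ZMod p), (M.1 - 1) * (M.1 - 1) = 0 →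
      IsPElt p (CfsgLib.Amalgam.Qd.el (0 : Fin 2 → ZMod p) M) := by
    intro M hM
    refine ⟨1, ?_⟩
    have hpow : ∀ j : ℕ, CfsgLib.Amalgam.Qd.el (0 : Fin 2 → ZMod p) M ^ j =
        CfsgLib.Amalgam.Qd.el 0 (M ^ j) := by
      intro j
      induction j with
      | zero => rw [pow_zero, pow_zero, CfsgLib.Amalgam.Qd.el_one]
      | succ j ih => rw [pow_succ, ih, CfsgLib.Amalgam.Qd.el_mul, Matrix.mulVec_zero, add_zero,
          pow_succ]
    rw [hpow, pow_one, show M ^ p = 1 by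
      apply Subtype.ext
      rw [Matrix.SpecialLinearGroup.coe_pow, Matrix.SpecialLinearGroup.coe_one,
        show M.1 = (M.1 - 1) + 1 by abel, add_pow_char_of_commute _ (Commute.one_right _),
        one_pow, pow_eq_zero_of_le hp.out.two_le (by rw [pow_two]; exact hM), zero_add],
      CfsgLib.Amalgam.Qd.el_one]
  have hU : IsPElt p (CfsgLib.Amalgam.Qd.el (0 : Fin 2 → ZMod p) U) :=
    hpel U (by ext i j; fin_cases i <;> fin_cases j <;> simp [U, Matrix.mul_apply, Fin.sum_univ_two])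
  have hL : IsPElt p (CfsgLib.Amalgam.Qd.el (0 : Fin 2 → ZMod p) L) :=
    hpel L (by ext i j; fin_cases i <;> fin_cases j <;> simp [L, Matrix.mul_apply, Fin.sum_univ_two])
  let g : ↥(Subgroup.normalizer (T : Set ↥A)) →* ↥(Cfsg.qdOver (ZMod p)) := f.comp (Subgroup.subtype _)
  have hg : Function.Surjective g := fun b => by
    obtain ⟨a, ha, hab⟩ := hcover b
    exact ⟨⟨a, ha⟩, hab⟩
  obtain ⟨a, ha, hap⟩ := exists_lift_pElt g hg hU
  obtain ⟨b, hb, hbp⟩ := exists_lift_pElt g hg hL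
  have h1 := hclosed T' (hTp.map _) hT'1 _ _ (hNT a.1 a.2) (hNT b.1 b.2)
    (hap.map ((A.subtype).comp (Subgroup.subtype _))) (hbp.map ((A.subtype).comp (Subgroup.subtype _)))
  obtain ⟨k, hk⟩ := h1
  have h2 : (a * b) ^ p ^ k = 1 := Subtype.ext (Subtype.ext hk)
  have h3 : IsPElt p (U * L) := by
    refine ⟨k, ?_⟩
    have h4 := congrArg (CfsgLib.Amalgam.Qd.lin (ZMod p)) (congrArg g h2)
    rwa [map_pow, map_pow, map_mul, ha, hb, map_mul, CfsgLib.Amalgam.Qd.lin_el,
      CfsgLib.Amalgam.Qd.lin_el, map_one, map_one] at h4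
  obtain ⟨j, hj⟩ := h3
  -- traces
  have htr : ∀ (j : ℕ) (M : Matrix (Fin 2) (Fin 2) (ZMod p)), (M ^ p ^ j).trace = M.trace := by
    intro j
    induction j with
    | zero => simp
    | succ j ih =>
      intro M
      rw [pow_succ, pow_mul, ZMod.trace_pow_card, ih, ZMod.pow_card]
  have h5 := htr j (U * L).1
  rw [← Matrix.SpecialLinearGroup.coe_pow, hj] at h5
  rw [Matrix.SpecialLinearGroup.coe_mul, Matrix.SpecialLinearGroup.coe_one] at h5
  simp [U, L, Matrix.trace_fin_two, Matrix.mul_apply, Fin.sum_univ_two] at h5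
  exact one_ne_zero (α := ZMod p) (by linear_combination -h5)

variable {F V : Type*} [Field F] [Finite F] [AddCommGroup V] [Module F V] [FiniteDimensional F V]
  {σ : F →+* F} {B : V →ₛₗ[σ] V →ₗ[F] F} (K : UCtx B) (h3 : Module.finrank F V = 3)
  {p : ℕ} [hp : Fact p.Prime] [CharP F p]

include K h3

/-- An orthogonal frame of an isotropic pair. -/
theorem exists_frame {e v : V} (hee : B e e = 0) (hvv : B v v = 0) (hev : B e v ≠ 0) :
    ∃ u : V, u ≠ 0 ∧ B e u = 0 ∧ B v u = 0 ∧ B u u ≠ 0 ∧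
      ∀ x, ∃ a b c : F, x = a • e + b • v + c • u := by
  have H := K.herm
  obtain ⟨u, hu0, hu⟩ := IsHermSpace.exists_perp_ne_zero (B := B) ![e, v] (by omega)
  have heu : B e u = 0 := hu 0
  have hvu : B v u = 0 := hu 1
  have hve : B v e ≠ 0 := fun h => hev (H.eq_zero_comm h)
  have hli : LinearIndependent F ![e, v, u] := by
    rw [Fintype.linearIndependent_iff]
    intro c hc
    simp only [Fin.sum_univ_three, Matrix.cons_val_zero, Matrix.cons_val_one,
      Matrix.cons_val_two, Matrix.tail_cons, Matrix.head_cons] at hc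
    have h1 := congrArg (B e) hc
    simp only [map_add, map_smul, map_zero, hee, heu, smul_eq_mul, mul_zero, zero_add, add_zero,
      mul_eq_zero, hev, or_false] at h1
    have h0 := congrArg (B v) hc
    simp only [map_add, map_smul, map_zero, hvv, hvu, smul_eq_mul, mul_zero, add_zero,
      mul_eq_zero, hve, or_false] at h0
    rw [h0, h1, zero_smul, zero_smul, zero_add, zero_add] at hc
    have h2 := (smul_eq_zero.1 hc).resolve_right hu0
    intro i
    fin_cases i <;> assumption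
  have hspan : ∀ x, ∃ a b c : F, x = a • e + b • v + c • u := by
    intro x
    have hx : x ∈ Submodule.span F (Set.range ![e, v, u]) := by
      rw [hli.span_eq_top_of_card_eq_finrank (by simp [h3])]; exact Submodule.mem_top
    obtain ⟨c, rfl⟩ := (Submodule.mem_span_range_iff_exists_fun F).1 hx
    exact ⟨c 0, c 1, c 2, by simp [Fin.sum_univ_three]⟩
  refine ⟨u, hu0, heu, hvu, fun huu => hu0 (H.sep _ fun x => ?_), hspan⟩
  obtain ⟨a, b, c, rfl⟩ := hspan x
  simp [H.eq_zero_comm heu, H.eq_zero_comm hvu, huu]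

omit h3 in
theorem scalar_eq_one {g : UG K} {v : V} {a : F} (hv : v ≠ 0) (hga : g.1.1 v = a • v)
    (hgp : IsPElt p g) : a = 1 := by
  obtain ⟨k, hk⟩ := hgp
  have hpow : ∀ j : ℕ, (g ^ j).1.1 v = a ^ j • v := by
    intro j
    induction j with
    | zero => simp
    | succ j ih => rw [pow_succ, ut_mul_apply, hga, map_smul, ih, smul_smul, ← pow_succ']
  have h1 := hpow (p ^ k)
  rw [hk] at h1
  have h2 : (a ^ p ^ k - 1) • v = 0 := by
    rw [sub_smul, one_smul, ← h1]; simp
  have h : (a - 1) ^ p ^ k = 0 := by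
    rw [sub_pow_char_pow, one_pow, (smul_eq_zero.1 h2).resolve_right hv]
  exact sub_eq_zero.1 (eq_zero_of_pow_eq_zero h)

/-- `p`-elements of the stabiliser of an isotropic line lie in its radical. -/
theorem mem_utRad {g : UG K} {e : V} {a : F} (he : e ≠ 0) (hee : B e e = 0)
    (hga : g.1.1 e = a • e) (hgp : IsPElt p g) : g ∈ utRad K e := by
  have H := K.herm
  have ha := scalar_eq_one K he hga hgp
  subst ha
  rw [one_smul] at hga
  obtain ⟨f, hef, hff⟩ := H.exists_hyperbolic he hee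
  obtain ⟨u, hu0, heu, hfu, -, hspan⟩ := exists_frame K h3 hee hff (by rw [hef]; exact one_ne_zero)
  have hperp : ∀ w, B e w = 0 → ∃ a c : F, w = a • e + c • u := by
    intro w hw
    obtain ⟨a, b, c, rfl⟩ := hspan w
    simp only [map_add, map_smul, hee, hef, heu, smul_eq_mul, mul_zero, mul_one, zero_add,
      add_zero] at hw
    exact ⟨a, c, by rw [hw, zero_smul, add_zero]⟩
  obtain ⟨d, c, hgu⟩ := hperp (g.1.1 u) (by
    conv_lhs => rw [← hga]
    rw [g.1.2]; exact heu)
  have hc : c = 1 := by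
    obtain ⟨k, hk⟩ := hgp
    have hpow : ∀ j : ℕ, ∃ d' : F, (g ^ j).1.1 u = d' • e + c ^ j • u := by
      intro j
      induction j with
      | zero => exact ⟨0, by simp⟩
      | succ j ih =>
        obtain ⟨d', hd'⟩ := ih
        refine ⟨d' + c ^ j * d, ?_⟩
        rw [pow_succ', ut_mul_apply, hd', map_add, map_smul, map_smul, hgu, hga, smul_add,
          smul_smul, smul_smul, add_smul, ← add_assoc, ← pow_succ]
    obtain ⟨d', hd'⟩ := hpow (p ^ k)
    rw [hk] at hd'
    have hd'' : u = d' • e + c ^ p ^ k • u := hd'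
    have hfe : B f e = 1 := H.eq_one_comm hef
    have h4 := congrArg (B f) hd''
    simp only [map_add, map_smul, hfu, hfe, smul_eq_mul, mul_zero, mul_one, add_zero] at h4
    rw [← h4, zero_smul, zero_add] at hd''
    have h5 : (c ^ p ^ k - 1) • u = 0 := by rw [sub_smul, one_smul, ← hd'', sub_self]
    have h : (c - 1) ^ p ^ k = 0 := by
      rw [sub_pow_char_pow, one_pow, (smul_eq_zero.1 h5).resolve_right hu0]
    exact sub_eq_zero.1 (eq_zero_of_pow_eq_zero h)
  subst hc
  refine ⟨hga, fun w hw => ?_⟩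
  obtain ⟨a', c', rfl⟩ := hperp w hw
  refine ⟨c' * d, ?_⟩
  rw [map_add, map_smul, map_smul, hgu, hga, one_smul, smul_add, smul_smul]
  abel

/-- A non-trivial `p`-element fixes only one isotropic line. -/
theorem fixed_line_unique {t : UG K} (ht : t ≠ 1) (htp : IsPElt p t) {e v : V} (he : e ≠ 0)
    (hee : B e e = 0) (hte : t.1.1 e = e) (hvv : B v v = 0) (htv : t.1.1 v = v) :
    ∃ a : F, v = a • e := by
  have H := K.herm
  obtain ⟨f, hef, hff⟩ := H.exists_hyperbolic he hee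
  by_cases hev : B e v = 0
  · obtain ⟨u, -, heu, hfu, huu, hspan⟩ := exists_frame K h3 hee hff (by rw [hef]; exact one_ne_zero)
    obtain ⟨a, b, c, rfl⟩ := hspan v
    simp only [map_add, map_smul, hee, hef, heu, smul_eq_mul, mul_zero, mul_one, zero_add,
      add_zero] at hev
    subst hev
    simp only [zero_smul, add_zero, map_add, map_smulₛₗ, LinearMap.add_apply,
      LinearMap.smul_apply, smul_eq_mul, RingHom.id_apply, hee, heu, H.eq_zero_comm heu, mul_zero,
      zero_add, mul_eq_zero, huu, or_false, map_eq_zero] at hvv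
    refine ⟨a, ?_⟩
    rcases hvv with h | h <;> simp [h]
  · exfalso
    refine ht (ug_ext K fun x => ?_)
    obtain ⟨-, hrad⟩ := mem_utRad K h3 he hee (a := 1) (by rw [one_smul]; exact hte) htp
    obtain ⟨u, -, heu, hvu, -, hspan⟩ := exists_frame K h3 hee hvv hev
    obtain ⟨d, hd⟩ := hrad u heu
    have h1 : B v (t.1.1 u) = 0 := by
      conv_lhs => rw [← htv]
      rw [t.1.2]; exact hvu
    rw [hd, map_add, map_smul, hvu, zero_add, smul_eq_mul, mul_eq_zero] at h1
    rcases h1 with h1 | h1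
    · rw [h1, zero_smul, add_zero] at hd
      obtain ⟨a, b, c, rfl⟩ := hspan x
      simp [map_add, map_smul, hte, htv, hd]
    · exact absurd (H.eq_zero_comm h1) hev

/-- The central quotient has `p`-closed `p`-local normalisers. -/
theorem closed {G : Type*} [Group G] [Finite G] (e0 : G ≃* UQ K) (T : Subgroup G)
    (hT : IsPGroup p ↥T) (hne : T ≠ ⊥) (x y : G) (hx : x ∈ Subgroup.normalizer (T : Set G))
    (hy : y ∈ Subgroup.normalizer (T : Set G)) (hxp : IsPElt p x) (hyp : IsPElt p y) :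
    IsPElt p (x * y) := by
  haveI := finite_ug K
  haveI : Nontrivial V := Module.nontrivial_of_finrank_pos (R := F) (by omega)
  set π : UG K →* G := e0.symm.toMonoidHom.comp (toUQ K)
  have hπs : Function.Surjective π := e0.symm.surjective.comp (QuotientGroup.mk'_surjective _)
  have hker : ∀ g, π g = 1 → toUQ K g = 1 := fun g hg => by
    apply e0.symm.injective
    rw [map_one]; exact hg
  have hker1 : ∀ g, π g = 1 → IsPElt p g → g = 1 := by
    intro g hg hgp
    obtain ⟨a, ha⟩ := scalar_of_toUQ_eq_one K (hker g hg)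
    obtain ⟨v, hv⟩ := exists_ne (0 : V)
    have h1 := scalar_eq_one K hv (ha v) hgp
    exact ug_ext K fun w => by rw [ha, h1, one_smul]; rfl
  obtain ⟨P⟩ : Nonempty (Sylow p ↥(T.comap π)) := inferInstance
  set TT : Subgroup (UG K) := (P : Subgroup ↥(T.comap π)).map (T.comap π).subtype
  have hTT : IsPGroup p ↥TT := P.2.map _
  have hmem : ∀ g ∈ T.comap π, IsPElt p g → g ∈ TT := by
    intro g hg hgp
    have hs : Function.Surjective (π.subgroupComap T) := fun y => by
      obtain ⟨a, ha⟩ := hπs y.1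
      exact ⟨⟨a, by rw [Subgroup.mem_comap, ha]; exact y.2⟩, Subtype.ext ha⟩
    have h1 : (⟨π g, hg⟩ : ↥T) ∈ (P : Subgroup ↥(T.comap π)).map (π.subgroupComap T) := by
      rw [map_eq_top hs P hT]; exact Subgroup.mem_top _
    obtain ⟨s, hs', hsg⟩ := h1
    have hsT : (s : UG K) ∈ TT := ⟨s, hs', rfl⟩
    have hsg' : π (s : UG K) = π g := congrArg Subtype.val hsg
    set z := (s : UG K)⁻¹ * g
    have hz : π z = 1 := by rw [map_mul, map_inv, hsg', inv_mul_cancel]
    have hc : Commute (s : UG K) z :=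
      Subgroup.mem_center_iff.1 ((QuotientGroup.eq_one_iff _).1 (hker _ hz)) _
    obtain ⟨i, hi⟩ := isPElt_of_mem hTT hsT
    obtain ⟨j, hj⟩ := hgp
    have hzp : IsPElt p z := by
      refine ⟨i + j, ?_⟩
      have h2 : ((s : UG K) * z) ^ p ^ (i + j) = 1 := by
        rw [show (s : UG K) * z = g by simp [z], pow_add, mul_comm, pow_mul, hj, one_pow]
      rwa [hc.mul_pow, pow_add, pow_mul, hi, one_pow, one_mul, ← pow_add] at h2
    have hz1 := hker1 z hz hzp
    rwa [show g = (s : UG K) by simpa [z] using (inv_mul_eq_one.1 hz1).symm]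
  obtain ⟨e, he, hee, hfix⟩ := exists_fixed_isotropic K TT hTT
  obtain ⟨t₀, ht₀, ht₀1⟩ : ∃ t ∈ T, t ≠ 1 := by
    by_contra hc
    push Not at hc
    exact hne ((Subgroup.eq_bot_iff_forall _).2 hc)
  obtain ⟨t, ht, htp⟩ := exists_lift_pElt π hπs (isPElt_of_mem hT ht₀)
  have htT : t ∈ TT := hmem t (by rw [Subgroup.mem_comap, ht]; exact ht₀) htp
  have ht1 : t ≠ 1 := fun h => ht₀1 (by rw [← ht, h, map_one])
  have hline : ∀ g, π g ∈ Subgroup.normalizer (T : Set G) → ∃ a : F, g.1.1 e = a • e := by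
    intro g hg
    refine fixed_line_unique K h3 ht1 htp he hee (hfix t htT) (by rw [g.1.2]; exact hee) ?_
    have h1 : g⁻¹ * t * g ∈ T.comap π := by
      rw [Subgroup.mem_comap, map_mul, map_mul, map_inv, ht]
      have h2 := (Subgroup.mem_normalizer_iff.1 (inv_mem hg) t₀).1 ht₀
      rwa [inv_inv] at h2
    obtain ⟨kt, hkt⟩ := htp
    have h3' : g⁻¹ * t * g ∈ TT := hmem _ h1 ⟨kt, by
      rw [show g⁻¹ * t * g = g⁻¹ * t * (g⁻¹)⁻¹ by group, conj_pow, hkt]; group⟩
    have h4 := hfix _ h3'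
    have h5 : g.1.1 ((g⁻¹ * t * g).1.1 e) = t.1.1 (g.1.1 e) := by
      rw [← ut_mul_apply, ← ut_mul_apply, show g * (g⁻¹ * t * g) = t * g by group]
    rw [h4] at h5
    exact h5.symm
  obtain ⟨gx, hgx, hgxp⟩ := exists_lift_pElt π hπs hxp
  obtain ⟨gy, hgy, hgyp⟩ := exists_lift_pElt π hπs hyp
  obtain ⟨ax, hax⟩ := hline gx (by rw [hgx]; exact hx)
  obtain ⟨ay, hay⟩ := hline gy (by rw [hgy]; exact hy)
  have hmul := mul_mem (mem_utRad K h3 he hee hax hgxp) (mem_utRad K h3 he hee hay hgyp)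
  obtain ⟨k, hk⟩ := isPGroup_utRad K (p := p) he ⟨gx * gy, hmul⟩
  have hk' : (gx * gy) ^ p ^ k = 1 := congrArg Subtype.val hk
  exact ⟨k, by rw [← hgx, ← hgy, ← map_mul, ← map_pow, hk', map_one]⟩

end CfsgLib.KnownA.QdFree
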