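import Mathlib

/-!
Abelian Sylow subgroups of alternating groups.
-/

set_option autoImplicit false

namespace CfsgLib.KnownA.AltSylow

open MulAction

/-- An abelian `p`-group of permutations of `n` points has order `p^a` with `a * p ≤ n`. -/
theorem exp_mul_le {α : Type*} [Finite α] {p : ℕ} [hp : Fact p.Prime]
    (P : Subgroup (Equiv.Perm α)) (hP : IsPGroup p P)
    (hab : ∀ x ∈ P, ∀ y ∈ P, x * y = y * x) {a : ℕ} (ha : Nat.card P = p ^ a) :
    a * p ≤ Nat.card α := by
  classical
  let Ω := MulAction.orbitRel.Quotient P α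
  have : Fintype Ω := Fintype.ofFinite Ω
  have hsum : Nat.card α = ∑ ω : Ω, Nat.card ω.orbit := by
    rw [Nat.card_congr (MulAction.selfEquivSigmaOrbits' P α), Nat.card_sigma]
  have hmem : ∀ (g : P) (ω : Ω), g • ω.out ∈ ω.orbit := fun g ω => by
    rw [MulAction.orbitRel.Quotient.orbit_eq_orbit_out ω Quotient.out_eq']
    exact mem_orbit _ _
  let f : P → ∀ ω : Ω, ω.orbit := fun g ω => ⟨g • ω.out, hmem g ω⟩
  have hinj : Function.Injective f := by
    intro g g' h
    refine Subtype.ext (Equiv.ext fun y => ?_)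
    let ω : Ω := Quotient.mk'' y
    have hy : y ∈ orbit P ω.out := by
      rw [← MulAction.orbitRel.Quotient.orbit_eq_orbit_out ω Quotient.out_eq',
        MulAction.orbitRel.Quotient.mem_orbit]
    obtain ⟨c, hc⟩ := hy
    have h' : g • ω.out = g' • ω.out := congrArg Subtype.val (congrFun h ω)
    show g • y = g' • y
    rw [← hc]
    show g • c • ω.out = g' • c • ω.out
    rw [← mul_smul, ← mul_smul, show g * c = c * g from Subtype.ext (hab _ g.2 _ c.2),
      show g' * c = c * g' from Subtype.ext (hab _ g'.2 _ c.2), mul_smul, mul_smul, h']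
  have hle : p ^ a ≤ ∏ ω : Ω, Nat.card ω.orbit := by
    rw [← ha, ← Nat.card_pi]
    exact Nat.card_le_card_of_injective f hinj
  have hone : ∀ ω : Ω, Nat.card ω.orbit ^ p ≤ p ^ Nat.card ω.orbit := by
    intro ω
    obtain ⟨j, hj⟩ : ∃ j, Nat.card ω.orbit = p ^ j := by
      rw [MulAction.orbitRel.Quotient.orbit_eq_orbit_out ω Quotient.out_eq']
      exact hP.card_orbit ω.out
    rw [hj, ← pow_mul]
    refine Nat.pow_le_pow_right hp.out.pos ?_
    rcases Nat.eq_zero_or_pos j with rfl | hj0
    · simp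
    · calc j * p ≤ p ^ (j - 1) * p := by
            refine Nat.mul_le_mul_right p ?_
            have := (j - 1).lt_pow_self hp.out.one_lt
            omega
        _ = p ^ j := by rw [← pow_succ, Nat.sub_add_cancel hj0]
  refine (Nat.pow_le_pow_iff_right hp.out.one_lt).mp ?_
  calc p ^ (a * p) = (p ^ a) ^ p := pow_mul p a p
    _ ≤ (∏ ω : Ω, Nat.card ω.orbit) ^ p := Nat.pow_le_pow_left hle p
    _ = ∏ ω : Ω, Nat.card ω.orbit ^ p := (Finset.prod_pow _ _ _).symm
    _ ≤ ∏ ω : Ω, p ^ Nat.card ω.orbit := Finset.prod_le_prod' fun ω _ => hone ω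
    _ = p ^ Nat.card α := by rw [Finset.prod_pow_eq_pow_sum, hsum]

theorem card_sylow_alt' {n p : ℕ} [Fact p.Prime] (hn : 2 ≤ n)
    (P : Sylow p (alternatingGroup (Fin n))) :
    Nat.card P = p ^ (padicValNat p n.factorial - padicValNat p 2) := by
  have : Nontrivial (Fin n) := Fin.nontrivial_iff_two_le.mpr hn
  have h := two_mul_card_alternatingGroup (α := Fin n)
  rw [← Nat.card_eq_fintype_card, ← Nat.card_eq_fintype_card, Nat.card_perm, Nat.card_fin] at h
  rw [P.card_eq_multiplicity, Nat.factorization_def _ (Fact.out : p.Prime), ← h,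
    padicValNat.mul two_ne_zero Nat.card_pos.ne', Nat.add_sub_cancel_left]

theorem three_terms_le_val {n p : ℕ} [Fact p.Prime] :
    n / p + n / p ^ 2 + n / p ^ 3 ≤ padicValNat p n.factorial := by
  rw [padicValNat_factorial (b := max (Nat.log p n + 1) 4) (by omega)]
  calc n / p + n / p ^ 2 + n / p ^ 3 = ∑ i ∈ Finset.Ico 1 4, n / p ^ i := by
        simp [Finset.sum_Ico_succ_top]
    _ ≤ _ := Finset.sum_le_sum_of_subset (Finset.Ico_subset_Ico_right (le_max_right _ _))

theorem val_of_lt_sq {n p : ℕ} [hp : Fact p.Prime] (h : n < p ^ 2) :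
    padicValNat p n.factorial = n / p := by
  rw [padicValNat_factorial (b := 2) (Nat.log_lt_of_lt_pow' two_ne_zero h)]
  simp

/-- An element of `A_n` of order two modulo the centralizer makes the index even. -/
theorem two_dvd_index {G : Type*} [Group G] [Finite G] (P : Subgroup G) {t : G}
    (ht : t * t = 1) (hN : t ∈ Subgroup.normalizer (P : Set G))
    (hC : t ∉ Subgroup.centralizer (P : Set G)) :
    2 ∣ ((Subgroup.centralizer (P : Set G)).subgroupOf (Subgroup.normalizer (P : Set G))).index := by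
  set C := (Subgroup.centralizer (P : Set G)).subgroupOf (Subgroup.normalizer (P : Set G))
  have hn : C.Normal := ⟨fun c hc g => by
    show ((g * c * g⁻¹ : Subgroup.normalizer (P : Set G)) : G) ∈ Subgroup.centralizer (P : Set G)
    rw [Subgroup.mem_centralizer_iff]
    intro x hx
    have hx' : (g : G)⁻¹ * x * g ∈ (P : Set G) :=
      (Subgroup.mem_normalizer_iff''.mp g.2 x).mp hx
    have hcx := Subgroup.mem_centralizer_iff.mp (show (c : G) ∈ Subgroup.centralizer (P : Set G) from hc)
      _ hx'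
    simp only [Subgroup.coe_mul, Subgroup.coe_inv]
    calc x * ((g : G) * c * (g : G)⁻¹) = g * (((g : G)⁻¹ * x * g) * c) * (g : G)⁻¹ := by group
      _ = g * (c * ((g : G)⁻¹ * x * g)) * (g : G)⁻¹ := by rw [hcx]
      _ = (g : G) * c * (g : G)⁻¹ * x := by group⟩
  have hne : QuotientGroup.mk' C ⟨t, hN⟩ ≠ 1 := by
    rw [QuotientGroup.mk'_apply, ne_eq, QuotientGroup.eq_one_iff]; exact hC
  have h2 : orderOf (QuotientGroup.mk' C ⟨t, hN⟩) = 2 := by
    refine orderOf_eq_prime ?_ hne
    rw [← map_pow, pow_two, show (⟨t, hN⟩ * ⟨t, hN⟩ : Subgroup.normalizer (P : Set G)) = 1 from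
      Subtype.ext ht, map_one]
  rw [Subgroup.index_eq_card, ← h2]
  exact orderOf_dvd_natCard _

/-- The translations of `Fin k × ZMod p`. -/
def shift (k p : ℕ) : Multiplicative (Fin k → ZMod p) →* Equiv.Perm (Fin k × ZMod p) where
  toFun v := Equiv.prodCongrRight fun i => Equiv.addRight (v.toAdd i)
  map_one' := by ext ⟨i, x⟩ <;> simp
  map_mul' v w := by ext ⟨i, x⟩ <;> simp [add_comm, add_left_comm]

theorem shift_apply {k p : ℕ} (v : Multiplicative (Fin k → ZMod p)) (x : Fin k × ZMod p) :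
    shift k p v x = (x.1, x.2 + v.toAdd x.1) := rfl

/-- Negation on the first two cycles. -/
def negTwo (k p : ℕ) : Equiv.Perm (Fin k × ZMod p) :=
  Equiv.prodCongrRight fun i => if (i : ℕ) ≤ 1 then Equiv.neg (ZMod p) else 1

theorem negTwo_mul_self (k p : ℕ) : negTwo k p * negTwo k p = 1 := by
  ext ⟨i, x⟩ <;> by_cases h : (i : ℕ) ≤ 1 <;> simp [negTwo, h]

theorem sign_negTwo {k p : ℕ} [NeZero p] (hk : 2 ≤ k) : Equiv.Perm.sign (negTwo k p) = 1 := by
  obtain ⟨k, rfl⟩ : ∃ j, k = j + 2 := ⟨k - 2, by omega⟩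
  rw [negTwo, Equiv.Perm.sign_prodCongrRight, Fin.prod_univ_succ, Fin.prod_univ_succ,
    Finset.prod_eq_one (fun i _ => by simp), mul_one]
  simp only [Fin.val_zero, Fin.val_succ, zero_add, if_pos, le_refl, Nat.zero_le]
  exact Int.units_mul_self _

/-- For `p` odd and `2 ≤ n / p`, `n < p ^ 2` some Sylow subgroup has an inverting involution. -/
theorem exists_sylow_inverting {n p : ℕ} [hp : Fact p.Prime] (hp2 : p ≠ 2) (hn : n < p ^ 2)
    (hk : 2 ≤ n / p) :
    ∃ (Q : Sylow p (alternatingGroup (Fin n))) (t : alternatingGroup (Fin n)),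
      t * t = 1 ∧ (∀ x ∈ (Q : Subgroup (alternatingGroup (Fin n))), t * x * t⁻¹ ∈ Q) ∧
        t ∉ Subgroup.centralizer ((Q : Subgroup (alternatingGroup (Fin n))) : Set _) := by
  classical
  set k := n / p with hkdef
  have hn2 : 2 ≤ n := hk.trans (Nat.div_le_self n p)
  obtain ⟨e⟩ : Nonempty (Fin k × ZMod p ↪ Fin n) :=
    Function.Embedding.nonempty_of_card_le (by simp [hkdef, Nat.div_mul_le_self])
  let f : Fin k × ZMod p ≃ Set.range e := Equiv.ofInjective e e.injective
  let E : Equiv.Perm (Fin k × ZMod p) →* Equiv.Perm (Fin n) := Equiv.Perm.extendDomainHom f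
  have hE : Function.Injective E := Equiv.Perm.extendDomainHom_injective f
  have hsign : ∀ σ, Equiv.Perm.sign (E σ) = Equiv.Perm.sign σ := fun σ =>
    Equiv.Perm.sign_extendDomain σ f
  have hodd : Odd p := hp.out.odd_of_ne_two hp2
  have hs : ∀ v, E (shift k p v) ∈ alternatingGroup (Fin n) := fun v => by
    rw [Equiv.Perm.mem_alternatingGroup, hsign]
    have h1 : Equiv.Perm.sign (shift k p v) ^ p = 1 := by
      rw [← map_pow, ← map_pow, show v ^ p = 1 from ?_, map_one, map_one]
      apply Multiplicative.toAdd.injective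
      funext i
      simp
    rcases Int.units_eq_one_or (Equiv.Perm.sign (shift k p v)) with h | h
    · exact h
    · rw [h, hodd.neg_one_pow] at h1
      exact absurd h1 (by decide)
  let φ : Multiplicative (Fin k → ZMod p) →* alternatingGroup (Fin n) :=
    (E.comp (shift k p)).codRestrict _ hs
  have hφ : Function.Injective φ := by
    intro v w h
    have h' : shift k p v = shift k p w := hE (congrArg Subtype.val h)
    apply Multiplicative.toAdd.injective
    funext i
    have := congrArg Prod.snd (congrFun (congrArg DFunLike.coe h') (i, 0))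
    simpa [shift_apply] using this
  have hcard : Nat.card φ.range = p ^ Nat.factorization (Nat.card (alternatingGroup (Fin n))) p := by
    rw [← Nat.card_congr (MonoidHom.ofInjective hφ).toEquiv,
      ← (default : Sylow p (alternatingGroup (Fin n))).card_eq_multiplicity, card_sylow_alt' hn2,
      val_of_lt_sq hn, padicValNat_primes hp2, Nat.sub_zero, Nat.card_congr Multiplicative.toAdd,
      Nat.card_fun, Nat.card_zmod, Nat.card_fin]
  let t : alternatingGroup (Fin n) := ⟨E (negTwo k p), by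
    rw [Equiv.Perm.mem_alternatingGroup, hsign, sign_negTwo hk]⟩
  have ht : t * t = 1 := Subtype.ext (by
    show E (negTwo k p) * E (negTwo k p) = 1
    rw [← map_mul, negTwo_mul_self, map_one])
  have ht' : t⁻¹ = t := inv_eq_of_mul_eq_one_right ht
  have hconj : ∀ v, ∃ w, t * φ v * t⁻¹ = φ w ∧
      ∀ i, w.toAdd i = if (i : ℕ) ≤ 1 then -v.toAdd i else v.toAdd i := fun v => by
    refine ⟨Multiplicative.ofAdd fun i => if (i : ℕ) ≤ 1 then -v.toAdd i else v.toAdd i, ?_,
      fun i => rfl⟩
    rw [ht']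
    refine Subtype.ext ?_
    show E (negTwo k p) * E (shift k p v) * E (negTwo k p) = E (shift k p _)
    rw [← map_mul, ← map_mul]
    congr 1
    ext ⟨i, x⟩ <;> by_cases h : (i : ℕ) ≤ 1 <;>
      simp [negTwo, shift_apply, h, Equiv.Perm.mul_apply, add_comm]
  refine ⟨Sylow.ofCard φ.range hcard, t, ht, ?_, ?_⟩
  · intro x hx
    change x ∈ φ.range at hx
    obtain ⟨v, rfl⟩ := hx
    obtain ⟨w, hw, -⟩ := hconj v
    show t * φ v * t⁻¹ ∈ φ.range
    exact ⟨w, hw.symm⟩
  · intro hC
    have i₀ : Fin k := ⟨0, by omega⟩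
    obtain ⟨w, hw, hw'⟩ := hconj (Multiplicative.ofAdd fun _ => (1 : ZMod p))
    have hmem : φ (Multiplicative.ofAdd fun _ => (1 : ZMod p)) ∈
        ((Sylow.ofCard φ.range hcard : Sylow p _) : Subgroup (alternatingGroup (Fin n))) :=
      ⟨_, rfl⟩
    have hcomm := Subgroup.mem_centralizer_iff.mp hC _ hmem
    rw [← hcomm, mul_inv_cancel_right] at hw
    have h := hw' ⟨0, by omega⟩
    rw [← hφ hw] at h
    simp only [toAdd_ofAdd, zero_le, if_pos] at h
    have h2 : ((2 : ℕ) : ZMod p) = 0 := by push_cast; linear_combination h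
    rw [ZMod.natCast_eq_zero_iff] at h2
    exact hp2 ((Nat.prime_dvd_prime_iff_eq hp.out Nat.prime_two).mp h2)

/-- `A_n` with `n ≥ 6` has a non-abelian 2-subgroup. -/
theorem exists_nonabelian_two {n : ℕ} (hn : 6 ≤ n) :
    ∃ H : Subgroup (alternatingGroup (Fin n)), IsPGroup 2 H ∧
      ∃ x ∈ H, ∃ y ∈ H, x * y ≠ y * x := by
  let z : alternatingGroup (Fin 6) :=
    ⟨Equiv.swap 0 2 * Equiv.swap 1 3, Equiv.Perm.mem_alternatingGroup.mpr (by decide +kernel)⟩
  let x : alternatingGroup (Fin 6) :=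
    ⟨Equiv.swap 0 1 * Equiv.swap 2 3, Equiv.Perm.mem_alternatingGroup.mpr (by decide +kernel)⟩
  let y : alternatingGroup (Fin 6) :=
    ⟨Equiv.swap 0 2 * Equiv.swap 4 5, Equiv.Perm.mem_alternatingGroup.mpr (by decide +kernel)⟩
  let C := Subgroup.centralizer ({z} : Set (alternatingGroup (Fin 6)))
  have hmem : ∀ g, g ∈ C ↔ z * g = g * z := fun g => by
    simp [C, Subgroup.mem_centralizer_iff]
  have h8 : Nat.card C = 2 ^ 3 := by
    rw [Nat.card_congr (Equiv.subtypeEquivRight hmem), Nat.card_eq_fintype_card]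
    decide +kernel
  obtain ⟨e⟩ : Nonempty (Fin 6 ↪ Fin n) := Function.Embedding.nonempty_of_card_le (by simpa using hn)
  let E : Equiv.Perm (Fin 6) →* Equiv.Perm (Fin n) :=
    Equiv.Perm.extendDomainHom (Equiv.ofInjective e e.injective)
  let φ : alternatingGroup (Fin 6) →* alternatingGroup (Fin n) :=
    (E.comp (alternatingGroup (Fin 6)).subtype).codRestrict _ fun g => by
      rw [Equiv.Perm.mem_alternatingGroup]
      exact (Equiv.Perm.sign_extendDomain _ _).trans (Equiv.Perm.mem_alternatingGroup.mp g.2)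
  have hφ : Function.Injective φ := fun a b h =>
    Subtype.ext (Equiv.Perm.extendDomainHom_injective _ (congrArg Subtype.val h))
  refine ⟨C.map φ, (IsPGroup.of_card h8).map φ, φ x, ⟨x, ?_, rfl⟩, φ y, ⟨y, ?_, rfl⟩, fun h => ?_⟩
  · rw [SetLike.mem_coe, hmem]; decide +kernel
  · rw [SetLike.mem_coe, hmem]; decide +kernel
  · rw [← map_mul, ← map_mul] at h
    exact absurd (hφ h) (by decide +kernel)

end CfsgLib.KnownA.AltSylow
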