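import Cfsg.Agent.Lib.KnownA.MathieuData
import Cfsg.Prelude.Def_KGroupFacts
import Mathlib.GroupTheory.Sylow

/-!
Automorphisms of `M23` and `M24`: every automorphism fixes, up to inner ones, an element of order 23
up to inversion and its normaliser; what is left is refuted by one relation.
-/

set_option autoImplicit false
set_option maxRecDepth 100000

namespace CfsgLib.KnownA.Mathieu

open CfsgLib.Golay Cfsg

theorem sq_cases : ∀ k < 23, k ≠ 0 → ∃ j < 11, k * 2 ^ j % 23 = 1 ∨ k * 2 ^ j % 23 = 22 := by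
  decide +kernel

theorem Out_card_eq_one {G : Type*} [Group G] (h : ∀ φ : MulAut G, ∃ g : G, φ = MulAut.conj g) :
    Nat.card (Cfsg.Out G) = 1 := by
  rw [Nat.card_eq_one_iff_unique]
  refine ⟨⟨fun x y => ?_⟩, ⟨1⟩⟩
  induction x using QuotientGroup.induction_on with | H a =>
  induction y using QuotientGroup.induction_on with | H b =>
  refine (QuotientGroup.eq).mpr ?_
  obtain ⟨g, hg⟩ := h (a⁻¹ * b)
  exact ⟨g, hg.symm⟩

/-- The criterion. -/
theorem all_inner {G : Type*} [Group G] [Finite G] (A C D : G)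
    (h23 : 23 ∣ Nat.card G) (h23' : ¬ 23 ^ 2 ∣ Nat.card G) (hA : orderOf A = 23)
    (hC : C ^ 11 = 1) (hCA : C * A * C⁻¹ = A ^ 2)
    (hcentA : ∀ x, x * A = A * x → ∃ i, x = A ^ i)
    (hcentC : ∀ x, x * C = C * x → ∃ j, x = C ^ j)
    (hgen : Subgroup.closure ({A, C, D} : Set G) = ⊤)
    {s : ℕ} (hD : D * C * D⁻¹ = C ^ s) {u v o : ℕ} (hrel : (A ^ u * D * C ^ v) ^ o = 1)
    (hno : ∀ e ∈ [1, 22], ∀ m < 11, (e, m) ≠ (1, 0) →
      ((A ^ e) ^ u * (D * C ^ m) * C ^ v) ^ o ≠ 1)
    (φ : MulAut G) : ∃ g : G, φ = MulAut.conj g := by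
  have : Fact (Nat.Prime 23) := ⟨by norm_num⟩
  have hA23 : A ^ 23 = 1 := by rw [← hA]; exact pow_orderOf_eq_one A
  have hpow : ∀ i, A ^ i = A ^ (i % 23) := fun i => pow_eq_pow_mod i hA23
  -- move `φ A` into `⟨A⟩`
  have hsyl : ∀ x : G, orderOf x = 23 → Nat.card (Subgroup.zpowers x) =
      23 ^ (Nat.card G).factorization 23 := by
    intro x hx
    rw [Nat.card_zpowers, hx, show (Nat.card G).factorization 23 = 1 from ?_, pow_one]
    refine le_antisymm ?_ ((by norm_num : Nat.Prime 23).factorization_pos_of_dvd Nat.card_pos.ne' h23)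
    by_contra hc
    exact h23' ((Nat.pow_dvd_pow 23 (not_le.mp hc)).trans (Nat.ordProj_dvd _ _))
  have hφA : orderOf (φ A) = 23 := (MulEquiv.orderOf_eq φ A).trans hA
  obtain ⟨g₁, hg₁⟩ := MulAction.exists_smul_eq G (Sylow.ofCard _ (hsyl _ hφA))
    (Sylow.ofCard _ (hsyl _ hA))
  have hmem : g₁ * φ A * g₁⁻¹ ∈ Subgroup.zpowers A := by
    have h' : g₁ * φ A * g₁⁻¹ ∈
        ((g₁ • Sylow.ofCard (Subgroup.zpowers (φ A)) (hsyl _ hφA) : Sylow 23 G) : Subgroup G) :=
      ⟨φ A, Subgroup.mem_zpowers _, rfl⟩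
    rw [hg₁] at h'
    exact h'
  obtain ⟨k, hk23, hk⟩ : ∃ k < 23, A ^ k = g₁ * φ A * g₁⁻¹ := by
    rw [← mem_powers_iff_mem_zpowers, Submonoid.mem_powers_iff] at hmem
    obtain ⟨k, hk⟩ := hmem
    exact ⟨k % 23, Nat.mod_lt _ (by norm_num), by rw [← hpow]; exact hk⟩
  have hk0 : k ≠ 0 := fun h0 => by
    rw [h0, pow_zero] at hk
    have h1 : φ A = 1 := by
      have := congrArg (fun z => g₁⁻¹ * z * g₁) hk.symm
      simpa [mul_assoc] using this
    rw [h1, orderOf_one] at hφA
    norm_num at hφA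
  -- normalise the exponent
  obtain ⟨j, -, hje⟩ := sq_cases k hk23 hk0
  have hCj : ∀ j i, C ^ j * A ^ i * (C ^ j)⁻¹ = A ^ (i * 2 ^ j) := by
    intro j
    induction j with
    | zero => simp
    | succ j ih =>
      intro i
      have : C * A ^ i * C⁻¹ = A ^ (i * 2) := by
        rw [← conj_pow, hCA, ← pow_mul, mul_comm]
      calc C ^ (j + 1) * A ^ i * (C ^ (j + 1))⁻¹ = C ^ j * (C * A ^ i * C⁻¹) * (C ^ j)⁻¹ := by
            rw [pow_succ]; group
        _ = A ^ (i * 2 ^ (j + 1)) := by rw [this, ih, pow_succ']; ring_nf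
  obtain ⟨e, he, heA⟩ : ∃ e ∈ [1, 22],
      (C ^ j * g₁) * φ A * (C ^ j * g₁)⁻¹ = A ^ e := by
    refine ⟨k * 2 ^ j % 23, by simpa using hje, ?_⟩
    rw [← hpow, ← hCj, hk]; group
  set h₁ := C ^ j * g₁ with hh₁
  -- the image of `C`
  have hψ : ∀ x y : G, h₁ * φ (x * y) * h₁⁻¹ = (h₁ * φ x * h₁⁻¹) * (h₁ * φ y * h₁⁻¹) :=
    fun x y => by rw [map_mul]; group
  set C₁ := h₁ * φ C * h₁⁻¹ with hC₁
  have hC₁A : C₁ * A ^ e * C₁⁻¹ = (A ^ e) ^ 2 := by
    have h' := congrArg (fun z => h₁ * φ z * h₁⁻¹) hCA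
    simp only [map_mul, map_inv, map_pow] at h'
    rw [← heA, hC₁, conj_pow]
    rw [← h']; group
  have hee : A ^ (e * e) = A := by
    simp only [List.mem_cons, List.not_mem_nil, or_false] at he
    rcases he with rfl | rfl
    · rw [one_mul, pow_one]
    · rw [hpow]; norm_num
  have hC₁A' : C₁ * A * C₁⁻¹ = A ^ 2 := by
    have h' := congrArg (fun z => z ^ e) hC₁A
    simp only [conj_pow] at h'
    rw [← pow_mul, hee] at h'
    rw [h', ← pow_mul, ← pow_mul, show e * (2 * e) = e * e * 2 by ring, pow_mul, hee]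
  obtain ⟨i, hi⟩ := hcentA (C⁻¹ * C₁) (by
    have h' : C₁ * A * C₁⁻¹ = C * A * C⁻¹ := hC₁A'.trans hCA.symm
    calc C⁻¹ * C₁ * A = C⁻¹ * (C₁ * A * C₁⁻¹) * C₁ := by group
      _ = A * (C⁻¹ * C₁) := by rw [h']; group)
  set h₂ := A ^ (2 * i) * h₁ with hh₂
  have hA₂ : h₂ * φ A * h₂⁻¹ = A ^ e := by
    calc h₂ * φ A * h₂⁻¹ = A ^ (2 * i) * (h₁ * φ A * h₁⁻¹) * (A ^ (2 * i))⁻¹ := by
          rw [hh₂]; group
      _ = A ^ e := by rw [heA]; group
  have hC₂ : h₂ * φ C * h₂⁻¹ = C := by
    have hC1 : C₁ = C * A ^ i := by rw [← hi]; group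
    have hinv : A ^ (2 * i) * C = C * A ^ (i * 24) := by
      have h12 := hCj 1 (i * 24)
      simp only [pow_one] at h12
      rw [hpow (2 * i), show (2 * i) % 23 = i * 24 * 2 % 23 by omega, ← hpow, ← h12]
      group
    calc h₂ * φ C * h₂⁻¹ = A ^ (2 * i) * C₁ * (A ^ (2 * i))⁻¹ := by rw [hh₂, hC₁]; group
      _ = C * (A ^ (i * 24) * A ^ i) * (A ^ (2 * i))⁻¹ := by
          rw [hC1, ← mul_assoc (A ^ (2 * i)), hinv]; group
      _ = C := by
          rw [← pow_add, hpow (i * 24 + i), show (i * 24 + i) % 23 = 2 * i % 23 by omega, ← hpow,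
            mul_inv_cancel_right]
  -- the image of `D`
  have hD₂ : (h₂ * φ D * h₂⁻¹) * C * (h₂ * φ D * h₂⁻¹)⁻¹ = C ^ s := by
    have h' := congrArg (fun z => h₂ * φ z * h₂⁻¹) hD
    simp only [map_mul, map_inv, map_pow, ← conj_pow] at h'
    rw [hC₂] at h'
    rw [← h']
    conv_lhs => rw [← hC₂]
    group
  obtain ⟨m, hm⟩ := hcentC (D⁻¹ * (h₂ * φ D * h₂⁻¹)) (by
    have h' : (h₂ * φ D * h₂⁻¹) * C * (h₂ * φ D * h₂⁻¹)⁻¹ = D * C * D⁻¹ := hD₂.trans hD.symm
    calc D⁻¹ * (h₂ * φ D * h₂⁻¹) * C = D⁻¹ * ((h₂ * φ D * h₂⁻¹) * C * (h₂ * φ D * h₂⁻¹)⁻¹) *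
          (h₂ * φ D * h₂⁻¹) := by group
      _ = C * (D⁻¹ * (h₂ * φ D * h₂⁻¹)) := by rw [h']; group)
  have hDm : h₂ * φ D * h₂⁻¹ = D * C ^ (m % 11) := by
    rw [← pow_eq_pow_mod m hC, ← hm]; group
  let ψ : G →* G := ((MulAut.conj h₂).toMonoidHom).comp φ.toMonoidHom
  have hψA : ψ A = A ^ e := hA₂
  have hψC : ψ C = C := hC₂
  have hψD : ψ D = D * C ^ (m % 11) := hDm
  have hem : (e, m % 11) = (1, 0) := by
    by_contra hne
    apply hno e he (m % 11) (Nat.mod_lt _ (by norm_num)) hne
    have h' := congrArg ψ hrel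
    rw [map_pow, map_mul, map_mul, map_pow, map_pow, map_one, hψA, hψC, hψD] at h'
    exact h'
  simp only [Prod.mk.injEq] at hem
  have hid : ψ = MonoidHom.id G := by
    refine MonoidHom.eq_of_eqOn_dense hgen ?_
    intro x hx
    simp only [Set.mem_insert_iff, Set.mem_singleton_iff] at hx
    rcases hx with rfl | rfl | rfl
    · rw [hψA, hem.1, pow_one]; rfl
    · exact hψC
    · rw [hψD, hem.2, pow_zero, mul_one]; rfl
  refine ⟨h₂⁻¹, MulEquiv.ext fun x => ?_⟩
  have hx : h₂ * φ x * h₂⁻¹ = x := DFunLike.congr_fun hid x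
  rw [MulAut.conj_apply, inv_inv]
  conv_rhs => rw [← hx]
  group

/-! ### Evaluation of words -/

/-- The image of a point number under a product of encoded permutations. -/
def actW : List ℕ → ℕ → ℕ
  | [], i => i
  | g :: L, i => img g (actW L i)

theorem actW_spec : ∀ {L : List ℕ}, (∀ g ∈ L, valid g = true) → ∀ {i : ℕ}, i < 24 →
    (L.map permOf).prod (pt i) = pt (actW L i) ∧ actW L i < 24
  | [], _, i, hi => ⟨rfl, hi⟩
  | g :: L, h, i, hi => by
    obtain ⟨h1, h2⟩ := actW_spec (L := L) (fun x hx => h x (List.mem_cons_of_mem _ hx)) hi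
    refine ⟨?_, valid_lt (h g (List.mem_cons_self ..)) h2⟩
    rw [List.map_cons, List.prod_cons, Equiv.Perm.mul_apply, h1,
      permOf_pt (h g (List.mem_cons_self ..)) h2]
    rfl

/-- Two words act alike. -/
def eqW (L L' : List ℕ) : Bool := (List.range 24).all fun i => Nat.beq (actW L i) (actW L' i)

theorem eqW_sound {L L' : List ℕ} (h : (L ++ L').all valid = true) (he : eqW L L' = true) :
    (L.map permOf).prod = (L'.map permOf).prod := by
  rw [List.all_eq_true] at h
  simp only [eqW, List.all_eq_true] at he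
  refine Equiv.ext fun q => ?_
  rw [← pt_idx q, (actW_spec (fun g hg => h g (List.mem_append_left _ hg)) (idx_lt q)).1,
    (actW_spec (fun g hg => h g (List.mem_append_right _ hg)) (idx_lt q)).1,
    Nat.eq_of_beq_eq_true (he _ (List.mem_range.2 (idx_lt q)))]

/-- Two words act differently. -/
theorem neW_sound {L L' : List ℕ} (h : (L ++ L').all valid = true)
    (he : eqW L L' = false) : (L.map permOf).prod ≠ (L'.map permOf).prod := by
  intro heq
  rw [List.all_eq_true] at h
  have : eqW L L' = true := by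
    simp only [eqW, List.all_eq_true, List.mem_range]
    intro i hi
    obtain ⟨h1, h1'⟩ := actW_spec (fun g hg => h g (List.mem_append_left _ hg)) hi
    obtain ⟨h2, h2'⟩ := actW_spec (fun g hg => h g (List.mem_append_right _ hg)) hi
    rw [heq, h2] at h1
    have := congrArg idx h1
    rw [idx_pt h1', idx_pt h2'] at this
    rw [this]
    exact Nat.beq_refl _
  rw [he] at this
  exact Bool.false_ne_true this

/-! ### The centralisers of the two elements -/

theorem valid_A : valid codeA = true := by decide +kernel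
theorem valid_C : valid codeC = true := by decide +kernel
theorem inM_A : inFix X23 codeA = true := by decide +kernel
theorem inM_C : inFix X23 codeC = true := by decide +kernel

theorem iter_A : ∀ i < 23, imgIter codeA i 0 = i := by decide +kernel

/-- The centraliser of `x ↦ x + 1` among all permutations. -/
theorem cent_A (σ : Equiv.Perm GolayPt) (h : σ * permOf codeA = permOf codeA * σ) :
    ∃ i, σ = permOf codeA ^ i := by
  have hfix : permOf codeA (pt 23) = pt 23 := by
    rw [permOf_pt valid_A (by norm_num)]; exact congrArg pt (by decide +kernel)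
  have hmov : ∀ i < 23, img codeA i ≠ i := by decide +kernel
  have hσ23 : σ (pt 23) = pt 23 := by
    have h' := congrArg (fun τ : Equiv.Perm GolayPt => τ (pt 23)) h
    simp only [Equiv.Perm.mul_apply, hfix] at h'
    by_contra hne
    have hlt : idx (σ (pt 23)) < 23 := by
      have := idx_lt (σ (pt 23))
      rcases Nat.lt_or_ge (idx (σ (pt 23))) 23 with h'' | h''
      · exact h''
      · exfalso; apply hne
        rw [← pt_idx (σ (pt 23)), show idx (σ (pt 23)) = 23 by omega]
    apply hmov _ hlt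
    have := congrArg idx h'
    rw [permOf_apply valid_A, idx_pt (valid_lt valid_A (idx_lt _))] at this
    exact this.symm
  refine ⟨idx (σ (pt 0)), Equiv.ext fun q => ?_⟩
  rw [← pt_idx q]
  have hq := idx_lt q
  generalize idx q = i at hq
  rcases Nat.lt_or_ge i 23 with hi | hi
  · have e : (permOf codeA ^ i) (pt 0) = pt i := by
      rw [(imgIter_spec valid_A i (by norm_num)).1, iter_A i hi]
    have hlt : idx (σ (pt 0)) < 23 := by
      have := idx_lt (σ (pt 0))
      rcases Nat.lt_or_ge (idx (σ (pt 0))) 23 with h'' | h''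
      · exact h''
      · exfalso
        have h23 : σ (pt 0) = σ (pt 23) := by
          rw [hσ23, ← pt_idx (σ (pt 0)), show idx (σ (pt 0)) = 23 by omega]
        have := congrArg idx (σ.injective h23)
        rw [idx_pt (by norm_num), idx_pt (by norm_num)] at this
        norm_num at this
    have e' : (permOf codeA ^ idx (σ (pt 0))) (pt 0) = σ (pt 0) := by
      rw [(imgIter_spec valid_A _ (by norm_num)).1, iter_A _ hlt, pt_idx]
    have hc : σ * permOf codeA ^ i = permOf codeA ^ i * σ := (Commute.pow_right h i).eq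
    rw [← e, ← Equiv.Perm.mul_apply, hc, Equiv.Perm.mul_apply]
    generalize idx (σ (pt 0)) = j at e' ⊢
    rw [← e', ← Equiv.Perm.mul_apply, ← Equiv.Perm.mul_apply, ← pow_add, ← pow_add, add_comm]
  · rw [show i = 23 by omega, hσ23]
    exact (Equiv.Perm.pow_apply_eq_self_of_apply_eq_self hfix _).symm

/-- Encode a function on the point numbers. -/
def encFun : ℕ → (ℕ → ℕ) → ℕ
  | 0, _ => 0
  | n + 1, f => f 0 + 32 * encFun n (fun i => f (i + 1))

theorem img_encFun : ∀ {n : ℕ} {f : ℕ → ℕ}, (∀ i < n, f i < 32) → ∀ i < n, img (encFun n f) i = f i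
  | 0, f, _, i, hi => absurd hi (Nat.not_lt_zero i)
  | n + 1, f, hf, i, hi => by
    show ((f 0 + 32 * encFun n fun j => f (j + 1)) >>> (5 * i)) &&& 31 = f i
    rw [show (31 : ℕ) = 2 ^ 5 - 1 by norm_num, Nat.and_two_pow_sub_one_eq_mod,
      Nat.shiftRight_eq_div_pow]
    have h0 := hf 0 (Nat.succ_pos n)
    rcases i with _ | i
    · simp only [Nat.mul_zero, pow_zero, Nat.div_one]; omega
    · have ih := img_encFun (n := n) (f := fun j => f (j + 1)) (fun j hj => hf (j + 1) (by omega)) i (by omega)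
      rw [show (2 : ℕ) ^ (5 * (i + 1)) = 32 * 2 ^ (5 * i) by rw [Nat.mul_succ, pow_add]; ring,
        ← Nat.div_div_eq_div_mul, show (f 0 + 32 * encFun n fun j => f (j + 1)) / 32 =
          encFun n fun j => f (j + 1) by omega]
      rw [← Nat.shiftRight_eq_div_pow, ← Nat.and_two_pow_sub_one_eq_mod]
      exact ih

theorem inM24_complete {g : ℕ} (hv : valid g = true) (h : permOf g ∈ M24) : inM24 g = true := by
  simp only [inM24, Bool.and_eq_true, List.all_eq_true]
  refine ⟨hv, fun x hx => ?_⟩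
  have hx' : isCode x = true ∧ x < 16777216 := by
    have hh : ∀ x ∈ gens, isCode x = true ∧ x < 16777216 := by decide +kernel
    exact hh x hx
  rw [← mset_mem_supports_iff (mimg_lt hv x), ← smul_mset hv]
  exact mem_M24_iff.1 h _ ((mset_mem_supports_iff hx'.2).2 hx'.1)

/-- Base point of an orbit of `x ↦ 2 x`. -/
def rep (i : ℕ) : ℕ :=
  if i = 0 ∨ i = 23 then i else if (List.range 11).any (fun e => imgIter codeC e 1 == i) then 1 else 5

/-- Exponent carrying the base point to `i`. -/
def expo (i : ℕ) : ℕ := ((List.range 11).find? fun e => imgIter codeC e (rep i) == i).getD 0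

theorem rep_expo : ∀ i < 24, imgIter codeC (expo i) (rep i) = i ∧
    (rep i = 0 ∨ rep i = 23 ∨ rep i = 1 ∨ rep i = 5) := by decide +kernel

theorem fixed_C : ∀ i < 24, img codeC i = i → i = 0 ∨ i = 23 := by decide +kernel

/-- The permutation commuting with `x ↦ 2 x` with given values at the base points, as a code. -/
def commCode (y0 y23 y1 y5 : ℕ) : ℕ :=
  encFun 24 fun i => imgIter codeC (expo i)
    (if rep i = 0 then y0 else if rep i = 23 then y23 else if rep i = 1 then y1 else y5)

/-- The candidates in `M24` are powers of `x ↦ 2 x`. -/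
def commOK (y0 y23 : ℕ) : Bool :=
  (List.range 24).all fun y1 => (List.range 24).all fun y5 =>
    !inM24 (commCode y0 y23 y1 y5) || (List.range 11).any fun e =>
      (List.range 24).all fun i => img (commCode y0 y23 y1 y5) i == imgIter codeC e i

theorem commOK_all : ∀ y0 ∈ [0, 23], ∀ y23 ∈ [0, 23], commOK y0 y23 = true := by decide +kernel

/-- The centraliser of `x ↦ 2 x` in `M24`. -/
theorem cent_C (σ : Equiv.Perm GolayPt) (hσ : σ ∈ M24)
    (h : σ * permOf codeC = permOf codeC * σ) : ∃ j, σ = permOf codeC ^ j := by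
  have hy : ∀ i < 24, img codeC i = i → idx (σ (pt i)) ∈ [0, 23] := by
    intro i hi hfix
    have h' := congrArg (fun τ : Equiv.Perm GolayPt => idx (τ (pt i))) h
    simp only [Equiv.Perm.mul_apply, permOf_pt valid_C hi, hfix] at h'
    rw [permOf_apply valid_C, idx_pt (valid_lt valid_C (idx_lt _))] at h'
    rcases fixed_C _ (idx_lt _) h'.symm with h'' | h'' <;> simp [h'']
  set y0 := idx (σ (pt 0)) with hy0
  set y23 := idx (σ (pt 23)) with hy23
  set y1 := idx (σ (pt 1)) with hy1
  set y5 := idx (σ (pt 5)) with hy5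
  have hval : ∀ i < 24, idx (σ (pt i)) = imgIter codeC (expo i)
      (if rep i = 0 then y0 else if rep i = 23 then y23 else if rep i = 1 then y1 else y5) := by
    intro i hi
    obtain ⟨he, hr⟩ := rep_expo i hi
    have hr24 : rep i < 24 := by omega
    have e : (permOf codeC ^ expo i) (pt (rep i)) = pt i := by
      rw [(imgIter_spec valid_C _ hr24).1, he]
    have hc : σ * permOf codeC ^ expo i = permOf codeC ^ expo i * σ := (Commute.pow_right h _).eq
    rw [← e, ← Equiv.Perm.mul_apply, hc, Equiv.Perm.mul_apply]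
    have hval' : σ (pt (rep i)) =
        pt (if rep i = 0 then y0 else if rep i = 23 then y23 else if rep i = 1 then y1 else y5) := by
      rcases hr with hr | hr | hr | hr <;> simp [hr, y0, y23, y1, y5, pt_idx]
    have hlt : (if rep i = 0 then y0 else if rep i = 23 then y23 else if rep i = 1 then y1 else y5)
        < 24 := by
      split_ifs <;> exact idx_lt _
    rw [hval', (imgIter_spec valid_C _ hlt).1, idx_pt (imgIter_spec valid_C _ hlt).2]
  set g := commCode y0 y23 y1 y5 with hg
  have himg : ∀ i < 24, img g i = idx (σ (pt i)) := fun i hi => by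
    rw [hg, commCode, img_encFun (fun i hi => by rw [← hval i hi]; exact (idx_lt _).trans (by norm_num))
      i hi, hval i hi]
  have hv : valid g = true := by
    have : mimg g 16777215 = 16777215 := by
      refine Nat.eq_of_testBit_eq fun j => ?_
      rw [Bool.eq_iff_iff, testBit_mimg, testBit_full, decide_eq_true_iff]
      constructor
      · rintro ⟨i, hi, -, rfl⟩; rw [himg i hi]; exact idx_lt _
      · intro hj
        exact ⟨idx (σ⁻¹ (pt j)), idx_lt _, by rw [testBit_full]; simpa using idx_lt _,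
          by rw [himg _ (idx_lt _), pt_idx, show σ (σ⁻¹ (pt j)) = pt j by simp, idx_pt hj]⟩
    rw [valid, this]; rfl
  have hperm : permOf g = σ := Equiv.ext fun q => by
    rw [permOf_apply hv, himg _ (idx_lt q), pt_idx, pt_idx]
  have hin := inM24_complete hv (hperm ▸ hσ)
  have hok := commOK_all y0 (hy 0 (by norm_num) (by decide +kernel)) y23
    (hy 23 (by norm_num) (by decide +kernel))
  simp only [commOK, List.all_eq_true, List.mem_range, Bool.or_eq_true, List.any_eq_true,
    beq_iff_eq] at hok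
  rcases hok y1 (idx_lt _) y5 (idx_lt _) with hbad | ⟨e, -, he⟩
  · rw [← hg, hin] at hbad; simp at hbad
  · refine ⟨e, Equiv.ext fun q => ?_⟩
    have := (imgIter_spec valid_C e (idx_lt q)).1
    rw [pt_idx] at this
    rw [this, ← he _ (idx_lt q), ← hg, himg _ (idx_lt q), pt_idx, pt_idx]

/-- The common argument for `M23` and `M24`. -/
theorem out_fixMasks {X : List ℕ} {L : List Level} {fin : List (ℕ × ℕ × ℕ)} {ca cc cd : ℕ}
    {init : List ℕ} {ops ops' : List (ℕ × ℕ × ℕ)} {s u v o : ℕ}
    (hcentA : ∀ σ : Equiv.Perm GolayPt, σ * permOf ca = permOf ca * σ → ∃ i, σ = permOf ca ^ i)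
    (hcentC : ∀ σ ∈ M24, σ * permOf cc = permOf cc * σ → ∃ j, σ = permOf cc ^ j)
    (h23 : 23 ∣ Nat.card (fixMasks X)) (h23' : ¬ 23 ^ 2 ∣ Nat.card (fixMasks X))
    (hA : inFix X ca = true) (hC : inFix X cc = true) (hD : inFix X cd = true)
    (hc : chainOK X L fin = true) (hgen : slpOK init ops (chainGens L) = true)
    (hgen' : slpOK [ca, cc, cd] ops' init = true)
    (hA23 : eqW (List.replicate 23 ca) [] = true) (hA1 : eqW [ca] [] = false)
    (hC11 : eqW (List.replicate 11 cc) [] = true)
    (hCA : eqW [cc, ca] [ca, ca, cc] = true)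
    (hDC : eqW [cd, cc] (List.replicate s cc ++ [cd]) = true)
    (hrel : eqW (List.replicate o (List.replicate u ca ++ [cd] ++
      List.replicate v cc)).flatten [] = true)
    (hno : ∀ e ∈ [1, 22], ∀ m < 11, (e, m) ≠ (1, 0) →
      eqW (List.replicate o (List.replicate (e * u) ca ++ [cd] ++
        List.replicate (m + v) cc)).flatten [] = false) :
    Nat.card (Cfsg.Out ↥(fixMasks X)) = 1 := by
  have vA := inFix_valid hA
  have vC := inFix_valid hC
  have vD := inFix_valid hD
  let A : fixMasks X := ⟨permOf ca, inFix_mem hA⟩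
  let C : fixMasks X := ⟨permOf cc, inFix_mem hC⟩
  let D : fixMasks X := ⟨permOf cd, inFix_mem hD⟩
  have hval : ∀ L : List ℕ, (∀ g ∈ L, g = ca ∨ g = cc ∨ g = cd) → L.all valid = true := by
    intro L hL
    rw [List.all_eq_true]
    intro g hg
    rcases hL g hg with rfl | rfl | rfl <;> assumption
  have vall : ∀ a b n, ((List.replicate n (List.replicate a ca ++ [cd] ++
      List.replicate b cc)).flatten ++ ([] : List ℕ)).all valid = true := fun a b n => hval _
    fun g hg => by
      simp only [List.append_nil, List.mem_flatten, List.mem_replicate] at hg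
      obtain ⟨l, ⟨-, rfl⟩, hg⟩ := hg
      simp only [List.mem_append, List.mem_replicate, List.mem_singleton] at hg
      tauto
  have hword : ∀ a b n, ((List.replicate n (List.replicate a ca ++ [cd] ++
      List.replicate b cc)).flatten.map permOf).prod =
        (((A ^ a * D * C ^ b) ^ n : fixMasks X) : Equiv.Perm GolayPt) := by
    intro a b n
    rw [List.map_flatten, List.prod_flatten, List.map_map, List.map_replicate, List.prod_replicate]
    simp [A, C, D, mul_assoc]
  refine Out_card_eq_one (all_inner A C D h23 h23' ?_ ?_ ?_ ?_ ?_ ?_ (s := s) ?_ (u := u) (v := v)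
    (o := o) ?_ ?_)
  · have : Fact (Nat.Prime 23) := ⟨by norm_num⟩
    refine orderOf_eq_prime (Subtype.ext ?_) fun h1 => ?_
    · have := eqW_sound (hval _ (by simp)) hA23
      rw [List.map_replicate, List.prod_replicate] at this
      simpa [A] using this
    · refine neW_sound (hval _ (by simp)) hA1 ?_
      have := congrArg Subtype.val h1
      simpa [A] using this
  · refine Subtype.ext ?_
    have := eqW_sound (hval _ (by simp)) hC11
    rw [List.map_replicate, List.prod_replicate] at this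
    simpa [C] using this
  · rw [mul_inv_eq_iff_eq_mul, pow_two]
    refine Subtype.ext ?_
    have := eqW_sound (hval _ (by simp)) hCA
    simpa [A, C, mul_assoc] using this
  · intro x hx
    obtain ⟨i, hi⟩ := hcentA (x : Equiv.Perm GolayPt) (congrArg Subtype.val hx)
    exact ⟨i, Subtype.ext (by rw [hi]; rfl)⟩
  · intro x hx
    obtain ⟨i, hi⟩ := hcentC (x : Equiv.Perm GolayPt) x.2.1 (congrArg Subtype.val hx)
    exact ⟨i, Subtype.ext (by rw [hi]; rfl)⟩
  · rw [eq_top_iff, ← Subgroup.map_subtype_le_map_subtype, MonoidHom.map_closure]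
    refine (Subgroup.map_le_range _ _).trans ?_
    rw [Subgroup.range_subtype]
    refine fixMasks_le_of_gens hc (slpOK_sound (fun g hg => slpOK_sound (fun g' hg' => ?_) hgen' g hg) hgen)
    refine Subgroup.subset_closure ?_
    simp only [List.mem_cons, List.not_mem_nil, or_false] at hg'
    rcases hg' with rfl | rfl | rfl
    · exact ⟨A, by simp, rfl⟩
    · exact ⟨C, by simp, rfl⟩
    · exact ⟨D, by simp, rfl⟩
  · rw [mul_inv_eq_iff_eq_mul]
    refine Subtype.ext ?_
    have := eqW_sound (hval _ (by intro g hg; simp [List.mem_replicate] at hg ⊢; tauto)) hDC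
    simpa [C, D] using this
  · refine Subtype.ext ?_
    rw [← hword]
    exact eqW_sound (vall _ _ _) hrel
  · intro e he m hm hne h1
    refine neW_sound (vall _ _ _) (hno e he m hm hne) ?_
    rw [hword]
    have : (A ^ (e * u) * D * C ^ (m + v)) = (A ^ e) ^ u * (D * C ^ m) * C ^ v := by
      rw [← pow_mul, pow_add]; simp only [mul_assoc]
    rw [this, h1]; rfl

theorem out_M23 : Nat.card (Cfsg.Out ↥Spor.M23) = 1 := by
  rw [sporM23_eq]
  exact out_fixMasks (ca := codeA) (cc := codeC) (cd := codeD23) (ops' := ops23) (s := 3) (u := 5) (v := 7) (o := 5) cent_A cent_C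
    (by rw [card_fix23]; norm_num) (by rw [card_fix23]; norm_num) inM_A inM_C (by decide +kernel)
    chain23 M23gen_ok (by decide +kernel) (by decide +kernel) (by decide +kernel) (by decide +kernel)
    (by decide +kernel) (by decide +kernel) (by decide +kernel) (by decide +kernel)

theorem out_M24 : Nat.card (Cfsg.Out ↥M24) = 1 := by
  rw [← fixMasks_nil]
  exact out_fixMasks (ca := codeA) (cc := codeC) (cd := codeD24) (ops' := ops24) (s := 2) (u := 5) (v := 10) (o := 4) cent_A cent_C
    (by rw [fixMasks_nil, card_M24]; norm_num) (by rw [fixMasks_nil, card_M24]; norm_num)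
    (by decide +kernel) (by decide +kernel) (by decide +kernel)
    chainM24_ok M24gen_ok (by decide +kernel) (by decide +kernel) (by decide +kernel)
    (by decide +kernel) (by decide +kernel) (by decide +kernel) (by decide +kernel) (by decide +kernel)

end CfsgLib.KnownA.Mathieu
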