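import Cfsg.Agent.Lib.KnownA.Stem
import Cfsg.Agent.Lib.Coprime.Schur
import Mathlib.Data.List.GetD

/-!
Certificates that a central extension with elementary abelian `p`-kernel splits over a Sylow
`p`-subgroup given by a polycyclic presentation, using invariance under a few conjugations.
By transfer such a stem extension is then trivial.
-/

set_option autoImplicit false

namespace CfsgLib.KnownA.SchurCert

open Subgroup
open scoped commutatorElement

universe u

/-- Operations on exponent vectors. -/
structure Ops (V : Type) where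
  zero : V
  add : V → V → V
  unit : ℕ → V
  beq : V → V → Bool

/-- Evaluation of exponent vectors. -/
structure Ev {V : Type} (o : Ops V) {K : Type*} [CommGroup K] (nt : ℕ) (τ : ℕ → K) where
  ev : V → K
  ev_zero : ev o.zero = 1
  ev_add : ∀ a b, ev (o.add a b) = ev a * ev b
  ev_unit : ∀ r < nt, ev (o.unit r) = τ r
  ev_mem : ∀ W : Subgroup K, (∀ r < nt, τ r ∈ W) → ∀ a, ev a ∈ W
  beq_eq : ∀ a b, o.beq a b = true → ev a = ev b

/-- Bit vectors. -/
def bitOps : Ops ℕ := ⟨0, Nat.xor, fun r => Nat.shiftLeft 1 r, Nat.beq⟩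

/-- Bit vectors evaluate homomorphically in exponent `2`. -/
noncomputable def bitEv {K : Type*} [CommGroup K] (nt : ℕ) (τ : ℕ → K) (h : ∀ x : K, x ^ 2 = 1) :
    Ev bitOps nt τ where
  ev a := ∏ r ∈ Finset.range nt, τ r ^ (a.testBit r).toNat
  ev_zero := by simp [bitOps]
  ev_add a b := by
    rw [← Finset.prod_mul_distrib]
    refine Finset.prod_congr rfl fun r _ => ?_
    show τ r ^ ((a ^^^ b).testBit r).toNat = _
    rw [Nat.testBit_xor]
    cases a.testBit r <;> cases b.testBit r <;> simp [← pow_two, h]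
  ev_unit r hr := by
    show ∏ i ∈ Finset.range nt, τ i ^ ((1 <<< r).testBit i).toNat = τ r
    rw [Finset.prod_eq_single r]
    · simp [Nat.one_shiftLeft]
    · intro i _ hi
      simp [Nat.one_shiftLeft, Nat.testBit_two_pow, Ne.symm hi]
    · intro h'; exact absurd (Finset.mem_range.2 hr) h'
  ev_mem W h' a := prod_mem fun r hr => pow_mem (h' r (Finset.mem_range.1 hr)) _
  beq_eq a b hab := by rw [Nat.eq_of_beq_eq_true hab]

/-- Lists of exponents modulo `p`. -/
def modOps (p nt : ℕ) : Ops (List ℕ) :=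
  ⟨[], fun a b => (List.range nt).map fun i => (a.getD i 0 + b.getD i 0) % p,
    fun r => (List.range nt).map fun i => bif Nat.beq i r then 1 else 0,
    fun a b => (List.range nt).all fun i => Nat.beq (a.getD i 0 % p) (b.getD i 0 % p)⟩

/-- Exponent vectors evaluate homomorphically in exponent `p`. -/
noncomputable def modEv {K : Type*} [CommGroup K] (p nt : ℕ) (τ : ℕ → K)
    (h : ∀ x : K, x ^ p = 1) : Ev (modOps p nt) nt τ where
  ev a := ∏ r ∈ Finset.range nt, τ r ^ a.getD r 0
  ev_zero := by simp [modOps]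
  ev_add a b := by
    rw [← Finset.prod_mul_distrib]
    refine Finset.prod_congr rfl fun r hr => ?_
    rw [← pow_add, pow_eq_pow_mod (a.getD r 0 + b.getD r 0) (h (τ r))]
    simp [modOps, List.getD_eq_getElem?_getD, Finset.mem_range.1 hr]
  ev_unit r hr := by
    have key : ∀ i < nt, ((modOps p nt).unit r).getD i 0 = bif Nat.beq i r then 1 else 0 := by
      intro i hi
      simp [modOps, List.getD_eq_getElem?_getD, hi]
    rw [Finset.prod_eq_single r]
    · rw [key r hr, Nat.beq_refl]; simp
    · intro i hi hne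
      rw [key i (Finset.mem_range.1 hi)]
      cases hb : Nat.beq i r
      · simp
      · exact absurd (Nat.eq_of_beq_eq_true hb) hne
    · intro h'; exact absurd (Finset.mem_range.2 hr) h'
  ev_mem W h' a := prod_mem fun r hr => pow_mem (h' r (Finset.mem_range.1 hr)) _
  beq_eq a b hab := Finset.prod_congr rfl fun r hr => by
    simp only [modOps, List.all_eq_true, List.mem_range] at hab
    rw [pow_eq_pow_mod (a.getD r 0) (h (τ r)), pow_eq_pow_mod (b.getD r 0) (h (τ r)),
      Nat.eq_of_beq_eq_true (hab r (Finset.mem_range.1 hr))]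

/-- The certificate. States `s < N` are normal forms, letters `i < n` are generators. -/
structure Cert (V : Type) where
  p : ℕ
  n : ℕ
  N : ℕ
  word : ℕ → List ℕ
  act : ℕ → ℕ → ℕ
  rels : List (List ℕ × List ℕ)
  defn : List (Option ℕ)
  per : List ℕ
  msk : ℕ → ℕ → V
  just : ℕ → ℕ → ℕ × ℕ × ℕ
  rank : ℕ → ℕ → ℕ
  cons : List (ℕ × ℕ)
  conj : List (List (ℕ × ℕ) × List (ℕ × ℕ × ℕ))
  final : List (List (ℕ × ℕ))

variable {V : Type} (o : Ops V) (C : Cert V)

/-- The end of a path. -/
def Cert.walk : ℕ → List ℕ → ℕ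
  | s, [] => s
  | s, i :: w => Cert.walk (C.act s i) w

/-- The vector of a path. -/
def Cert.wvec : ℕ → List ℕ → V
  | _, [] => o.zero
  | s, i :: w => o.add (C.msk s i) (Cert.wvec (C.act s i) w)

/-- The edges of a path come early. -/
def Cert.below (rk : ℕ) : ℕ → List ℕ → Bool
  | _, [] => true
  | s, i :: w => Nat.blt (C.rank s i) rk && Cert.below rk (C.act s i) w

/-- The multiple of a vector. -/
def smulV : ℕ → V → V
  | 0, _ => o.zero
  | k + 1, v => o.add v (smulV k v)

/-- The side containing the edge and the other one. -/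
def Cert.sides (r pos : ℕ) : List ℕ × List ℕ × Bool :=
  bif Nat.blt pos (C.rels.getD r ([], [])).1.length then
    ((C.rels.getD r ([], [])).1, (C.rels.getD r ([], [])).2, true)
  else ((C.rels.getD r ([], [])).2, (C.rels.getD r ([], [])).1, false)

/-- The position in that side. -/
def Cert.pos' (r pos : ℕ) : ℕ :=
  bif Nat.blt pos (C.rels.getD r ([], [])).1.length then pos
  else pos - (C.rels.getD r ([], [])).1.length

/-- A derived edge. -/
def Cert.derived (s i r s0 pos : ℕ) : Bool :=
  let w := (C.sides r pos).1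
  let v := (C.sides r pos).2.1
  let k := C.pos' r pos
  let pre := w.take k
  let post := w.drop (k + 1)
  let tot := o.add (C.wvec o s0 pre) (o.add (C.msk s i) (C.wvec o (C.act s i) post))
  Nat.blt r C.rels.length && Nat.blt s0 C.N && Nat.blt k w.length && Nat.beq (w.getD k 0) i &&
    C.below (C.rank s i) s0 pre && C.below (C.rank s i) (C.act s i) post &&
    C.below (C.rank s i) s0 v && Nat.beq (C.walk s0 pre) s &&
    Nat.beq (C.walk (C.act s i) post) (C.walk s0 v) &&
    bif (C.sides r pos).2.2 then o.beq tot (o.add (C.wvec o s0 v) (o.unit r))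
    else o.beq (C.wvec o s0 v) (o.add tot (o.unit r))

/-- One edge. -/
def Cert.edgeOK (s i : ℕ) : Bool :=
  Nat.blt (C.act s i) C.N &&
    bif Nat.beq (C.rank s i) 0 then
      decide (C.word (C.act s i) = C.word s ++ [i]) && o.beq (C.msk s i) o.zero
    else C.derived o s i (C.just s i).1 (C.just s i).2.1 (C.just s i).2.2

/-- All edges. -/
def Cert.edgesOK : Bool :=
  (List.range C.N).all fun s => (List.range C.n).all fun i => C.edgeOK o s i

/-- The presentation. -/
def Cert.presOK (eqv : List ℕ → List ℕ → Bool) : Bool :=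
  Nat.blt 0 C.N && decide (C.word 0 = []) && Nat.beq C.defn.length C.n &&
    ((List.range C.N).all fun s => (C.word s).all fun i => Nat.blt i C.n) &&
    (C.rels.all fun r => r.1.all (fun i => Nat.blt i C.n) && r.2.all (fun i => Nat.blt i C.n) &&
      eqv r.1 r.2) &&
    (List.range C.n).all fun k =>
      match C.defn.getD k none with
      | none => true
      | some r => Nat.blt r C.rels.length &&
          decide ((C.rels.getD r ([], [])).2 = (C.rels.getD r ([], [])).2.dropLast ++ [k]) &&
          (C.rels.getD r ([], [])).1.all (fun i => Nat.blt i k) &&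
          (C.rels.getD r ([], [])).2.dropLast.all (fun i => Nat.blt i k)

/-- The generators act by permutations and only the first state represents `1`. -/
def Cert.injOK (eqv : List ℕ → List ℕ → Bool) : Bool :=
  ((List.range C.n).all fun i => Nat.blt 0 (C.per.getD i 0) &&
    (List.range C.N).all fun s => Nat.beq (C.walk s (List.replicate (C.per.getD i 0) i)) s) &&
  (List.range C.N).all fun s => Nat.beq s 0 || !eqv (C.word s) []

/-- Look up an image. -/
def lookup (l : List (ℕ × ℕ)) (u : ℕ) : ℕ := (List.lookup u l).getD 0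

/-- Total exponent at a key. -/
def expAt (f : ℕ × ℕ × ℕ → ℕ) (l : List (ℕ × ℕ × ℕ)) (x : ℕ) : ℕ :=
  (l.map fun e => bif Nat.beq (f e) x then e.2.2 else 0).sum

/-- One conjugation. -/
def Cert.conjOK (eqv : List ℕ → List ℕ → Bool) (j : ℕ) (im : List (ℕ × ℕ))
    (cb : List (ℕ × ℕ × ℕ)) : Bool :=
  let keys := im.map Prod.fst
  (keys.all fun u => Nat.blt u C.N && Nat.blt (lookup im u) C.N &&
    eqv ((C.n + j) :: C.word u) (C.word (lookup im u) ++ [C.n + j])) &&
  (cb.all fun e => keys.contains e.1 && keys.contains e.2.1 &&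
    keys.contains (C.walk e.1 (C.word e.2.1)) &&
    Nat.beq (C.walk (lookup im e.1) (C.word (lookup im e.2.1)))
      (lookup im (C.walk e.1 (C.word e.2.1)))) &&
  keys.all fun x =>
    Nat.beq ((expAt (fun e => e.1) cb x + expAt (fun e => e.2.1) cb x) % C.p)
      (expAt (fun e => C.walk e.1 (C.word e.2.1)) cb x % C.p)

/-- The two sides of the constraint of a conjugation. -/
def Cert.conjVec (im : List (ℕ × ℕ)) (cb : List (ℕ × ℕ × ℕ)) : V × V :=
  (cb.foldr (fun e t => o.add (smulV o e.2.2 (C.wvec o e.1 (C.word e.2.1))) t) o.zero,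
   cb.foldr (fun e t => o.add (smulV o e.2.2
      (C.wvec o (lookup im e.1) (C.word (lookup im e.2.1)))) t) o.zero)

/-- The constraints. -/
def Cert.constraints : List (V × V) :=
  C.cons.map (fun c => (C.wvec o c.2 (C.rels.getD c.1 ([], [])).1,
    o.add (C.wvec o c.2 (C.rels.getD c.1 ([], [])).2) (o.unit c.1))) ++
  C.conj.map (fun c => C.conjVec o c.1 c.2) ++
  (C.defn.filterMap id).map fun r => (o.unit r, o.zero)

/-- The constraints hold. -/
def Cert.consOK (eqv : List ℕ → List ℕ → Bool) : Bool :=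
  (C.cons.all fun c => Nat.blt c.1 C.rels.length && Nat.blt c.2 C.N &&
    Nat.beq (C.walk c.2 (C.rels.getD c.1 ([], [])).1) (C.walk c.2 (C.rels.getD c.1 ([], [])).2)) &&
  (List.range C.conj.length).all fun j =>
    C.conjOK eqv j (C.conj.getD j ([], [])).1 (C.conj.getD j ([], [])).2

/-- The constraints together with assumed relators `extras`. -/
def Cert.allConstr (extras : List ℕ) : List (V × V) :=
  C.constraints o ++ extras.map fun r => (o.unit r, o.zero)

/-- A combination of constraints is the given vector. -/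
def combOK (L : List (V × V)) (comb : List (ℕ × ℕ)) (u : V) : Bool :=
  o.beq (comb.foldr (fun e t => o.add (smulV o e.2 (L.getD e.1 (o.zero, o.zero)).1) t) o.zero)
    (o.add (comb.foldr (fun e t => o.add (smulV o e.2 (L.getD e.1 (o.zero, o.zero)).2) t) o.zero) u)

/-- The constraints force every relator into the group generated by the relators `extras`. -/
def Cert.finalOK (extras : List ℕ) : Bool :=
  extras.all (fun r => Nat.blt r C.rels.length) &&
  (List.range C.rels.length).all fun r => C.defn.contains (some r) ||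
    combOK o (C.allConstr o extras) (C.final.getD r []) (o.unit r)

/-- The constraints force the `q`-th power of a relator to hold. -/
def Cert.boundOK (r q : ℕ) (comb : List (ℕ × ℕ)) : Bool :=
  Nat.blt r C.rels.length && combOK o (C.constraints o) comb (smulV o q (o.unit r))

variable {o C}

theorem sides_cases (r pos : ℕ) :
    C.sides r pos = ((C.rels.getD r ([], [])).1, (C.rels.getD r ([], [])).2, true) ∨
    C.sides r pos = ((C.rels.getD r ([], [])).2, (C.rels.getD r ([], [])).1, false) := by
  rw [Cert.sides]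
  cases Nat.blt pos (C.rels.getD r ([], [])).1.length
  · exact Or.inr rfl
  · exact Or.inl rfl

theorem walk_append (s : ℕ) (w w' : List ℕ) : C.walk s (w ++ w') = C.walk (C.walk s w) w' := by
  induction w generalizing s with
  | nil => rfl
  | cons i w ih => exact ih _

/-- Powers of a finite closed family of elements. -/
theorem exists_mul_mem_closure {M : Type*} [Group M] [Finite M] (f : ℕ → M) (x : ℕ → M)
    (N n : ℕ) (act : ℕ → ℕ → ℕ) (hact : ∀ s < N, ∀ i < n, act s i < N ∧ f s * x i = f (act s i))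
    {y : M} (hy : y ∈ Subgroup.closure (x '' Set.Iio n)) :
    ∀ s < N, ∃ t < N, f s * y = f t := by
  rw [← Subgroup.mem_toSubmonoid, Subgroup.closure_toSubmonoid_of_finite] at hy
  induction hy using Submonoid.closure_induction with
  | mem z hz =>
    obtain ⟨i, hi, rfl⟩ := hz
    exact fun s hs => ⟨act s i, hact s hs i hi⟩
  | one => exact fun s hs => ⟨s, hs, mul_one _⟩
  | mul a b _ _ ha hb =>
    intro s hs
    obtain ⟨t, ht, he⟩ := ha s hs
    obtain ⟨t', ht', he'⟩ := hb t ht
    exact ⟨t', ht', by rw [← mul_assoc, he, he']⟩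

theorem prod_pow_expAt {K : Type*} [CommGroup K] (a : ℕ → K) (f : ℕ × ℕ × ℕ → ℕ) (S : Finset ℕ) :
    ∀ l : List (ℕ × ℕ × ℕ), (∀ e ∈ l, f e ∈ S) →
      (l.map fun e => a (f e) ^ e.2.2).prod = ∏ x ∈ S, a x ^ expAt f l x
  | [], _ => by simp [expAt]
  | e :: l, h => by
    rw [List.map_cons, List.prod_cons,
      prod_pow_expAt a f S l fun e' he' => h e' (List.mem_cons_of_mem _ he')]
    simp only [expAt, List.map_cons, List.sum_cons, pow_add, Finset.prod_mul_distrib]
    congr 1
    rw [Finset.prod_eq_single (f e)]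
    · rw [Nat.beq_refl]; rfl
    · intro x _ hx
      cases hb : Nat.beq (f e) x
      · simp
      · exact absurd (Nat.eq_of_beq_eq_true hb).symm hx
    · intro h'; exact absurd (h e (List.mem_cons_self ..)) h'

variable {G : Type u} [Group G]

/-- The product of the letters of a word. -/
def wprod {M : Type*} [Monoid M] (x : ℕ → M) (w : List ℕ) : M := (w.map x).prod

theorem map_wprod {M M' : Type*} [Monoid M] [Monoid M'] (φ : M →* M') (x : ℕ → M) (w : List ℕ) :
    φ (wprod x w) = wprod (fun i => φ (x i)) w := by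
  rw [wprod, map_list_prod, List.map_map]; rfl

theorem wprod_congr {M : Type*} [Monoid M] {x y : ℕ → M} {w : List ℕ} (h : ∀ i ∈ w, x i = y i) :
    wprod x w = wprod y w := congrArg List.prod (List.map_congr_left h)

theorem wprod_append {M : Type*} [Monoid M] (x : ℕ → M) (w w' : List ℕ) :
    wprod x (w ++ w') = wprod x w * wprod x w' := by simp [wprod]

/-- The chosen lifts. -/
noncomputable def lifts {Γ : Type*} [Group Γ] (C : Cert V) (sec : ℕ → Γ) : ℕ → List Γ
  | 0 => []
  | k + 1 => lifts C sec k ++ [match C.defn.getD k none with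
      | none => sec k
      | some r => (wprod (fun i => (lifts C sec k).getD i 1) (C.rels.getD r ([], [])).2.dropLast)⁻¹ *
          wprod (fun i => (lifts C sec k).getD i 1) (C.rels.getD r ([], [])).1]

theorem lifts_getD {Γ : Type*} [Group Γ] (sec : ℕ → Γ) :
    ∀ k, (lifts C sec k).length = k ∧ ∀ i < k, (lifts C sec k).getD i 1 = (lifts C sec (i + 1)).getD i 1
  | 0 => ⟨rfl, fun i hi => absurd hi (Nat.not_lt_zero i)⟩
  | k + 1 => by
    obtain ⟨h1, h2⟩ := lifts_getD sec k
    refine ⟨by rw [lifts, List.length_append, h1]; rfl, fun i hi => ?_⟩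
    rcases (Nat.lt_succ_iff.1 hi).eq_or_lt with rfl | hlt
    · rfl
    · rw [lifts, List.getD_append _ _ _ _ (by omega), h2 i hlt]

/-- Quotients of stem extensions by subgroups of the kernel are stem extensions. -/
theorem stem_quotient {G : Type*} [Group G] {Γ : Type*} [Group Γ] {σ : Γ →* G}
    (hσ : Cfsg.IsStemExtension σ) (N : Subgroup Γ) [N.Normal] (hN : N ≤ σ.ker) :
    Cfsg.IsStemExtension (QuotientGroup.lift N σ hN) := by
  refine ⟨fun g => ?_, fun x hx => ?_, fun x hx => ?_⟩
  · obtain ⟨y, hy⟩ := hσ.1 g; exact ⟨(y : Γ ⧸ N), hy⟩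
  · obtain ⟨y, rfl⟩ := QuotientGroup.mk'_surjective N x
    refine mem_center_iff.mpr fun g => ?_
    obtain ⟨y', rfl⟩ := QuotientGroup.mk'_surjective N g
    rw [← map_mul, ← map_mul, mem_center_iff.mp (hσ.2.1 hx) y']
  · obtain ⟨y, rfl⟩ := QuotientGroup.mk'_surjective N x
    have := Subgroup.mem_map_of_mem (QuotientGroup.mk' N) (hσ.2.2 hx)
    rw [_root_.commutator_def, Subgroup.map_commutator] at this
    exact Subgroup.commutator_mono le_top le_top this

/-- The main theorem: the kernel is generated by the values of the relators `extras`. -/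
theorem ker_le_of_cert [Finite G] (eqv : List ℕ → List ℕ → Bool) (gen : ℕ → G)
    (hsound : ∀ w w', eqv w w' = true → wprod gen w = wprod gen w')
    (hne : ∀ w w', eqv w w' = false → wprod gen w ≠ wprod gen w')
    (o : Ops V) (C : Cert V) (extras : List ℕ)
    (hev : ∀ {K : Type u} [CommGroup K] (τ : ℕ → K), (∀ x : K, x ^ C.p = 1) →
      Nonempty (Ev o C.rels.length τ))
    (hcard : Nat.Coprime C.p (Nat.card G / C.N))
    (hpres : C.presOK eqv = true) (hedges : C.edgesOK o = true) (hinj : C.injOK eqv = true)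
    (hcons : C.consOK eqv = true) (hfinal : C.finalOK o extras = true)
    {Γ : Type u} [Group Γ] [Finite Γ] {σ : Γ →* G} (hσ : Cfsg.IsStemExtension σ)
    (hexp : ∀ x ∈ σ.ker, x ^ C.p = 1) :
    ∃ τ : ℕ → Γ, ((∀ r, τ r ∈ σ.ker) ∧ ∀ r q comb, C.boundOK o r q comb = true → τ r ^ q = 1) ∧
      σ.ker ≤ Subgroup.closure (τ '' {r | r ∈ extras}) := by
  let _ : CommGroup σ.ker :=
    { (inferInstance : Group σ.ker) with
      mul_comm := fun a b => Subtype.ext (mem_center_iff.mp (hσ.2.1 b.2) a) }
  simp only [Cert.presOK, Bool.and_eq_true, List.all_eq_true, List.mem_range, decide_eq_true_eq]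
    at hpres
  obtain ⟨⟨⟨⟨⟨hN, hw0⟩, hdn⟩, hwlt⟩, hrels⟩, hdef⟩ := hpres
  have hN' : 0 < C.N := Nat.le_of_ble_eq_true hN
  have blt : ∀ {a b : ℕ}, Nat.blt a b = true → a < b := fun h => Nat.le_of_ble_eq_true h
  have hrelsD : ∀ r < C.rels.length, (∀ i ∈ (C.rels.getD r ([], [])).1, i < C.n) ∧
      (∀ i ∈ (C.rels.getD r ([], [])).2, i < C.n) ∧
      wprod gen (C.rels.getD r ([], [])).1 = wprod gen (C.rels.getD r ([], [])).2 := by
    intro r hr
    rw [List.getD_eq_getElem _ _ hr]
    obtain ⟨⟨h1, h2⟩, h3⟩ := hrels _ (List.getElem_mem hr)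
    exact ⟨fun i hi => blt (h1 i hi), fun i hi => blt (h2 i hi), hsound _ _ h3⟩
  -- lifts
  let sec : ℕ → Γ := fun i => Function.surjInv hσ.1 (gen i)
  let X : ℕ → Γ := fun i => (lifts C sec (i + 1)).getD i 1
  have hlk : ∀ k, ∀ w : List ℕ, (∀ i ∈ w, i < k) →
      wprod (fun i => (lifts C sec k).getD i 1) w = wprod X w :=
    fun k w hw => wprod_congr fun i hi => (lifts_getD sec k).2 i (hw i hi)
  have hXk : ∀ k, X k = match C.defn.getD k none with
      | none => sec k
      | some r => (wprod (fun i => (lifts C sec k).getD i 1) (C.rels.getD r ([], [])).2.dropLast)⁻¹ *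
          wprod (fun i => (lifts C sec k).getD i 1) (C.rels.getD r ([], [])).1 := by
    intro k
    show (lifts C sec (k + 1)).getD k 1 = _
    rw [lifts, List.getD_append_right _ _ _ _ (lifts_getD sec k).1.le, (lifts_getD sec k).1,
      Nat.sub_self]
    rfl
  have hdefX : ∀ k < C.n, ∀ r, C.defn.getD k none = some r →
      r < C.rels.length ∧ (C.rels.getD r ([], [])).2 = (C.rels.getD r ([], [])).2.dropLast ++ [k] ∧
      (∀ i ∈ (C.rels.getD r ([], [])).1, i < k) ∧
      (∀ i ∈ (C.rels.getD r ([], [])).2.dropLast, i < k) ∧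
      X k = (wprod X (C.rels.getD r ([], [])).2.dropLast)⁻¹ * wprod X (C.rels.getD r ([], [])).1 := by
    intro k hk r hr
    have h := hdef k hk
    rw [hr] at h
    simp only [Bool.and_eq_true, List.all_eq_true, decide_eq_true_eq] at h
    obtain ⟨⟨⟨h1, h2⟩, h3⟩, h4⟩ := h
    refine ⟨blt h1, h2, fun i hi => blt (h3 i hi), fun i hi => blt (h4 i hi), ?_⟩
    rw [hXk, hr]
    simp only [hlk k _ fun i hi => blt (h3 i hi), hlk k _ fun i hi => blt (h4 i hi)]
  have hσX : ∀ k < C.n, σ (X k) = gen k := by
    intro k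
    induction k using Nat.strongRecOn with
    | _ k ih =>
      intro hk
      cases hr : C.defn.getD k none with
      | none => rw [hXk, hr]; exact Function.surjInv_eq hσ.1 _
      | some r =>
        obtain ⟨h1, h2, h3, h4, h5⟩ := hdefX k hk r hr
        rw [h5, map_mul, map_inv, map_wprod, map_wprod,
          wprod_congr (y := gen) fun i hi => ih i (h4 i hi) ((h4 i hi).trans hk),
          wprod_congr (y := gen) fun i hi => ih i (h3 i hi) ((h3 i hi).trans hk),
          inv_mul_eq_iff_eq_mul, (hrelsD r h1).2.2]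
        conv_lhs => rw [h2, wprod_append]
        simp [wprod]
  have hσw : ∀ w : List ℕ, (∀ i ∈ w, i < C.n) → σ (wprod X w) = wprod gen w := fun w hw => by
    rw [map_wprod]; exact wprod_congr fun i hi => hσX i (hw i hi)
  -- the unknown values
  let τ : ℕ → σ.ker := fun r =>
    if h : r < C.rels.length then
      ⟨(wprod X (C.rels.getD r ([], [])).2)⁻¹ * wprod X (C.rels.getD r ([], [])).1, by
        rw [MonoidHom.mem_ker, map_mul, map_inv, hσw _ (hrelsD r h).1, hσw _ (hrelsD r h).2.1,
          (hrelsD r h).2.2, inv_mul_cancel]⟩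
    else 1
  have hτ : ∀ r < C.rels.length, wprod X (C.rels.getD r ([], [])).1 =
      wprod X (C.rels.getD r ([], [])).2 * (τ r : Γ) := by
    intro r hr
    simp only [τ, dif_pos hr, mul_inv_cancel_left]
  obtain ⟨E⟩ := hev τ fun x => Subtype.ext (hexp x x.2)
  have cen : ∀ (a : σ.ker) (g : Γ), g * a = a * g := fun a g => mem_center_iff.mp (hσ.2.1 a.2) g
  let L : ℕ → Γ := fun s => wprod X (C.word s)
  have hwlt' : ∀ s < C.N, ∀ i ∈ C.word s, i < C.n := fun s hs i hi => blt (hwlt s hs i hi)
  simp only [Cert.edgesOK, List.all_eq_true, List.mem_range, Cert.edgeOK, Bool.and_eq_true] at hedges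
  have hact : ∀ s < C.N, ∀ i < C.n, C.act s i < C.N := fun s hs i hi => blt (hedges s hs i hi).1
  have hwalkN : ∀ (w : List ℕ), (∀ i ∈ w, i < C.n) → ∀ s < C.N, C.walk s w < C.N := by
    intro w
    induction w with
    | nil => exact fun _ s hs => hs
    | cons i w ih =>
      exact fun hw s hs => ih (fun j hj => hw j (List.mem_cons_of_mem _ hj)) _
        (hact s hs i (hw i (List.mem_cons_self ..)))
  let P : ℕ → ℕ → Prop := fun s i => L s * X i = L (C.act s i) * (E.ev (C.msk s i) : Γ)
  have hpath : ∀ (Q : ℕ → ℕ → Prop), (∀ s < C.N, ∀ i < C.n, Q s i → P s i) →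
      ∀ (w : List ℕ), (∀ i ∈ w, i < C.n) → ∀ s < C.N,
      (∀ k (h : k < w.length), Q (C.walk s (w.take k)) w[k]) →
      L s * wprod X w = L (C.walk s w) * (E.ev (C.wvec o s w) : Γ) := by
    intro Q hQ w
    induction w with
    | nil => intro _ s _ _; simp [wprod, Cert.walk, Cert.wvec, E.ev_zero]
    | cons i w ih =>
      intro hw s hs hall
      have hi := hw i (List.mem_cons_self ..)
      have h0 : P s i := hQ s hs i hi (by simpa [Cert.walk] using hall 0 (Nat.succ_pos _))
      have h1 := ih (fun j hj => hw j (List.mem_cons_of_mem _ hj)) _ (hact s hs i hi)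
        (fun k hk => by simpa [Cert.walk] using hall (k + 1) (Nat.succ_lt_succ hk))
      calc L s * wprod X (i :: w) = L s * X i * wprod X w := by simp [wprod, mul_assoc]
        _ = L (C.act s i) * wprod X w * (E.ev (C.msk s i) : Γ) := by
            rw [h0, mul_assoc, ← cen, ← mul_assoc]
        _ = L (C.walk s (i :: w)) * (E.ev (C.wvec o s (i :: w)) : Γ) := by
            rw [h1, Cert.wvec, E.ev_add, Subgroup.coe_mul, mul_assoc]
            congr 1
            exact (cen _ _)
  have hbelow : ∀ rk (w : List ℕ) s, C.below rk s w = true →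
      ∀ k (h : k < w.length), C.rank (C.walk s (w.take k)) w[k] < rk := by
    intro rk w
    induction w with
    | nil => intro s _ k h; exact absurd h (Nat.not_lt_zero k)
    | cons i w ih =>
      intro s h k hk
      simp only [Cert.below, Bool.and_eq_true] at h
      cases k with
      | zero => simpa [Cert.walk] using blt h.1
      | succ k => simpa [Cert.walk] using ih _ h.2 k (Nat.lt_of_succ_lt_succ hk)
  have hP : ∀ rk, ∀ s < C.N, ∀ i < C.n, C.rank s i = rk → P s i := by
    intro rk
    induction rk using Nat.strongRecOn with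
    | _ rk ih =>
      intro s hs i hi hrk
      have h := (hedges s hs i hi).2
      cases hb : Nat.beq (C.rank s i) 0
      · rw [hb, cond_false] at h
        simp only [Cert.derived, Bool.and_eq_true] at h
        set r := (C.just s i).1
        set s0 := (C.just s i).2.1
        set pos := (C.just s i).2.2
        set k := C.pos' r pos with hk
        set w := (C.sides r pos).1 with hw
        set v := (C.sides r pos).2.1 with hv
        obtain ⟨⟨⟨⟨⟨⟨⟨⟨⟨hr, hs0⟩, hkw⟩, hwi⟩, hb1⟩, hb2⟩, hb3⟩, he1⟩, he2⟩, hvec⟩ := h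
        replace hr := blt hr
        replace hs0 := blt hs0
        replace hkw := blt hkw
        have he1 := Nat.eq_of_beq_eq_true he1
        have he2 := Nat.eq_of_beq_eq_true he2
        have hwi' : w[k] = i := by
          rw [← List.getD_eq_getElem _ 0 hkw]; exact Nat.eq_of_beq_eq_true hwi
        obtain ⟨hl1, hl2, -⟩ := hrelsD r hr
        have hsd : (∀ j ∈ w, j < C.n) ∧ (∀ j ∈ v, j < C.n) := by
          rw [hw, hv, Cert.sides]
          cases Nat.blt pos (C.rels.getD r ([], [])).1.length <;> simp only [cond_true, cond_false]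
          · exact ⟨hl2, hl1⟩
          · exact ⟨hl1, hl2⟩
        have hQ : ∀ s' < C.N, ∀ i' < C.n, C.rank s' i' < C.rank s i → P s' i' :=
          fun s' hs' i' hi' hlt => ih _ (hrk ▸ hlt) s' hs' i' hi' rfl
        have p1 := hpath _ hQ (w.take k) (fun j hj => hsd.1 j (List.mem_of_mem_take hj)) s0 hs0
          (hbelow _ _ _ hb1)
        have p2 := hpath _ hQ (w.drop (k + 1)) (fun j hj => hsd.1 j (List.mem_of_mem_drop hj))
          (C.act s i) (hact s hs i hi) (hbelow _ _ _ hb2)
        have p3 := hpath _ hQ v hsd.2 s0 hs0 (hbelow _ _ _ hb3)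
        rw [he1] at p1
        rw [he2] at p2
        have hwsplit : w = w.take k ++ i :: w.drop (k + 1) := by
          conv_lhs => rw [← List.take_append_drop k w, List.drop_eq_getElem_cons hkw, hwi']
        have main : ∀ z : σ.ker, L s0 * wprod X w = L (C.walk s0 v) * (z : Γ) →
            E.ev (C.wvec o s0 (w.take k)) * E.ev (C.msk s i) *
              E.ev (C.wvec o (C.act s i) (w.drop (k + 1))) = z → P s i := by
          intro z h1 h2
          rw [hwsplit, wprod_append, show wprod X (i :: w.drop (k + 1)) =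
            X i * wprod X (w.drop (k + 1)) by simp [wprod], ← mul_assoc, p1] at h1
          show L s * X i = L (C.act s i) * (E.ev (C.msk s i) : Γ)
          set A := wprod X (w.drop (k + 1))
          set z1 := E.ev (C.wvec o s0 (w.take k))
          set z2 := E.ev (C.wvec o (C.act s i) (w.drop (k + 1)))
          set m := E.ev (C.msk s i)
          have h3 : L s * X i * A * (z1 : Γ) = L (C.act s i) * A * ((m * z1 : σ.ker) : Γ) := by
            calc L s * X i * A * (z1 : Γ) = L s * (z1 : Γ) * (X i * A) := by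
                  rw [mul_assoc (L s) (z1 : Γ), ← cen z1 (X i * A)]; group
              _ = L (C.walk s0 v) * ((z1 * m * z2 : σ.ker) : Γ) := by rw [h2]; exact h1
              _ = L (C.walk s0 v) * (z2 : Γ) * ((m * z1 : σ.ker) : Γ) := by
                  rw [mul_assoc (L (C.walk s0 v)), ← Subgroup.coe_mul]
                  congr 2
                  rw [mul_comm z2, mul_comm z1]
              _ = _ := by rw [p2]
          rw [Subgroup.coe_mul, ← mul_assoc, mul_left_inj, mul_assoc (L (C.act s i)), cen m A,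
            ← mul_assoc, mul_left_inj] at h3
          exact h3
        cases hside : (C.sides r pos).2.2
        · rw [hside, cond_false] at hvec
          have hwv : w = (C.rels.getD r ([], [])).2 ∧ v = (C.rels.getD r ([], [])).1 := by
            rcases sides_cases (C := C) r pos with hc | hc
            · rw [hc] at hside; simp at hside
            · exact ⟨by rw [hw, hc], by rw [hv, hc]⟩
          have hz := E.beq_eq _ _ hvec
          rw [E.ev_add, E.ev_add, E.ev_add, E.ev_unit r hr] at hz
          refine main (E.ev (C.wvec o s0 v) * (τ r)⁻¹) ?_ ?_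
          · have := hτ r hr
            rw [← hwv.1, ← hwv.2] at this
            rw [Subgroup.coe_mul, ← mul_assoc, ← p3, this, Subgroup.coe_inv]
            group
          · rw [hz, mul_inv_cancel_right]; group
        · rw [hside, cond_true] at hvec
          have hwv : w = (C.rels.getD r ([], [])).1 ∧ v = (C.rels.getD r ([], [])).2 := by
            rcases sides_cases (C := C) r pos with hc | hc
            · exact ⟨by rw [hw, hc], by rw [hv, hc]⟩
            · rw [hc] at hside; simp at hside
          have hz := E.beq_eq _ _ hvec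
          rw [E.ev_add, E.ev_add, E.ev_add, E.ev_unit r hr] at hz
          refine main (E.ev (C.wvec o s0 v) * τ r) ?_ (by rw [← hz]; group)
          have := hτ r hr
          rw [← hwv.1, ← hwv.2] at this
          rw [this, ← mul_assoc, p3, Subgroup.coe_mul, mul_assoc]
      · rw [hb, cond_true, Bool.and_eq_true, decide_eq_true_eq] at h
        show L s * X i = L (C.act s i) * (E.ev (C.msk s i) : Γ)
        rw [E.beq_eq _ _ h.2, E.ev_zero]
        simp [L, h.1, wprod]
  have hpathAll : ∀ (w : List ℕ), (∀ i ∈ w, i < C.n) → ∀ s < C.N,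
      L s * wprod X w = L (C.walk s w) * (E.ev (C.wvec o s w) : Γ) := fun w hw s hs =>
    hpath (fun _ _ => True) (fun s hs i hi _ => hP _ s hs i hi rfl) w hw s hs fun _ _ => trivial
  -- the constraints
  simp only [Cert.consOK, Bool.and_eq_true, List.all_eq_true, List.mem_range] at hcons
  have hsmul : ∀ k v, E.ev (smulV o k v) = E.ev v ^ k := by
    intro k v
    induction k with
    | zero => simp [smulV, E.ev_zero]
    | succ k ih => rw [smulV, E.ev_add, ih, pow_succ']
  have hfold : ∀ {α : Type} (f : α → V) (l : List α),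
      E.ev (l.foldr (fun e t => o.add (f e) t) o.zero) = (l.map fun e => E.ev (f e)).prod := by
    intro α f l
    induction l with
    | nil => simp [E.ev_zero]
    | cons e l ih => rw [List.foldr_cons, E.ev_add, ih, List.map_cons, List.prod_cons]
  have hτd : ∀ r, some r ∈ C.defn → r < C.rels.length ∧ τ r = 1 := by
    intro r h
    obtain ⟨k, hk, hkr⟩ := List.getElem_of_mem h
    have hkn : k < C.n := Nat.eq_of_beq_eq_true hdn ▸ hk
    have hd : C.defn.getD k none = some r := by rw [List.getD_eq_getElem _ _ hk, hkr]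
    obtain ⟨hr, h2, -, -, h5⟩ := hdefX k hkn r hd
    refine ⟨hr, Subtype.ext ?_⟩
    have := hτ r hr
    rw [h2, wprod_append, show wprod X [k] = X k by simp [wprod], h5, mul_inv_cancel_left] at this
    exact mul_eq_left.mp this.symm
  have hconstr : ∀ c ∈ C.constraints o, E.ev c.1 = E.ev c.2 := by
    intro c hc
    rw [Cert.constraints, List.mem_append, List.mem_append, List.mem_map, List.mem_map,
      List.mem_map] at hc
    rcases hc with (⟨⟨r, s⟩, hrs, rfl⟩ | ⟨⟨im, cb⟩, hic, rfl⟩) | ⟨r, hr, rfl⟩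
    · obtain ⟨⟨hr, hs⟩, he⟩ := hcons.1 _ hrs
      replace hr := blt hr
      have e1 := hpathAll _ (hrelsD r hr).1 s (blt hs)
      have e2 := hpathAll _ (hrelsD r hr).2.1 s (blt hs)
      rw [hτ r hr, ← mul_assoc, e2, ← Nat.eq_of_beq_eq_true he, mul_assoc] at e1
      show E.ev _ = E.ev (o.add _ _)
      rw [E.ev_add, E.ev_unit r hr]
      exact Subtype.ext (mul_left_cancel e1).symm
    · obtain ⟨j, hj, hje⟩ := List.getElem_of_mem hic
      have hc' := hcons.2 j hj
      rw [List.getD_eq_getElem _ _ hj, hje] at hc'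
      simp only [Cert.conjOK, Bool.and_eq_true, List.all_eq_true, List.contains_iff_mem] at hc'
      obtain ⟨⟨hkeys, hcb⟩, hpar⟩ := hc'
      set keys := im.map Prod.fst
      obtain ⟨g', hg'⟩ := hσ.1 (gen (C.n + j))
      let a : ℕ → σ.ker := fun u =>
        if h : u ∈ keys then
          ⟨(L (lookup im u))⁻¹ * (g' * L u * g'⁻¹), by
            obtain ⟨⟨hu, hu'⟩, he⟩ := hkeys u h
            have he' := hsound _ _ he
            rw [show (C.n + j) :: C.word u = [C.n + j] ++ C.word u from rfl, wprod_append,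
              wprod_append, show wprod gen [C.n + j] = gen (C.n + j) by simp [wprod]] at he'
            rw [MonoidHom.mem_ker, map_mul, map_mul, map_mul, map_inv, map_inv, hg',
              hσw _ (hwlt' u (blt hu)), hσw _ (hwlt' _ (blt hu')), he']
            group⟩
        else 1
      have ha : ∀ u ∈ keys, g' * L u * g'⁻¹ = L (lookup im u) * (a u : Γ) := fun u hu => by
        simp only [a, dif_pos hu, mul_inv_cancel_left]
      have hid : ∀ e ∈ cb,
          E.ev (C.wvec o (lookup im e.1) (C.word (lookup im e.2.1))) * (a e.1 * a e.2.1) =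
          a (C.walk e.1 (C.word e.2.1)) * E.ev (C.wvec o e.1 (C.word e.2.1)) := by
        intro e he
        obtain ⟨⟨⟨hu, hv⟩, huv⟩, him⟩ := hcb e he
        obtain ⟨⟨hu1, hu2⟩, -⟩ := hkeys _ hu
        obtain ⟨⟨hv1, hv2⟩, -⟩ := hkeys _ hv
        have e1 := hpathAll _ (hwlt' _ (blt hv1)) _ (blt hu1)
        have e2 := hpathAll _ (hwlt' _ (blt hv2)) _ (blt hu2)
        rw [Nat.eq_of_beq_eq_true him] at e2
        set w' := E.ev (C.wvec o (lookup im e.1) (C.word (lookup im e.2.1)))
        set w0 := E.ev (C.wvec o e.1 (C.word e.2.1))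
        set uv := C.walk e.1 (C.word e.2.1)
        have key : L (lookup im uv) * ((w' * (a e.1 * a e.2.1) : σ.ker) : Γ) =
            L (lookup im uv) * ((a uv * w0 : σ.ker) : Γ) := by
          calc L (lookup im uv) * ((w' * (a e.1 * a e.2.1) : σ.ker) : Γ)
              = L (lookup im e.1) * L (lookup im e.2.1) * ((a e.1 * a e.2.1 : σ.ker) : Γ) := by
                rw [Subgroup.coe_mul, ← mul_assoc, ← e2]
            _ = L (lookup im e.1) * (a e.1 : Γ) * (L (lookup im e.2.1) * (a e.2.1 : Γ)) := by
                rw [Subgroup.coe_mul, mul_assoc (L (lookup im e.1)) (a e.1 : Γ),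
                  ← mul_assoc (a e.1 : Γ), ← cen (a e.1) (L (lookup im e.2.1))]
                group
            _ = g' * (L e.1 * L e.2.1) * g'⁻¹ := by rw [← ha _ hu, ← ha _ hv]; group
            _ = g' * (L uv * (w0 : Γ)) * g'⁻¹ := by rw [← e1]
            _ = g' * L uv * g'⁻¹ * (w0 : Γ) := by
                rw [mul_assoc g' (L uv * (w0 : Γ)), mul_assoc (L uv), ← cen w0 g'⁻¹]; group
            _ = L (lookup im uv) * ((a uv * w0 : σ.ker) : Γ) := by
                rw [ha _ huv, Subgroup.coe_mul, mul_assoc]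
        exact Subtype.ext (mul_left_cancel key)
      show E.ev (C.conjVec o im cb).1 = E.ev (C.conjVec o im cb).2
      rw [Cert.conjVec, hfold, hfold]
      simp only [hsmul]
      have hprod : ∀ l : List (ℕ × ℕ × ℕ), (∀ e ∈ l, e ∈ cb) →
          (l.map fun e => E.ev (C.wvec o (lookup im e.1) (C.word (lookup im e.2.1))) ^ e.2.2).prod *
            ((l.map fun e => a e.1 ^ e.2.2).prod * (l.map fun e => a e.2.1 ^ e.2.2).prod) =
          (l.map fun e => a (C.walk e.1 (C.word e.2.1)) ^ e.2.2).prod *
            (l.map fun e => E.ev (C.wvec o e.1 (C.word e.2.1)) ^ e.2.2).prod := by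
        intro l
        induction l with
        | nil => simp
        | cons e l ih =>
          intro hl
          have h1 := congrArg (fun z : σ.ker => z ^ e.2.2) (hid e (hl e (List.mem_cons_self ..)))
          simp only [mul_pow] at h1
          have h2 := ih fun e' he' => hl e' (List.mem_cons_of_mem _ he')
          simp only [List.map_cons, List.prod_cons]
          rw [mul_mul_mul_comm (a e.1 ^ e.2.2), mul_mul_mul_comm (E.ev _ ^ e.2.2), h1, h2,
            mul_mul_mul_comm]
      have h3 := hprod cb fun e he => he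
      rw [prod_pow_expAt a (fun e => e.1) keys.toFinset cb
          fun e he => List.mem_toFinset.2 (hcb e he).1.1.1,
        prod_pow_expAt a (fun e => e.2.1) keys.toFinset cb
          fun e he => List.mem_toFinset.2 (hcb e he).1.1.2,
        prod_pow_expAt a (fun e => C.walk e.1 (C.word e.2.1)) keys.toFinset cb
          fun e he => List.mem_toFinset.2 (hcb e he).1.2, ← Finset.prod_mul_distrib] at h3
      rw [Finset.prod_congr rfl (g := fun x => a x ^ expAt (fun e => C.walk e.1 (C.word e.2.1)) cb x)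
        fun x hx => by
          have hp' : a x ^ C.p = 1 := Subtype.ext (hexp _ (a x).2)
          rw [← pow_add, pow_eq_pow_mod _ hp', Nat.eq_of_beq_eq_true (hpar x (List.mem_toFinset.1 hx)),
            ← pow_eq_pow_mod _ hp'], mul_comm] at h3
      exact (mul_left_cancel h3).symm
    · obtain ⟨hr1, hr2⟩ := hτd r (by
        obtain ⟨q, hq, hqr⟩ := List.mem_filterMap.1 hr
        rw [id_eq] at hqr
        exact hqr ▸ hq)
      show E.ev (o.unit r) = E.ev o.zero
      rw [E.ev_unit r hr1, E.ev_zero, hr2]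
  -- all relators lie in the subgroup generated by the extras
  have hcomb : ∀ (K' : Type u) [CommGroup K'] (φ : σ.ker →* K') (L' : List (V × V)),
      (∀ c ∈ L', φ (E.ev c.1) = φ (E.ev c.2)) → ∀ comb u, combOK o L' comb u = true →
      φ (E.ev u) = 1 := by
    intro K' _ φ L' hL' comb u h
    have h' := congrArg φ (E.beq_eq _ _ h)
    rw [E.ev_add, map_mul, hfold, hfold] at h'
    simp only [hsmul, map_list_prod, List.map_map] at h'
    rw [List.map_congr_left (g := φ ∘ fun e : ℕ × ℕ =>
      E.ev (L'.getD e.1 (o.zero, o.zero)).2 ^ e.2) fun e _ => ?_] at h'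
    · exact mul_eq_left.mp h'.symm
    · simp only [Function.comp_apply, map_pow]
      rcases Nat.lt_or_ge e.1 L'.length with hl | hl
      · rw [List.getD_eq_getElem _ _ hl, hL' _ (List.getElem_mem hl)]
      · rw [List.getD_eq_default _ _ hl]
  refine ⟨fun r => (τ r : Γ), ⟨fun r => (τ r).2, fun r q comb h => ?_⟩, ?_⟩
  · simp only [Cert.boundOK, Bool.and_eq_true] at h
    have h' := hcomb σ.ker (MonoidHom.id _) _ (fun c hc => hconstr c hc) comb _ h.2
    rw [MonoidHom.id_apply, hsmul, E.ev_unit r (blt h.1)] at h'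
    rw [← SubmonoidClass.coe_pow, h', OneMemClass.coe_one]
  simp only [Cert.finalOK, Bool.and_eq_true, List.all_eq_true, List.mem_range, Bool.or_eq_true,
    List.contains_iff_mem] at hfinal
  obtain ⟨hext, hfinal⟩ := hfinal
  let W : Subgroup σ.ker := Subgroup.closure (τ '' {r | r ∈ extras})
  have hτW : ∀ r < C.rels.length, τ r ∈ W := by
    intro r hr
    rcases hfinal r hr with h | h
    · rw [(hτd r h).2]; exact W.one_mem
    · rw [← QuotientGroup.eq_one_iff, ← E.ev_unit r hr]
      refine hcomb (σ.ker ⧸ W) (QuotientGroup.mk' W) _ (fun c hc => ?_) _ _ h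
      rcases List.mem_append.1 hc with hc | hc
      · rw [hconstr c hc]
      · obtain ⟨r', hr', rfl⟩ := List.mem_map.1 hc
        rw [E.ev_zero, map_one, QuotientGroup.mk'_apply, QuotientGroup.eq_one_iff,
          E.ev_unit r' (blt (hext r' hr'))]
        exact Subgroup.subset_closure ⟨r', hr', rfl⟩
  let Wg : Subgroup Γ := W.map σ.ker.subtype
  have hWk : Wg ≤ σ.ker := Subgroup.map_subtype_le _
  have hWg : Wg = Subgroup.closure ((fun r => (τ r : Γ)) '' {r | r ∈ extras}) := by
    simp only [Wg, W, MonoidHom.map_closure, Set.image_image]; rfl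
  rw [← hWg]
  have : Wg.Normal := ⟨fun x hx g => by
    rwa [mem_center_iff.mp (hσ.2.1 (hWk hx)) g, mul_inv_cancel_right]⟩
  let q : Γ →* Γ ⧸ Wg := QuotientGroup.mk' Wg
  have hP1 : ∀ s < C.N, ∀ i < C.n, q (L s) * q (X i) = q (L (C.act s i)) := fun s hs i hi => by
    rw [← map_mul, hP _ s hs i hi rfl, map_mul]
    have h1 : q (E.ev (C.msk s i) : Γ) = 1 :=
      (QuotientGroup.eq_one_iff _).2 ⟨_, E.ev_mem W hτW _, rfl⟩
    rw [h1, mul_one]
  let el : ℕ → G := fun s => wprod gen (C.word s)
  have hel : ∀ s < C.N, σ (L s) = el s := fun s hs => hσw _ (hwlt' s hs)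
  have hel1 : ∀ s < C.N, ∀ i < C.n, C.act s i < C.N ∧ el s * gen i = el (C.act s i) :=
    fun s hs i hi => ⟨hact s hs i hi, by
      rw [← hel s hs, ← hσX i hi, ← map_mul, hP _ s hs i hi rfl, map_mul, MonoidHom.mem_ker.mp (E.ev _).2,
        mul_one, hel _ (hact s hs i hi)]⟩
  let S := Subgroup.closure (gen '' Set.Iio C.n)
  have hel0 : el 0 = 1 := by simp [el, wprod, hw0]
  have helS : ∀ s < C.N, el s ∈ S := fun s hs =>
    list_prod_mem fun x hx => by
      obtain ⟨i, hi, rfl⟩ := List.mem_map.1 hx
      exact Subgroup.subset_closure ⟨i, hwlt' s hs i hi, rfl⟩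
  simp only [Cert.injOK, Bool.and_eq_true, List.all_eq_true, List.mem_range, Bool.or_eq_true,
    Bool.not_eq_true'] at hinj
  obtain ⟨hper, hne0⟩ := hinj
  have hzero : ∀ s < C.N, el s = 1 → s = 0 := by
    intro s hs h
    rcases hne0 s hs with h0 | h0
    · exact Nat.eq_of_beq_eq_true h0
    · exact absurd h (by simpa [el, wprod] using hne _ _ h0)
  have hwinj : ∀ w : List ℕ, (∀ i ∈ w, i < C.n) → ∀ s < C.N, ∀ t < C.N,
      C.walk s w = C.walk t w → s = t := by
    intro w
    induction w with
    | nil => exact fun _ s _ t _ h => h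
    | cons i w ih =>
      intro hw s hs t ht h
      have hi := hw i (List.mem_cons_self ..)
      have h1 : C.act s i = C.act t i := ih (fun j hj => hw j (List.mem_cons_of_mem _ hj)) _
        (hact s hs i hi) _ (hact t ht i hi) h
      obtain ⟨m, hm⟩ := Nat.exists_eq_succ_of_ne_zero (blt (hper i hi).1).ne'
      have e1 := Nat.eq_of_beq_eq_true ((hper i hi).2 s hs)
      have e2 := Nat.eq_of_beq_eq_true ((hper i hi).2 t ht)
      rw [hm, List.replicate_succ, Cert.walk] at e1 e2
      rw [← e1, ← e2, h1]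
  have helwalk : ∀ w : List ℕ, (∀ i ∈ w, i < C.n) → ∀ s < C.N,
      el s * wprod gen w = el (C.walk s w) := by
    intro w hw s hs
    rw [← hel s hs, ← hσw w hw, ← map_mul, hpathAll w hw s hs, map_mul, hel _ (hwalkN w hw s hs),
      MonoidHom.mem_ker.mp (E.ev _).2, mul_one]
  have helinj : ∀ s < C.N, ∀ t < C.N, el s = el t → s = t := by
    intro s hs t ht h
    obtain ⟨v, hv, he⟩ := exists_mul_mem_closure el gen C.N C.n C.act hel1
      (inv_mem (helS t ht)) 0 hN'
    rw [hel0, one_mul] at he
    refine hwinj (C.word v) (hwlt' v hv) s hs t ht ?_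
    have e1 : el (C.walk s (C.word v)) = 1 := by
      rw [← helwalk _ (hwlt' v hv) s hs, h]
      show el t * el v = 1
      rw [← he, mul_inv_cancel]
    have e2 : el (C.walk t (C.word v)) = 1 := by
      rw [← helwalk _ (hwlt' v hv) t ht]
      show el t * el v = 1
      rw [← he, mul_inv_cancel]
    rw [hzero _ (hwalkN _ (hwlt' v hv) s hs) e1, hzero _ (hwalkN _ (hwlt' v hv) t ht) e2]
  have hSeq : ∀ x ∈ S, ∃ s < C.N, el s = x := by
    intro x hx
    obtain ⟨v, hv, he⟩ := exists_mul_mem_closure el gen C.N C.n C.act hel1 hx 0 hN'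
    exact ⟨v, hv, by rw [← he, hel0, one_mul]⟩
  have hScard : Nat.card S = C.N := by
    refine (Nat.card_eq_of_bijective (fun s : Fin C.N => (⟨el s, helS s s.2⟩ : S)) ⟨?_, ?_⟩).symm.trans
      (Nat.card_fin _)
    · intro s t h
      exact Fin.ext (helinj s s.2 t t.2 (congrArg Subtype.val h))
    · rintro ⟨x, hx⟩
      obtain ⟨s, hs, rfl⟩ := hSeq x hx
      exact ⟨⟨s, hs⟩, rfl⟩
  -- the preimage of the Sylow subgroup
  let H := Subgroup.closure (X '' Set.Iio C.n)
  have hHL : ∀ x ∈ H, ∃ s < C.N, q (L s) = q x := by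
    intro x hx
    have hx' : q x ∈ Subgroup.closure ((fun i => q (X i)) '' Set.Iio C.n) := by
      rw [← Set.image_image q X, ← MonoidHom.map_closure]
      exact Subgroup.mem_map_of_mem q hx
    obtain ⟨v, hv, he⟩ := exists_mul_mem_closure (fun s => q (L s)) (fun i => q (X i)) C.N C.n C.act
      (fun s hs i hi => ⟨hact s hs i hi, hP1 s hs i hi⟩) hx' 0 hN'
    refine ⟨v, hv, ?_⟩
    rw [← he]; simp [L, wprod, hw0]
  have hLH : ∀ s < C.N, L s ∈ H := fun s hs =>
    list_prod_mem fun x hx => by
      obtain ⟨i, hi, rfl⟩ := List.mem_map.1 hx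
      exact Subgroup.subset_closure ⟨i, hwlt' s hs i hi, rfl⟩
  have hcomm : ⁅S.comap σ, S.comap σ⁆ ≤ H := by
    rw [Subgroup.commutator_le]
    intro x hx y hy
    obtain ⟨s, hs, hsx⟩ := hSeq _ hx
    obtain ⟨t, ht, hty⟩ := hSeq _ hy
    have hc : ∀ (z : Γ) (k : ℕ), k < C.N → σ z = el k → z⁻¹ * L k ∈ center Γ := fun z k hk hz =>
      hσ.2.1 (by rw [MonoidHom.mem_ker, map_mul, map_inv, hz, hel k hk, inv_mul_cancel])
    rw [CfsgLib.Schur.commutatorElement_congr (hc x s hs hsx.symm) (hc y t ht hty.symm)]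
    exact (Subgroup.commutator_le_self H) (Subgroup.commutator_mem_commutator (hLH s hs) (hLH t ht))
  let σ' : Γ ⧸ Wg →* G := QuotientGroup.lift Wg σ hWk
  have hσ' : Cfsg.IsStemExtension σ' := stem_quotient hσ Wg hWk
  have hN1 : ∀ z ∈ σ.ker, q z ^ S.index = 1 := by
    intro z hz
    refine stem_pow_index_eq_one hσ' S ?_ (q z) hz
    intro x hx hxc
    have hmap : S.comap σ' = (S.comap σ).map q := by
      conv_rhs => rw [show S.comap σ = (S.comap σ').comap q from rfl]
      rw [Subgroup.map_comap_eq_self_of_surjective (QuotientGroup.mk'_surjective Wg)]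
    rw [hmap, ← Subgroup.map_commutator] at hxc
    obtain ⟨y, hy, rfl⟩ := hxc
    obtain ⟨s, hs, hsy⟩ := hHL y (hcomm hy)
    rw [← hsy] at hx ⊢
    have h1 : el s = 1 := by rw [← hel s hs]; exact hx
    rw [hzero s hs h1]
    simp [L, wprod, hw0]
  intro z hz
  have hidx : S.index = Nat.card G / C.N := by
    rw [← hScard, ← S.card_mul_index, Nat.mul_div_cancel_left _ Nat.card_pos]
  have := pow_gcd_eq_one.2
    ⟨(show q z ^ C.p = 1 by rw [← map_pow, hexp z hz, map_one]), hN1 z hz⟩
  rw [hidx, hcard.gcd_eq_one, pow_one] at this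
  exact (QuotientGroup.eq_one_iff z).1 this

/-- With no extra relators the kernel is trivial. -/
theorem ker_eq_bot [Finite G] (eqv : List ℕ → List ℕ → Bool) (gen : ℕ → G)
    (hsound : ∀ w w', eqv w w' = true → wprod gen w = wprod gen w')
    (hne : ∀ w w', eqv w w' = false → wprod gen w ≠ wprod gen w')
    (o : Ops V) (C : Cert V)
    (hev : ∀ {K : Type u} [CommGroup K] (τ : ℕ → K), (∀ x : K, x ^ C.p = 1) →
      Nonempty (Ev o C.rels.length τ))
    (hcard : Nat.Coprime C.p (Nat.card G / C.N))
    (hpres : C.presOK eqv = true) (hedges : C.edgesOK o = true) (hinj : C.injOK eqv = true)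
    (hcons : C.consOK eqv = true) (hfinal : C.finalOK o [] = true)
    {Γ : Type u} [Group Γ] [Finite Γ] {σ : Γ →* G} (hσ : Cfsg.IsStemExtension σ)
    (hexp : ∀ x ∈ σ.ker, x ^ C.p = 1) : σ.ker = ⊥ := by
  obtain ⟨τ, -, h⟩ := ker_le_of_cert eqv gen hsound hne o C [] hev hcard hpres hedges hinj hcons
    hfinal hσ hexp
  simpa using h

/-- If in stem extensions with kernel of exponent `n` all kernel elements have order dividing `m`,
then in every stem extension `m`-th powers of the kernel are `n`-th powers. -/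
theorem exists_pow_eq_of_exponent {G : Type u} [Group G] [Finite G] (n m : ℕ)
    (h : ∀ (Γ : Type u) [Group Γ] [Finite Γ] (σ : Γ →* G), Cfsg.IsStemExtension σ →
      (∀ x ∈ σ.ker, x ^ n = 1) → ∀ x ∈ σ.ker, x ^ m = 1)
    {Γ : Type u} [Group Γ] [Finite Γ] {σ : Γ →* G} (hσ : Cfsg.IsStemExtension σ) (x : Γ)
    (hx : x ∈ σ.ker) : ∃ y ∈ σ.ker, y ^ n = x ^ m := by
  let _ : CommGroup σ.ker :=
    { (inferInstance : Group σ.ker) with
      mul_comm := fun a b => Subtype.ext (mem_center_iff.mp (hσ.2.1 b.2) a) }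
  let N : Subgroup Γ := (powMonoidHom n : σ.ker →* σ.ker).range.map σ.ker.subtype
  have hNk : N ≤ σ.ker := Subgroup.map_subtype_le _
  have hNn : N.Normal := ⟨fun x hx g => by
    rwa [mem_center_iff.mp (hσ.2.1 (hNk hx)) g, mul_inv_cancel_right]⟩
  have h' := h (Γ ⧸ N) _ (stem_quotient hσ N hNk) (fun y hy => by
    obtain ⟨y, rfl⟩ := QuotientGroup.mk'_surjective N y
    rw [← map_pow, QuotientGroup.mk'_apply, QuotientGroup.eq_one_iff]
    exact ⟨(⟨y, hy⟩ : σ.ker) ^ n, ⟨⟨y, hy⟩, rfl⟩, rfl⟩) (QuotientGroup.mk' N x) hx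
  rw [← map_pow, QuotientGroup.mk'_apply, QuotientGroup.eq_one_iff] at h'
  obtain ⟨w, ⟨y, hy⟩, hw⟩ := h'
  exact ⟨y, y.2, by rw [← hw, ← hy]; rfl⟩

/-- If no stem extension has a non-trivial kernel of exponent `p`, the prime `p` does not divide
the order of the kernel of a stem extension. -/
theorem prime_not_dvd_ker {G : Type u} [Group G] [Finite G] (p : ℕ) [hp : Fact p.Prime]
    (h : ∀ (Γ : Type u) [Group Γ] [Finite Γ] (σ : Γ →* G), Cfsg.IsStemExtension σ →
      (∀ x ∈ σ.ker, x ^ p = 1) → σ.ker = ⊥)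
    {Γ : Type u} [Group Γ] [Finite Γ] {σ : Γ →* G} (hσ : Cfsg.IsStemExtension σ) :
    ¬ p ∣ Nat.card σ.ker := by
  intro hdvd
  obtain ⟨z, hz⟩ := exists_prime_orderOf_dvd_card' p hdvd
  have hsurj : Function.Surjective fun y : σ.ker => y ^ p := by
    intro x
    obtain ⟨y, hy, hyx⟩ := exists_pow_eq_of_exponent p 1 (fun Γ _ _ σ hσ he y hy => by
      rw [h Γ σ hσ he, Subgroup.mem_bot] at hy; rw [hy, one_pow]) hσ (x : Γ) x.2
    exact ⟨⟨y, hy⟩, Subtype.ext (by simpa using hyx)⟩
  have hinj := (Finite.injective_iff_surjective.2 hsurj) (a₁ := z) (a₂ := 1)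
    (by simp only [one_pow, ← hz, pow_orderOf_eq_one])
  rw [hinj, orderOf_one] at hz
  exact hp.out.ne_one hz.symm

/-- The kernel of a stem extension has exponent dividing the order of the group. -/
theorem ker_pow_card {G : Type u} [Group G] [Finite G] {Γ : Type*} [Group Γ] [Finite Γ]
    {σ : Γ →* G} (hσ : Cfsg.IsStemExtension σ) (z : Γ) (hz : z ∈ σ.ker) : z ^ Nat.card G = 1 := by
  rw [← Subgroup.index_bot (G := G)]
  refine stem_pow_index_eq_one hσ ⊥ (fun x _ hxc => ?_) z hz
  have : ⁅(⊥ : Subgroup G).comap σ, (⊥ : Subgroup G).comap σ⁆ = ⊥ := by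
    rw [eq_bot_iff, Subgroup.commutator_le]
    intro a ha b _
    rw [Subgroup.mem_bot, commutatorElement_eq_one_iff_mul_comm]
    exact (mem_center_iff.mp (hσ.2.1 (by simpa using ha)) b).symm
  rwa [this, Subgroup.mem_bot] at hxc

/-- If no stem extension has a non-trivial kernel of prime exponent `p` for the `p` dividing the
order, the multiplier is trivial. -/
theorem multiplier_one {G : Type u} [Group G] [Finite G]
    (h : ∀ p : ℕ, p.Prime → p ∣ Nat.card G → ∀ (Γ : Type u) [Group Γ] [Finite Γ] (σ : Γ →* G),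
      Cfsg.IsStemExtension σ → (∀ x ∈ σ.ker, x ^ p = 1) → σ.ker = ⊥) :
    Cfsg.HasCyclicSchurMultiplier G 1 := by
  refine hasCyclicSchurMultiplier_one fun Γ _ _ σ hσ => ?_
  by_contra hne
  let p := (Nat.card σ.ker).minFac
  have hp : p.Prime := Nat.minFac_prime (mt Subgroup.card_eq_one.1 hne)
  have : Fact p.Prime := ⟨hp⟩
  obtain ⟨z, hz⟩ := exists_prime_orderOf_dvd_card' p (Nat.minFac_dvd (Nat.card σ.ker))
  refine prime_not_dvd_ker p (fun Δ _ _ τ hτ he => h p hp ?_ Δ τ hτ he) hσ (Nat.minFac_dvd _)
  rw [← hz, ← Subgroup.orderOf_coe, orderOf_dvd_iff_pow_eq_one]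
  exact ker_pow_card hσ (z : _) z.2

end CfsgLib.KnownA.SchurCert
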