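import Cfsg.Agent.Lib.KnownA.CosetInv
import Cfsg.Agent.Lib.InvChar.CosetGroup
import Cfsg.Agent.Lib.InvChar.Basic

/-!
# Suborbits and normal subgroups for coset actions with inverse letters
-/

set_option autoImplicit false

namespace CfsgLib.KnownA.CosetInv

open CfsgLib.InvChar.Coset

/-- An orbit of a subgroup on cosets, read off an orbit of the table. -/
theorem suborbit_of_cert (T : Table) {W : List (List ℕ)} (hV : T.Valid W) {j : ℕ → ℕ}
    (hj : Pairs T W j) {G : Type*} [Group G] {H : Subgroup G} (s : ℕ → G)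
    (φ : G →* Equiv.Perm (Fin T.n)) (hφ : ∀ x < T.g, φ (s x) = permOf hV hj x)
    (e : Fin T.n ≃ G ⧸ H) (he : ∀ (g : G) (i : Fin T.n), g • e i = e (φ g i))
    {S : List (List ℕ)} (hS : ∀ L ∈ S, ∀ x ∈ L, x < T.g) (K : Subgroup G) (hK : K = wordsClosure s S)
    {pts pos par : Tr} {m : ℕ} (hm : 0 < m) (hok : ∀ k < m, Table.OrbitOK T S pts pos par m k)
    (p₀ : Fin T.n) (hp₀ : (p₀ : ℕ) = field pts 128 20 0) :
    (MulAction.orbit K (e p₀)).ncard = m ∧
      ∀ q : Fin T.n, e q ∈ MulAction.orbit K (e p₀) ↔ ∃ k < m, field pts 128 20 k = q := by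
  let σ : ℕ → Equiv.Perm (Fin T.n) := fun g => (φ (wprod s (S.getD g [])))⁻¹
  have hσ : ∀ g < S.length, ∀ i : Fin T.n, T.follow (S.getD g []) i = (σ g i : ℕ) := by
    intro g hg i
    have hlt : ∀ x ∈ S.getD g [], x < T.g := by
      rw [List.getD_eq_getElem _ _ hg]; exact hS _ (List.getElem_mem hg)
    show T.follow (S.getD g []) i = ((φ (wprod s (S.getD g [])))⁻¹ i : Fin T.n)
    rw [map_wprod φ s (permOf hV hj) _ fun x hx => hφ x (hlt x hx)]
    exact follow_eq hV hj _ hlt i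
  have hR : K.map φ = Subgroup.closure (σ '' Set.Iio S.length) := by
    rw [hK, wordsClosure, MonoidHom.map_closure, ← Subgroup.closure_inv]
    congr 1
    ext π
    rw [Set.mem_inv]
    constructor
    · rintro ⟨_, ⟨L, hL, rfl⟩, hπ⟩
      obtain ⟨g, hg, rfl⟩ := List.mem_iff_getElem.1 hL
      refine ⟨g, hg, ?_⟩
      show (φ (wprod s (S.getD g [])))⁻¹ = π
      rw [List.getD_eq_getElem _ _ hg, hπ, inv_inv]
    · rintro ⟨g, hg, rfl⟩
      refine ⟨_, ⟨S[g]'hg, List.getElem_mem _, rfl⟩, ?_⟩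
      show φ (wprod s (S[g]'hg)) = ((φ (wprod s (S.getD g [])))⁻¹)⁻¹
      rw [inv_inv, List.getD_eq_getElem _ _ (show g < S.length from hg)]
      rfl
  obtain ⟨hc, hmem⟩ := Table.orbit_eq rfl hm hok σ hσ (K.map φ) hR p₀ hp₀
  have horb : MulAction.orbit K (e p₀) = e '' MulAction.orbit (K.map φ) p₀ := by
    ext y
    constructor
    · rintro ⟨⟨g, hg⟩, rfl⟩
      exact ⟨φ g p₀, ⟨⟨φ g, Subgroup.mem_map_of_mem φ hg⟩, rfl⟩, (he g p₀).symm⟩
    · rintro ⟨_, ⟨⟨_, g, hg, rfl⟩, rfl⟩, rfl⟩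
      exact ⟨⟨g, hg⟩, he g p₀⟩
  refine ⟨by rw [horb, Set.ncard_image_of_injective _ e.injective, hc], fun q => ?_⟩
  rw [horb, e.injective.mem_set_image, hmem]

/-- Orbit certificates through different points are disjoint. -/
theorem not_mem_orbit_cert {T : Table} {S : List (List ℕ)} {pts pos par : Tr} {m : ℕ}
    (hok : ∀ c < m, Table.OrbitOK T S pts pos par m c) {r : ℕ} (h0 : field pos 128 20 r = 0) :
    ¬ ∃ c < m, field pts 128 20 c = r := by
  rintro ⟨c, hc, rfl⟩
  have := (hok c hc).2.1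
  omega

/-- A nontrivial normal subgroup contains the `p`-elements when the full `p`-part of the order
divides the index of a core-free maximal subgroup. -/
theorem pow_eq_one_mem_normal {G : Type*} [Group G] [Finite G] (H : Subgroup G) (hcore : H.normalCore = ⊥)
    (hmax : ∀ K : Subgroup G, H ≤ K → K = H ∨ K = ⊤) (p k : ℕ) [Fact p.Prime]
    (hk : p ^ k ∣ H.index) (hpart : ¬ p ^ (k + 1) ∣ Nat.card G) (N : Subgroup G) [N.Normal]
    (hbot : N ≠ ⊥) (u : G) (hu : u ^ p = 1) : u ∈ N := by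
  have hNH : ¬ N ≤ H := fun h => hbot (le_bot_iff.1 (hcore ▸ Subgroup.normal_le_normalCore.2 h))
  have hsup : N ⊔ H = ⊤ := (hmax _ le_sup_right).resolve_left fun h => hNH (h ▸ le_sup_left)
  have hdvd : H.index ∣ Nat.card N := by
    have h1 : N.relIndex H = N.index := by
      rw [← Subgroup.relIndex_sup_left (K := N) (H := H), hsup, Subgroup.relIndex_top_right]
    have h2 : Nat.card (N ⊓ H : Subgroup G) * N.index = Nat.card H := by
      rw [← h1, ← Subgroup.card_mul_index (N.subgroupOf H), Subgroup.relIndex]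
      congr 1
      rw [← Nat.card_congr (Subgroup.subgroupOfEquivOfLe (inf_le_right : N ⊓ H ≤ H)).toEquiv,
        Subgroup.inf_subgroupOf_right]
    have h3 := N.card_mul_index.trans H.card_mul_index.symm
    rw [← h2, mul_right_comm] at h3
    exact ⟨_, (Nat.eq_of_mul_eq_mul_right (Nat.pos_of_ne_zero Subgroup.index_ne_zero_of_finite) h3).trans
      (mul_comm _ _)⟩
  have hcop : Nat.Coprime p N.index := by
    rw [(Fact.out : p.Prime).coprime_iff_not_dvd]
    intro hd
    refine hpart ?_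
    rw [← N.card_mul_index, pow_succ]
    exact Nat.mul_dvd_mul (hk.trans hdvd) hd
  exact CfsgLib.InvChar.mem_of_normal_of_coprime_index (k := 1) (by rwa [pow_one]) hcop

end CfsgLib.KnownA.CosetInv
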