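import Mathlib.Data.List.GetD
import Mathlib.Tactic

/-!
Assembling kernel checks made on chunks of a list.
-/

set_option autoImplicit false

namespace CfsgLib.KnownA.Chunks

theorem all_of_chunks {α : Type*} {p : α → Bool} {l : List α} (w b : ℕ) (h : l.length ≤ b * w)
    (hc : ∀ i < b, ((l.drop (i * w)).take w).all p = true) : l.all p = true := by
  suffices ∀ k ≤ b, (l.take (k * w)).all p = true by
    simpa [List.take_of_length_le h] using this b le_rfl
  intro k
  induction k with
  | zero => simp
  | succ k ih =>
    intro hk
    rw [Nat.succ_mul, List.take_add, List.all_append, ih (by omega), hc k (by omega)]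
    rfl

theorem sum_of_chunks {l : List ℕ} (w : ℕ) (s : List ℕ) (h : l.length ≤ s.length * w)
    (hc : ∀ i < s.length, ((l.drop (i * w)).take w).sum = s.getD i 0) : l.sum = s.sum := by
  suffices ∀ k ≤ s.length, (l.take (k * w)).sum = (s.take k).sum by
    simpa [List.take_of_length_le h] using this s.length le_rfl
  intro k
  induction k with
  | zero => simp
  | succ k ih =>
    intro hk
    rw [Nat.succ_mul, List.take_add, List.sum_append, ih (by omega), hc k (by omega),
      List.take_succ_eq_append_getElem (by omega), List.sum_append, List.getD_eq_getElem _ _ (by omega)]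
    simp

end CfsgLib.KnownA.Chunks
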