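import Cfsg.Agent.Lib.Fusion.AlternatingTwo
import Cfsg.Prelude.Def_HallClasses
import Mathlib

/-!
Subgroups of odd index of alternating groups are pronormal: Sylow 2-subgroups of `A_n` are
self-normalizing for `n ≥ 6`, and in `A_5` the subgroups concerned are Sylow or of prime index.
-/

set_option autoImplicit false
set_option linter.style.haveILetI false

namespace CfsgLib.KnownA.AltPronormal

open Equiv CfsgLib.BlockA.SylowSymGen CfsgLib.Fusion.AltModel
open scoped Pointwise

universe u

variable {G : Type u} [Group G] [Finite G]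

omit [Finite G] in
theorem map_conj_mul (H : Subgroup G) (a b : G) :
    H.map (MulAut.conj (a * b)).toMonoidHom =
      (H.map (MulAut.conj b).toMonoidHom).map (MulAut.conj a).toMonoidHom := by
  rw [Subgroup.map_map]
  congr 1
  ext x
  simp [mul_assoc]

omit [Finite G] in
theorem map_conj_of_mem {H : Subgroup G} {h : G} (hh : h ∈ H) :
    H.map (MulAut.conj h).toMonoidHom = H := by
  ext x
  constructor
  · rintro ⟨y, hy, rfl⟩
    exact H.mul_mem (H.mul_mem hh hy) (H.inv_mem hh)
  · intro hx
    refine ⟨h⁻¹ * x * h, H.mul_mem (H.mul_mem (H.inv_mem hh) hx) hh, ?_⟩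
    show h * (h⁻¹ * x * h) * h⁻¹ = x
    group

/-- Inside any subgroup containing both, a Sylow subgroup and its conjugate are conjugate. -/
theorem exists_conj_in {p : ℕ} [Fact p.Prime] (S : Sylow p G) (J : Subgroup G) (g : G)
    (hS : (S : Subgroup G) ≤ J) (hgS : (S : Subgroup G).map (MulAut.conj g).toMonoidHom ≤ J) :
    ∃ j ∈ J, (S : Subgroup G).map (MulAut.conj j).toMonoidHom =
      (S : Subgroup G).map (MulAut.conj g).toMonoidHom := by
  have hgS' : ((g • S : Sylow p G) : Subgroup G) ≤ J := hgS
  obtain ⟨j, hj⟩ := MulAction.exists_smul_eq J (S.subtype hS) ((g • S).subtype hgS')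
  refine ⟨j, j.2, ?_⟩
  have h1 : ((j : G) • S).subtype (Sylow.smul_le hS j) = (g • S).subtype hgS' := by
    rw [← hj, Sylow.smul_subtype hS]; rfl
  have h2 := Sylow.subtype_injective h1
  exact congrArg (fun T : Sylow p G => (T : Subgroup G)) h2

/-- A Sylow subgroup is pronormal. -/
theorem isPronormal_sylow {p : ℕ} [Fact p.Prime] (S : Sylow p G) :
    Cfsg.IsPronormal (S : Subgroup G) := by
  intro g
  obtain ⟨j, hj, he⟩ := exists_conj_in S _ g le_sup_left le_sup_right
  exact ⟨j, hj, he.symm⟩

/-- Overgroups of a self-normalizing Sylow subgroup are pronormal. -/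
theorem isPronormal_of_sylow_le {p : ℕ} [Fact p.Prime] (S : Sylow p G)
    (hN : Subgroup.normalizer ((S : Subgroup G) : Set G) ≤ (S : Subgroup G)) {H : Subgroup G}
    (hSH : (S : Subgroup G) ≤ H) : Cfsg.IsPronormal H := by
  intro g
  obtain ⟨j, hj, he⟩ := exists_conj_in S (H ⊔ H.map (MulAut.conj g).toMonoidHom) g
    (hSH.trans le_sup_left) ((Subgroup.map_mono hSH).trans le_sup_right)
  refine ⟨j, hj, ?_⟩
  have hn : j⁻¹ * g ∈ Subgroup.normalizer ((S : Subgroup G) : Set G) := by
    have h1 : (S : Subgroup G).map (MulAut.conj (j⁻¹ * g)).toMonoidHom = (S : Subgroup G) := by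
      rw [map_conj_mul, ← he, ← map_conj_mul, inv_mul_cancel, map_conj_of_mem (one_mem _)]
    rw [Subgroup.mem_normalizer_iff]
    intro x
    constructor
    · intro hx
      have := Subgroup.mem_map_of_mem (MulAut.conj (j⁻¹ * g)).toMonoidHom hx
      rwa [h1] at this
    · intro hx
      rw [← h1] at hx
      obtain ⟨y, hy, e⟩ := hx
      have : y = x := mul_left_cancel (mul_right_cancel (e : _ * y * _ = _ * x * _))
      exact this ▸ hy
  conv_lhs => rw [show g = j * (j⁻¹ * g) by group]
  rw [map_conj_mul, map_conj_of_mem (hSH (hN hn))]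

/-- Subgroups of index one or a prime are pronormal. -/
theorem isPronormal_of_index {H : Subgroup G} (h : H.index = 1 ∨ H.index.Prime) :
    Cfsg.IsPronormal H := by
  intro g
  by_cases hg : H.map (MulAut.conj g).toMonoidHom ≤ H
  · refine ⟨1, one_mem _, ?_⟩
    rw [map_conj_of_mem (one_mem H)]
    exact Subgroup.eq_of_le_of_card_ge hg
      (Subgroup.card_map_of_injective (MulAut.conj g).injective (K := H)).ge
  refine ⟨g, ?_, rfl⟩
  have hlt : H < H ⊔ H.map (MulAut.conj g).toMonoidHom :=
    lt_of_le_of_ne le_sup_left fun e => hg (le_sup_right.trans e.ge)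
  have hd := Subgroup.index_dvd_of_le hlt.le
  have hne : (H ⊔ H.map (MulAut.conj g).toMonoidHom).index ≠ H.index := fun e => by
    have h1 := Subgroup.relIndex_mul_index hlt.le
    rw [e] at h1
    have : H.relIndex (H ⊔ H.map (MulAut.conj g).toMonoidHom) = 1 :=
      Nat.eq_of_mul_eq_mul_right (Nat.pos_of_ne_zero H.index_ne_zero_of_finite)
        (h1.trans (one_mul _).symm)
    exact hlt.not_ge (Subgroup.relIndex_eq_one.1 this)
  have h1 : (H ⊔ H.map (MulAut.conj g).toMonoidHom).index = 1 := by
    rcases h with h | h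
    · rw [h] at hd; exact Nat.dvd_one.1 hd
    · rcases (Nat.dvd_prime h).1 hd with e | e
      · exact e
      · exact absurd e hne
  rw [Subgroup.index_eq_one.1 h1]
  exact Subgroup.mem_top g

/-- Sylow 2-subgroups of `A_n` are self-normalizing for `n ≥ 6`. -/
theorem normalizer_sylow_alt {n : ℕ} (hn : 6 ≤ n) (P : Sylow 2 (alternatingGroup (Fin n))) :
    Subgroup.normalizer ((P : Subgroup (alternatingGroup (Fin n))) : Set (alternatingGroup (Fin n)))
      ≤ (P : Subgroup (alternatingGroup (Fin n))) := by
  haveI : Fact (Nat.Prime 2) := ⟨Nat.prime_two⟩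
  obtain ⟨ι⟩ : Nonempty (Fin (n / 2) × ZMod 2 ↪ Fin n) :=
    Function.Embedding.nonempty_of_card_le (by
      rw [Fintype.card_prod, Fintype.card_fin, Fintype.card_fin, ZMod.card]
      exact Nat.div_mul_le_self n 2)
  let W : Sylow 2 (Perm (Fin (n / 2))) := default
  set S := (sylowSub ι (W : Subgroup (Perm (Fin (n / 2))))).subgroupOf
    (alternatingGroup (Fin n)) with hS
  have hp : IsPGroup 2 S :=
    (isPGroup_sylowSub ι W.isPGroup').comap_of_injective _ (Subgroup.subtype_injective _)
  have hN := normalizer_alt_two ι (k := n / 2) (by omega)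
    (outside_subsingleton ι (by omega)) W
  let S' : Sylow 2 (alternatingGroup (Fin n)) := hp.toSylow (not_dvd_index ι rfl W)
  obtain ⟨x, hx⟩ := MulAction.exists_smul_eq (alternatingGroup (Fin n)) S' P
  have hP : (P : Subgroup (alternatingGroup (Fin n))) = S.map (MulAut.conj x).toMonoidHom := by
    rw [← hx]; rfl
  rw [hP, ← Subgroup.map_equiv_normalizer_eq S (MulAut.conj x)]
  exact Subgroup.map_mono hN

/-- Subgroups of odd index of alternating groups of degree at least five are pronormal. -/
theorem isPronormal_odd_index {n : ℕ} (hn : 5 ≤ n) (H : Subgroup (alternatingGroup (Fin n)))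
    (hH : Odd H.index) : Cfsg.IsPronormal H := by
  haveI : Fact (Nat.Prime 2) := ⟨Nat.prime_two⟩
  rcases (show n = 5 ∨ 6 ≤ n by omega) with rfl | h6
  · have hcard : Nat.card (alternatingGroup (Fin 5)) = 60 := by
      rw [Nat.card_eq_fintype_card, card_alternatingGroup]
      simp [Nat.factorial]
    have hd : H.index ∣ 60 := hcard ▸ H.index_dvd_card
    have hmem : H.index ∈ Nat.divisors 60 := Nat.mem_divisors.2 ⟨hd, by norm_num⟩
    have h15 : H.index = 1 ∨ H.index.Prime ∨ H.index = 15 := by
      generalize H.index = i at hH hmem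
      fin_cases hmem <;> revert hH <;> decide
    rcases h15 with h | h | h
    · exact isPronormal_of_index (Or.inl h)
    · exact isPronormal_of_index (Or.inr h)
    · have hc : Nat.card H = 4 := by
        have := H.card_mul_index
        rw [h, hcard] at this
        omega
      exact isPronormal_sylow ((IsPGroup.of_card (p := 2) (n := 2) (hc.trans (by norm_num))).toSylow
        (by rw [h]; norm_num))
  · obtain ⟨Q⟩ : Nonempty (Sylow 2 H) := inferInstance
    have hQp : IsPGroup 2 ((Q : Subgroup H).map H.subtype) := Q.isPGroup'.map _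
    have hQi : ¬ 2 ∣ ((Q : Subgroup H).map H.subtype).index := by
      rw [Subgroup.index_map_subtype, Nat.prime_two.dvd_mul]
      exact not_or.2 ⟨Q.not_dvd_index, fun h2 => (Nat.not_even_iff_odd.2 hH) (even_iff_two_dvd.2 h2)⟩
    exact isPronormal_of_sylow_le (hQp.toSylow hQi) (normalizer_sylow_alt h6 _)
      (Subgroup.map_subtype_le _)

end CfsgLib.KnownA.AltPronormal
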