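import Cfsg.Agent.Lib.KnownA.Co3Schur2
import Cfsg.Agent.Lib.KnownA.Co3Schur3
import Cfsg.Agent.Lib.KnownA.Co3Schur5
import Cfsg.Agent.Lib.KnownA.Co3Schur7
import Cfsg.Agent.Lib.KnownA.Co3Schur11
import Cfsg.Agent.Lib.KnownA.Co3Schur23

/-!
The Schur multiplier of `Co3` is trivial.
-/

set_option autoImplicit false

namespace CfsgLib.KnownA.SchurCert.Co3Cert

open CfsgLib.Golay.Co3Out

theorem prime_cases {p : ℕ} (hp : p.Prime) (h : p ∣ 495766656000) :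
    p = 2 ∨ p = 3 ∨ p = 5 ∨ p = 7 ∨ p = 11 ∨ p = 23 := by
  have e : (495766656000 : ℕ) = 2 ^ 10 * 3 ^ 7 * 5 ^ 3 * 7 * 11 * 23 := by norm_num
  rw [e] at h
  have hd : ∀ q : ℕ, q.Prime → p ∣ q → p = q := fun q hq hpq => (Nat.prime_dvd_prime_iff_eq hp hq).1 hpq
  rcases (Nat.Prime.dvd_mul hp).1 h with h | h
  · rcases (Nat.Prime.dvd_mul hp).1 h with h | h
    · rcases (Nat.Prime.dvd_mul hp).1 h with h | h
      · rcases (Nat.Prime.dvd_mul hp).1 h with h | h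
        · rcases (Nat.Prime.dvd_mul hp).1 h with h | h
          · exact Or.inl (hd 2 (by norm_num) (hp.dvd_of_dvd_pow h))
          · exact Or.inr (Or.inl (hd 3 (by norm_num) (hp.dvd_of_dvd_pow h)))
        · exact Or.inr (Or.inr (Or.inl (hd 5 (by norm_num) (hp.dvd_of_dvd_pow h))))
      · exact Or.inr (Or.inr (Or.inr (Or.inl (hd 7 (by norm_num) h))))
    · exact Or.inr (Or.inr (Or.inr (Or.inr (Or.inl (hd 11 (by norm_num) h)))))
  · exact Or.inr (Or.inr (Or.inr (Or.inr (Or.inr (hd 23 (by norm_num) h)))))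

theorem multiplier_G3 : Cfsg.HasCyclicSchurMultiplier G3 1 := by
  haveI : Finite G3 := Nat.finite_of_card_ne_zero (by rw [card_G3]; norm_num)
  refine multiplier_one fun p hp hdvd Γ _ _ σ hσ hexp => ?_
  rw [card_G3] at hdvd
  rcases prime_cases hp hdvd with rfl | rfl | rfl | rfl | rfl | rfl
  · exact ker_eq_bot bitOps certCo3P2 _ _ (fun τ h => ⟨bitEv _ τ h⟩) (by decide +kernel) okCo3P2 hσ hexp
  · exact ker_eq_bot triOps certCo3P3 _ _ (fun τ h => ⟨triEv _ τ h⟩) (by decide +kernel) okCo3P3 hσ hexp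
  · exact ker_eq_bot (modOps 5 6) certCo3P5 _ _ (fun τ h => ⟨modEv 5 6 τ h⟩) (by decide +kernel) okCo3P5 hσ hexp
  · exact ker_eq_bot (modOps 7 1) certCo3P7 _ _ (fun τ h => ⟨modEv 7 1 τ h⟩) (by decide +kernel) okCo3P7 hσ hexp
  · exact ker_eq_bot (modOps 11 1) certCo3P11 _ _ (fun τ h => ⟨modEv 11 1 τ h⟩) (by decide +kernel) okCo3P11 hσ hexp
  · exact ker_eq_bot (modOps 23 1) certCo3P23 _ _ (fun τ h => ⟨modEv 23 1 τ h⟩) (by decide +kernel) okCo3P23 hσ hexp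

end CfsgLib.KnownA.SchurCert.Co3Cert
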