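import Cfsg.Agent.Lib.KnownA.MathieuSchur
import Cfsg.Agent.Lib.Golay.Co3Out
import Cfsg.Agent.Lib.Golay.MatrixElement
import Mathlib.LinearAlgebra.Matrix.Determinant.Basic

/-!
The kernel checks of `SchurCert` for subgroups of the stabiliser in `Co0` of a vector of sum of
squares 48, with elements given by matrices, computed with modulo 17 in packed rows.
-/

set_option autoImplicit false
set_option maxRecDepth 100000
set_option maxHeartbeats 400000

namespace CfsgLib.KnownA.SchurCert.Co3Cert

open Cfsg CfsgLib.Golay CfsgLib.Golay.Co3Out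

/-- Pairs of masks for exponent three. -/
def norm3 (a : ℕ × ℕ) : ℕ × ℕ :=
  (Nat.xor a.1 (Nat.land a.1 a.2), Nat.xor a.2 (Nat.land a.1 a.2))

/-- Addition of pairs of masks without common bits. -/
def add3' (a b : ℕ × ℕ) : ℕ × ℕ :=
  let A := Nat.lor a.1 a.2
  let B := Nat.lor b.1 b.2
  (Nat.lor (Nat.lor (Nat.xor a.1 (Nat.land a.1 B)) (Nat.xor b.1 (Nat.land b.1 A))) (Nat.land a.2 b.2),
    Nat.lor (Nat.lor (Nat.xor a.2 (Nat.land a.2 B)) (Nat.xor b.2 (Nat.land b.2 A))) (Nat.land a.1 b.1))

/-- Vectors in exponent three. -/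
def triOps : Ops (ℕ × ℕ) :=
  ⟨(0, 0), fun a b => add3' (norm3 a) (norm3 b), fun r => (Nat.shiftLeft 1 r, 0),
    fun a b => Nat.beq (norm3 a).1 (norm3 b).1 && Nat.beq (norm3 a).2 (norm3 b).2⟩

/-- The exponent of a position. -/
def val3 (a : ℕ × ℕ) (r : ℕ) : ℕ := (a.1.testBit r).toNat + 2 * (a.2.testBit r).toNat

theorem val3_norm (a : ℕ × ℕ) (r : ℕ) : val3 (norm3 a) r % 3 = val3 a r % 3 := by
  obtain ⟨a1, a2⟩ := a
  show (((a1 ^^^ (a1 &&& a2)).testBit r).toNat + 2 * ((a2 ^^^ (a1 &&& a2)).testBit r).toNat) % 3 =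
    ((a1.testBit r).toNat + 2 * (a2.testBit r).toNat) % 3
  simp only [Nat.testBit_xor, Nat.testBit_and]
  cases a1.testBit r <;> cases a2.testBit r <;> rfl

theorem val3_add (a b : ℕ × ℕ) (r : ℕ) :
    val3 (triOps.add a b) r % 3 = (val3 a r + val3 b r) % 3 := by
  rw [Nat.add_mod, ← val3_norm a, ← val3_norm b, ← Nat.add_mod]
  obtain ⟨a1, a2⟩ := a
  obtain ⟨b1, b2⟩ := b
  simp only [triOps, val3, add3', norm3]
  simp only [show ∀ x y : ℕ, Nat.lor x y = x ||| y from fun _ _ => rfl,
    show ∀ x y : ℕ, Nat.land x y = x &&& y from fun _ _ => rfl,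
    show ∀ x y : ℕ, Nat.xor x y = x ^^^ y from fun _ _ => rfl]
  simp only [Nat.testBit_or, Nat.testBit_xor, Nat.testBit_and]
  cases a1.testBit r <;> cases a2.testBit r <;> cases b1.testBit r <;> cases b2.testBit r <;> rfl

/-- Pairs of masks evaluate homomorphically in exponent three. -/
noncomputable def triEv {K : Type*} [CommGroup K] (nt : ℕ) (τ : ℕ → K) (h : ∀ x : K, x ^ 3 = 1) :
    Ev triOps nt τ where
  ev a := ∏ r ∈ Finset.range nt, τ r ^ val3 a r
  ev_zero := by simp [triOps, val3]
  ev_add a b := by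
    rw [← Finset.prod_mul_distrib]
    refine Finset.prod_congr rfl fun r _ => ?_
    rw [← pow_add, pow_eq_pow_mod _ (h _), pow_eq_pow_mod (val3 a r + val3 b r) (h _), val3_add]
  ev_unit r hr := by
    show ∏ i ∈ Finset.range nt, τ i ^ (((1 <<< r).testBit i).toNat + 2 * ((0 : ℕ).testBit i).toNat) = τ r
    rw [Finset.prod_eq_single r]
    · simp [Nat.one_shiftLeft]
    · intro i _ hi
      simp [Nat.one_shiftLeft, Ne.symm hi]
    · intro h'; exact absurd (Finset.mem_range.2 hr) h'
  ev_mem W h' a := prod_mem fun r hr => pow_mem (h' r (Finset.mem_range.1 hr)) _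
  beq_eq a b hab := by
    simp only [triOps, Bool.and_eq_true] at hab
    refine Finset.prod_congr rfl fun r _ => ?_
    rw [pow_eq_pow_mod _ (h _), pow_eq_pow_mod (val3 b r) (h _), ← val3_norm a, ← val3_norm b]
    simp only [val3, Nat.eq_of_beq_eq_true hab.1, Nat.eq_of_beq_eq_true hab.2]

/-- Two masks of width 32 in a number. -/
def decTri (i x : ℕ) : ℕ × ℕ := (field 32 (2 * i) x, field 32 (2 * i + 1) x)

/-- The numbers of a list in slots of width 16. -/
def pack : List ℕ → ℕ
  | [] => 0
  | a :: l => a + 2 ^ 16 * pack l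

theorem field_pack : ∀ (l : List ℕ) (i : ℕ), (∀ a ∈ l, a < 2 ^ 16) → field 16 i (pack l) = l.getD i 0
  | [], i, _ => by simp [pack, field]
  | a :: l, 0, h => by
    have ha := h a (List.mem_cons_self ..)
    show (a + 2 ^ 16 * pack l) >>> (16 * 0) % 2 ^ 16 = a
    rw [mul_zero, Nat.shiftRight_zero, Nat.add_mul_mod_self_left, Nat.mod_eq_of_lt ha]
  | a :: l, i + 1, h => by
    have ha := h a (List.mem_cons_self ..)
    show (a + 2 ^ 16 * pack l) >>> (16 * (i + 1)) % 2 ^ 16 = _
    rw [mul_add, mul_one, add_comm (16 * i) 16, Nat.shiftRight_add, Nat.shiftRight_eq_div_pow (a + _) 16,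
      Nat.add_mul_div_left _ _ (by norm_num), Nat.div_eq_of_lt ha, zero_add]
    exact field_pack l i fun b hb => h b (List.mem_cons_of_mem _ hb)

theorem pack_map : ∀ (n : ℕ) (f : ℕ → ℕ),
    pack ((List.range n).map f) = ∑ i ∈ Finset.range n, f i * 2 ^ (16 * i)
  | 0, _ => rfl
  | n + 1, f => by
    rw [List.range_succ_eq_map, List.map_cons, List.map_map, pack, pack_map n (f ∘ Nat.succ),
      Finset.sum_range_succ', Finset.mul_sum, add_comm]
    refine congrArg₂ (· + ·) ?_ ?_
    · refine Finset.sum_congr rfl fun i _ => ?_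
      show 2 ^ 16 * (f (i + 1) * 2 ^ (16 * i)) = f (i + 1) * 2 ^ (16 * (i + 1))
      rw [mul_add, pow_add, mul_one]
      ring
    · simp

/-- The slot of a number, modulo 17. -/
def slot (j a : ℕ) : ℕ := field 16 j a % 17

/-- A row vector times a matrix given by its packed rows. -/
def vecMul (v : ℕ) (rows : List ℕ) : ℕ :=
  (List.range 24).foldr (fun j acc => slot j v * rows.getD j 0 + acc) 0

/-- The matrix with the given entries, as integers. -/
def getM (L : List (List ℤ)) : GolayPt → GolayPt → ℤ := fun i j =>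
  (L.getD (idx i) []).getD (idx j) 0

/-- The matrix of the identity. -/
def idM : List (List ℤ) :=
  (List.range 24).map fun i => (List.range 24).map fun j => if i = j then 8 else 0

/-- The rows of the identity. -/
def idR : List ℕ := (List.range 24).map fun j => 2 ^ (16 * j)

/-- An entry modulo 17. -/
def entry (L : List (List ℤ)) (j i : ℕ) : ℕ := (15 * getM L (pt j) (pt i) % 17).toNat

/-- The matrix is in the stabiliser and the packed rows are its reduction. -/
def matChk (L : List (List ℤ)) (R : List ℕ) : Bool :=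
  matOK (getM L) &&
    ((List.range 24).all fun i => decide (matFun (getM L) five (pt i) = five (pt i))) &&
    (List.range 24).all fun j => Nat.beq (R.getD j 0) (pack ((List.range 24).map (entry L j)))

/-- All the matrices. -/
def checkMats (Ls : List (List (List ℤ))) (Rs : List (List ℕ)) : Bool :=
  Nat.beq Ls.length Rs.length &&
    (List.range (Ls.length + 1)).all fun k => matChk (Ls.getD k idM) (Rs.getD k idR)

theorem checkMats_of_parts (Ls : List (List (List ℤ))) (Rs : List (List ℕ)) (n : ℕ)
    (hL : Ls.length = n) (hR : Rs.length = n)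
    (h : ∀ j < n + 1, matChk (Ls.getD j idM) (Rs.getD j idR) = true) : checkMats Ls Rs = true := by
  simp only [checkMats, Bool.and_eq_true, List.all_eq_true, List.mem_range]
  exact ⟨by rw [hL, hR]; exact Nat.beq_refl n, fun k hk => h k (by omega)⟩

/-- The image of a row vector under a word. -/
def vecW (Rs : List (List ℕ)) : ℕ → List ℕ → ℕ
  | v, [] => v
  | v, k :: w => vecW Rs (vecMul v (Rs.getD k idR)) w

/-- Equal modulo 17. -/
def sameV (a b : ℕ) : Bool := (List.range 24).all fun j => Nat.beq (slot j a) (slot j b)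

/-- A vector for telling matrices apart. -/
def testVec : ℕ := pack [3, 14, 1, 5, 9, 2, 6, 11, 8, 4, 16, 12, 7, 10, 13, 15, 2, 7, 1, 8, 3, 5, 4, 6]

/-- Two words give the same matrix. -/
def eqv (Rs : List (List ℕ)) (w w' : List ℕ) : Bool :=
  bif sameV (vecW Rs testVec w) (vecW Rs testVec w') then
    (List.range 24).all fun j => sameV (vecW Rs (2 ^ (16 * j)) w) (vecW Rs (2 ^ (16 * j)) w')
  else false

/-- A packed vector. -/
def decV (a : ℕ) : GolayPt → ZMod 17 := fun p => (field 16 (idx p) a : ℕ)

theorem slot_cast (j a : ℕ) : ((slot j a : ℕ) : ZMod 17) = (field 16 j a : ℕ) := ZMod.natCast_mod _ _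

theorem sameV_iff {a b : ℕ} : sameV a b = true ↔ decV a = decV b := by
  simp only [sameV, List.all_eq_true, List.mem_range]
  refine ⟨fun h => funext fun p => ?_, fun h j hj => ?_⟩
  · show ((field 16 (idx p) a : ℕ) : ZMod 17) = (field 16 (idx p) b : ℕ)
    rw [← slot_cast, ← slot_cast, Nat.eq_of_beq_eq_true (h _ (idx_lt p))]
  · have h' := congrFun h (pt j)
    simp only [decV, idx_pt hj] at h'
    have h'' := (ZMod.natCast_eq_natCast_iff' _ _ _).1 h'
    rw [slot, slot, h'']
    exact Nat.beq_refl _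

theorem sum_idx {M : Type*} [AddCommMonoid M] (f : ℕ → M) :
    ∑ p : GolayPt, f (idx p) = ∑ j ∈ Finset.range 24, f j :=
  Finset.sum_bij (fun p _ => idx p) (fun p _ => Finset.mem_range.2 (idx_lt p))
    (fun _ _ _ _ h => idx_injective h)
    (fun j hj => ⟨pt j, Finset.mem_univ _, idx_pt (Finset.mem_range.1 hj)⟩) fun _ _ => rfl

theorem decV_vecMul {L : List (List ℤ)} {R : List ℕ} (h : matChk L R = true) (v : ℕ) (p : GolayPt) :
    decV (vecMul v R) p = ∑ q, decV v q * ((15 * getM L q p : ℤ) : ZMod 17) := by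
  simp only [matChk, Bool.and_eq_true, List.all_eq_true, List.mem_range] at h
  obtain ⟨-, hR⟩ := h
  have hent : ∀ j i, entry L j i < 17 := fun j i => by unfold entry; omega
  have e : vecMul v R =
      pack ((List.range 24).map fun i => ∑ j ∈ Finset.range 24, slot j v * entry L j i) := by
    rw [pack_map]
    have hf : vecMul v R = ∑ j ∈ Finset.range 24, slot j v * R.getD j 0 := by
      have g : ∀ (f : ℕ → ℕ) (l : List ℕ),
          l.foldr (fun j acc => f j + acc) 0 = (l.map f).sum := fun f l => by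
        induction l with
        | nil => rfl
        | cons a l ih => simp [ih]
      rw [vecMul, g, ← List.sum_toFinset _ List.nodup_range, List.toFinset_range]
    rw [hf, Finset.sum_congr rfl fun j hj => by
      rw [Nat.eq_of_beq_eq_true (hR j (Finset.mem_range.1 hj)), pack_map, Finset.mul_sum],
      Finset.sum_comm]
    refine Finset.sum_congr rfl fun i _ => ?_
    rw [Finset.sum_mul]
    exact Finset.sum_congr rfl fun j _ => (mul_assoc _ _ _).symm
  show ((field 16 (idx p) (vecMul v R) : ℕ) : ZMod 17) = _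
  rw [e, field_pack _ _ ?_]
  · rw [List.getD_eq_getElem _ _ (by simpa using idx_lt p), List.getElem_map, List.getElem_range,
      Nat.cast_sum, ← sum_idx fun j => ((slot j v * entry L j (idx p) : ℕ) : ZMod 17)]
    refine Finset.sum_congr rfl fun q _ => ?_
    rw [Nat.cast_mul, slot_cast, entry, pt_idx, pt_idx]
    refine congrArg (((field 16 (idx q) v : ℕ) : ZMod 17) * ·) ?_
    rw [← Int.cast_natCast, Int.toNat_of_nonneg (Int.emod_nonneg _ (by norm_num))]
    exact (ZMod.intCast_eq_intCast_iff' _ _ 17).2 (Int.emod_emod _ _)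
  · intro a ha
    obtain ⟨i, -, rfl⟩ := List.mem_map.1 ha
    have : ∑ j ∈ Finset.range 24, slot j v * entry L j i ≤ ∑ j ∈ Finset.range 24, 17 * 17 := by
      refine Finset.sum_le_sum fun j _ => Nat.mul_le_mul (Nat.le_of_lt (Nat.mod_lt _ (by norm_num))) (hent j i).le
    simp at this
    omega

/-- The matrix of an element, modulo 17. -/
noncomputable def rho (g : Co0) : Matrix GolayPt GolayPt (ZMod 17) := fun i j =>
  ((15 * ((g • vec8 j : leechLattice) : GolayPt → ℤ) i : ℤ) : ZMod 17)

theorem smul_coord (g : Co0) (v : leechLattice) (i : GolayPt) :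
    8 * ((g • v : leechLattice) : GolayPt → ℤ) i =
      ∑ k, (v : GolayPt → ℤ) k * ((g • vec8 k : leechLattice) : GolayPt → ℤ) i := by
  have e : (8 : ℤ) • v = ∑ k, (v : GolayPt → ℤ) k • vec8 k := Subtype.ext (funext fun q => by
    rw [AddSubgroup.coe_zsmul, AddSubgroup.val_finsetSum, Finset.sum_apply, Finset.sum_eq_single q]
    · simp [vec8, mul_comm]
    · intro k _ hk
      simp [vec8, Ne.symm hk]
    · simp)
  have h := congrArg (fun u : leechLattice => (((co0Hom g) u : leechLattice) : GolayPt → ℤ) i) e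
  simp only [map_zsmul, map_sum, AddSubgroup.val_finsetSum, Finset.sum_apply,
    AddSubgroup.coe_zsmul, Pi.smul_apply, smul_eq_mul] at h
  exact h

theorem rho_one : rho 1 = 1 := by
  ext i j
  show ((15 * (Pi.single j (8 : ℤ) : GolayPt → ℤ) i : ℤ) : ZMod 17) = _
  rw [Matrix.one_apply, Pi.single_apply]
  split_ifs
  · decide
  · simp

theorem rho_mul (g h : Co0) : rho (g * h) = rho g * rho h := by
  ext i j
  rw [Matrix.mul_apply]
  simp only [rho, mul_smul]
  have e := congrArg (fun z : ℤ => (z : ZMod 17)) (smul_coord g (h • vec8 j) i)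
  simp only [Int.cast_mul, Int.cast_sum, Int.cast_ofNat] at e ⊢
  calc (15 : ZMod 17) * _ = 225 * (8 * _) := by rw [← mul_assoc]; congr 1
    _ = _ := by
      rw [e, Finset.mul_sum]
      exact Finset.sum_congr rfl fun k _ => by rw [show (225 : ZMod 17) = 15 * 15 by decide]; ring

theorem rho_inj {g h : Co0} (e : rho g = rho h) : g = h := by
  have hb : ∀ (u : Co0) (i j : GolayPt), ((u • vec8 j : leechLattice) : GolayPt → ℤ) i ≤ 8 ∧
      -8 ≤ ((u • vec8 j : leechLattice) : GolayPt → ℤ) i := by
    intro u i j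
    have h64 : sqNorm ((u • vec8 j : leechLattice) : GolayPt → ℤ) = 64 := by
      rw [co0_sq]; simp [vec8, sqNorm, Pi.single_apply, ite_pow]
    have : ((u • vec8 j : leechLattice) : GolayPt → ℤ) i ^ 2 ≤ 64 := by
      rw [← h64, sqNorm]
      refine le_of_le_of_eq (Finset.single_le_sum
        (f := fun q => ((u • vec8 j : leechLattice) : GolayPt → ℤ) q ^ 2)
        (fun q _ => sq_nonneg _) (Finset.mem_univ i)) ?_
      simp [pow_two]
    constructor <;> nlinarith
  have key : ∀ j, g • vec8 j = h • vec8 j := fun j => Subtype.ext (funext fun i => by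
    have h1 := congrFun (congrFun e i) j
    simp only [rho] at h1
    have h2 := (ZMod.intCast_eq_intCast_iff' _ _ 17).1 h1
    have := hb g i j
    have := hb h i j
    omega)
  refine co0_ext fun v => Subtype.ext (funext fun i => ?_)
  have h1 := smul_coord g v i
  have h2 := smul_coord h v i
  rw [Finset.sum_congr rfl fun k _ => by rw [key k]] at h1
  omega

theorem rho_matCo0 (L : List (List ℤ)) (h : matOK (getM L) = true) (i j : GolayPt) :
    rho (matCo0 (getM L) h) i j = ((15 * getM L i j : ℤ) : ZMod 17) := by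
  show ((15 * ((matCo0 (getM L) h • vec8 j : leechLattice) : GolayPt → ℤ) i : ℤ) : ZMod 17) = _
  rw [matCo0_smul]
  congr 2
  simp [matFun, dotInt, vec8, Pi.single_apply]

theorem decV_vecMul_rho {L : List (List ℤ)} {R : List ℕ} (h : matChk L R = true)
    (hok : matOK (getM L) = true) (v : ℕ) (p : GolayPt) :
    decV (vecMul v R) p = Matrix.vecMul (decV v) (rho (matCo0 (getM L) hok)) p := by
  rw [decV_vecMul h v p, Matrix.vecMul_eq_sum, Finset.sum_apply]
  refine Finset.sum_congr rfl fun q _ => ?_
  rw [Pi.smul_apply, smul_eq_mul, rho_matCo0]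

theorem decV_unit : ∀ q p : GolayPt, decV (2 ^ (16 * idx q)) p = if p = q then 1 else 0 := by
  decide +kernel

theorem exists_gen {Ls : List (List (List ℤ))} {Rs : List (List ℕ)}
    (h : checkMats Ls Rs = true) :
    ∃ gen : ℕ → G3, ∀ (v : ℕ) (w : List ℕ),
      decV (vecW Rs v w) = Matrix.vecMul (decV v) (rho ((wprod gen w : G3) : Co0)) := by
  simp only [checkMats, Bool.and_eq_true, List.all_eq_true, List.mem_range] at h
  obtain ⟨hlen, hchk⟩ := h
  have hall : ∀ k, matChk (Ls.getD k idM) (Rs.getD k idR) = true := by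
    intro k
    rcases Nat.lt_or_ge k (Ls.length + 1) with hk | hk
    · exact hchk k hk
    · have := hchk Ls.length (Nat.lt_succ_self _)
      rw [List.getD_eq_default _ _ le_rfl, List.getD_eq_default _ _
        (Nat.eq_of_beq_eq_true hlen).ge] at this
      rw [List.getD_eq_default _ _ (by omega),
        List.getD_eq_default _ _ (by rw [← Nat.eq_of_beq_eq_true hlen]; omega)]
      exact this
  have hex : ∀ k, ∃ g : G3, ∀ (v : ℕ),
      decV (vecMul v (Rs.getD k idR)) = Matrix.vecMul (decV v) (rho (g : Co0)) := by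
    intro k
    have hk := hall k
    have hk' := hk
    simp only [matChk, Bool.and_eq_true, List.all_eq_true, List.mem_range, decide_eq_true_iff] at hk'
    obtain ⟨⟨hok, hfix⟩, -⟩ := hk'
    refine ⟨⟨matCo0 _ hok, MulAction.mem_stabilizer_iff.2 (Subtype.ext (funext fun i => ?_))⟩,
      fun v => funext fun p => ?_⟩
    · rw [matCo0_smul]
      have := hfix _ (idx_lt i)
      rw [pt_idx] at this
      exact this
    · exact decV_vecMul_rho hk hok v p
  choose gen hgen using hex
  refine ⟨gen, fun v w => ?_⟩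
  induction w generalizing v with
  | nil => simp [vecW, wprod, rho_one]
  | cons k w ih =>
    have hw : wprod gen (k :: w) = gen k * wprod gen w := by
      rw [wprod, List.map_cons, List.prod_cons, wprod]
    rw [vecW, ih, hgen, Matrix.vecMul_vecMul, ← rho_mul, hw, Subgroup.coe_mul]

/-- The edges from a range of states. -/
def edgesPart {V : Type} (o : Ops V) (C : Cert V) (lo len : ℕ) : Bool :=
  (List.range' lo len).all fun s => (List.range C.n).all fun i => C.edgeOK o s i

/-- Only the first state represents `1`, on a range of states. -/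
def injPart {V : Type} (C : Cert V) (Rs : List (List ℕ)) (lo len : ℕ) : Bool :=
  (List.range' lo len).all fun s => Nat.beq s 0 || !eqv Rs (C.word s) []

/-- The generators act by permutations. -/
def perPart {V : Type} (C : Cert V) : Bool :=
  (List.range C.n).all fun i => Nat.blt 0 (C.per.getD i 0) &&
    (List.range C.N).all fun s => Nat.beq (C.walk s (List.replicate (C.per.getD i 0) i)) s

/-- The checks other than those over all states. -/
def restC {V : Type} (o : Ops V) (C : Cert V) (Rs : List (List ℕ)) : Bool :=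
  C.presOK (eqv Rs) && C.consOK (eqv Rs) && C.finalOK o []

/-- All the checks. -/
def allC {V : Type} (o : Ops V) (C : Cert V) (Ls : List (List (List ℤ))) (Rs : List (List ℕ)) :
    Bool :=
  checkMats Ls Rs && restC o C Rs && C.edgesOK o && C.injOK (eqv Rs)

theorem exists_part {w k s : ℕ} (hw : 0 < w) (hs : s < w * k) :
    ∃ j < k, s ∈ List.range' (w * j) w := by
  refine ⟨s / w, (Nat.div_lt_iff_lt_mul hw).2 (by rwa [mul_comm]), List.mem_range'_1.2 ⟨?_, ?_⟩⟩
  · exact Nat.mul_div_le s w
  · exact (Nat.lt_mul_div_succ s hw).trans_eq (Nat.mul_succ _ _)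

/-- The checks from their parts. -/
theorem allC_of_parts {V : Type} (o : Ops V) (C : Cert V) (Ls : List (List (List ℤ)))
    (Rs : List (List ℕ)) (w k : ℕ) (hw : 0 < w) (hN : C.N = w * k)
    (hm : checkMats Ls Rs = true) (hr : restC o C Rs = true)
    (hp : perPart C = true) (he : ∀ j < k, edgesPart o C (w * j) w = true)
    (hi : ∀ j < k, injPart C Rs (w * j) w = true) : allC o C Ls Rs = true := by
  have e1 : C.edgesOK o = true := by
    rw [Cert.edgesOK, List.all_eq_true]
    intro s hs
    rw [List.mem_range, hN] at hs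
    obtain ⟨j, hj, hsj⟩ := exists_part hw hs
    exact List.all_eq_true.1 (he j hj) s hsj
  have e2 : C.injOK (eqv Rs) = true := by
    rw [Cert.injOK, Bool.and_eq_true]
    refine ⟨hp, List.all_eq_true.2 fun s hs => ?_⟩
    rw [List.mem_range, hN] at hs
    obtain ⟨j, hj, hsj⟩ := exists_part hw hs
    exact List.all_eq_true.1 (hi j hj) s hsj
  simp only [allC, hm, hr, e1, e2, Bool.and_self]

theorem ker_eq_bot {V : Type} (o : Ops V) (C : Cert V) (Ls : List (List (List ℤ)))
    (Rs : List (List ℕ))
    (hev : ∀ {K : Type} [CommGroup K] (τ : ℕ → K), (∀ x : K, x ^ C.p = 1) →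
      Nonempty (Ev o C.rels.length τ))
    (hcard : Nat.Coprime C.p (495766656000 / C.N)) (h : allC o C Ls Rs = true)
    {Γ : Type} [Group Γ] [Finite Γ] {σ : Γ →* G3} (hσ : Cfsg.IsStemExtension σ)
    (hexp : ∀ x ∈ σ.ker, x ^ C.p = 1) : σ.ker = ⊥ := by
  simp only [allC, restC, Bool.and_eq_true] at h
  obtain ⟨⟨⟨hm, ⟨h1, h4⟩, h5⟩, h2⟩, h3⟩ := h
  obtain ⟨gen, hgen⟩ := exists_gen hm
  haveI : Finite G3 := Nat.finite_of_card_ne_zero (by rw [card_G3]; norm_num)
  have hsound : ∀ w w', eqv Rs w w' = true → wprod gen w = wprod gen w' := by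
    intro w w' hww
    simp only [eqv, cond_eq_ite] at hww
    split_ifs at hww
    simp only [List.all_eq_true, List.mem_range, sameV_iff] at hww
    refine Subtype.ext (rho_inj ?_)
    ext q p
    have e := congrFun (hww _ (idx_lt q)) p
    rw [hgen, hgen] at e
    simpa [Matrix.vecMul, dotProduct, decV_unit, ite_mul] using e
  have hne : ∀ w w', eqv Rs w w' = false → wprod gen w ≠ wprod gen w' := by
    intro w w' hww heq
    have hsame : ∀ v, sameV (vecW Rs v w) (vecW Rs v w') = true := fun v => by
      rw [sameV_iff, hgen, hgen, heq]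
    simp [eqv, hsame] at hww
  obtain ⟨τ, -, hle⟩ := ker_le_of_cert (eqv Rs) gen hsound hne o C []
    hev (card_G3 ▸ hcard) h1 h2 h3 h4 h5 hσ hexp
  simpa using hle

end CfsgLib.KnownA.SchurCert.Co3Cert
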