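import Mathlib

/-!
Corestriction of a central extension of a subgroup: the monomial extension of the whole group, the product of
the coordinates in the kernel, and the commutator of lifts of two commuting elements.
-/

set_option autoImplicit false

namespace CfsgLib.KnownA.Cores

open scoped commutatorElement IsMulCommutative

section Monomial

variable {G E I : Type*} [Group G] [Group E] [MulAction G I]

/-- Translation of the coordinates. -/
def shift : G →* MulAut (I → E) where
  toFun g :=
    { toFun := fun f i => f (g⁻¹ • i)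
      invFun := fun f i => f (g • i)
      left_inv := fun f => funext fun i => by simp
      right_inv := fun f => funext fun i => by simp
      map_mul' := fun _ _ => rfl }
  map_one' := MulEquiv.ext fun f => funext fun i => by simp
  map_mul' g h := MulEquiv.ext fun f => funext fun i => by simp [mul_smul]

@[simp] theorem shift_apply (g : G) (f : I → E) (i : I) : shift g f i = f (g⁻¹ • i) := rfl

/-- Monomial elements whose coordinates lie over the cocycle of the transversal `t`. -/
def monSub (π : E →* G) (t : I → G) : Subgroup ((I → E) ⋊[shift (E := E)] G) where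
  carrier := {x | ∀ i, π (x.left i) = (t i)⁻¹ * x.right * t (x.right⁻¹ • i)}
  one_mem' i := by simp
  mul_mem' {x y} hx hy i := by
    simp only [SemidirectProduct.mul_left, SemidirectProduct.mul_right, Pi.mul_apply, shift_apply, map_mul,
      mul_inv_rev, mul_smul]
    rw [hx i, hy (x.right⁻¹ • i)]
    group
  inv_mem' {x} hx i := by
    have h := hx (x.right • i)
    rw [inv_smul_smul] at h
    show π ((shift (E := E) x.right⁻¹ x.left⁻¹) i) = (t i)⁻¹ * x.right⁻¹ * t (x.right⁻¹⁻¹ • i)
    rw [shift_apply, inv_inv, Pi.inv_apply, map_inv, h]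
    group

end Monomial

/-- The corestriction of a central extension with range the stabiliser of the transversal `t`. -/
theorem exists_cores.{u, v, w} {G : Type u} [Group G] [Finite G] {E : Type v} [Group E] [Finite E]
    {I : Type w} [Finite I] [MulAction G I] (i₀ : I) (π : E →* G) (hπ : π.ker ≤ Subgroup.center E)
    (t : I → G) (ht : ∀ g i, (t i)⁻¹ * g * t (g⁻¹ • i) ∈ π.range) :
    ∃ (E' : Type (max u v w)) (_ : Group E') (_ : Finite E') (σ : E' →* G) (ι : π.ker →* E'),
      Function.Surjective σ ∧ σ.ker ≤ Subgroup.center E' ∧ Function.Injective ι ∧ ι.range ≤ σ.ker ∧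
      ∀ (x y : G), x * y = y * x → ∀ (X Y : I → E) (ζ : I → π.ker),
        (∀ i, π (X i) = (t i)⁻¹ * x * t (x⁻¹ • i)) → (∀ i, π (Y i) = (t i)⁻¹ * y * t (y⁻¹ • i)) →
        (∀ i, X i * Y (x⁻¹ • i) = ζ i * (Y i * X (y⁻¹ • i))) → ∀ [Fintype I], ∀ k : π.ker,
        ((∏ i, (⟨ζ i, hπ (ζ i).2⟩ : Subgroup.center E)) = ⟨k, hπ k.2⟩) → ι k ∈ commutator E' := by
  classical
  letI := Fintype.ofFinite I
  let P := monSub π t
  haveI : Finite ((I → E) ⋊[shift (E := E)] G) :=
    Finite.of_injective (fun x => (x.left, x.right)) fun x y h =>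
      SemidirectProduct.ext (congrArg Prod.fst h) (congrArg Prod.snd h)
  let ρ : P →* G := SemidirectProduct.rightHom.comp P.subtype
  have hker : ∀ x : P, (x : (I → E) ⋊[shift (E := E)] G).right = 1 →
      ∀ i, (x : (I → E) ⋊[shift (E := E)] G).left i ∈ π.ker := fun x h1 i => by
    rw [MonoidHom.mem_ker, x.2 i, h1]
    simp
  have key : ∀ (y x : P), (x : (I → E) ⋊[shift (E := E)] G).right = 1 → ∀ i,
      ((y * x * y⁻¹ : P) : (I → E) ⋊[shift (E := E)] G).left i =
        (x : (I → E) ⋊[shift (E := E)] G).left ((y : (I → E) ⋊[shift (E := E)] G).right⁻¹ • i) := by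
    intro y x h1 i
    have hz := Subgroup.mem_center_iff.1
      (hπ (hker x h1 ((y : (I → E) ⋊[shift (E := E)] G).right⁻¹ • i)))
      ((y : (I → E) ⋊[shift (E := E)] G).left i)
    simp [h1, mul_assoc]
    rw [← mul_assoc, hz, mul_inv_cancel_right]
  let K0 : Subgroup P :=
    { carrier := {x | (x : (I → E) ⋊[shift (E := E)] G).right = 1 ∧ ∃ k : I → Subgroup.center E,
        (∀ i, (x : (I → E) ⋊[shift (E := E)] G).left i = k i) ∧ ∏ i, k i = 1}
      one_mem' := ⟨rfl, fun _ => 1, fun i => rfl, by simp⟩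
      mul_mem' := fun {x y} hx hy => by
        obtain ⟨h1, k, hk, hk1⟩ := hx
        obtain ⟨h2, l, hl, hl1⟩ := hy
        refine ⟨by simp [h1, h2], fun i => k i * l i, fun i => ?_,
          by rw [Finset.prod_mul_distrib, hk1, hl1, one_mul]⟩
        simp [h1, hk i, hl i]
      inv_mem' := fun {x} hx => by
        obtain ⟨h1, k, hk, hk1⟩ := hx
        refine ⟨by simp [h1], fun i => (k i)⁻¹, fun i => ?_, by rw [Finset.prod_inv_distrib, hk1, inv_one]⟩
        simp [h1, hk i] }
  haveI : K0.Normal := ⟨fun x hx y => by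
    obtain ⟨h1, k, hk, hk1⟩ := hx
    refine ⟨by simp [h1], fun i => k ((y : (I → E) ⋊[shift (E := E)] G).right⁻¹ • i), fun i => ?_, ?_⟩
    · rw [key y x h1 i, hk]
    · exact (Equiv.prod_comp (MulAction.toPerm (y : (I → E) ⋊[shift (E := E)] G).right⁻¹) k).trans hk1⟩
  have hρ : Function.Surjective ρ := fun g => by
    choose e he using fun i => ht g i
    exact ⟨⟨⟨e, g⟩, he⟩, rfl⟩
  have hK0 : K0 ≤ ρ.ker := fun x hx => hx.1
  let σ := QuotientGroup.lift K0 ρ hK0
  have hcen : σ.ker ≤ Subgroup.center (P ⧸ K0) := by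
    intro z hz
    obtain ⟨x, rfl⟩ := QuotientGroup.mk_surjective z
    have h1 : (x : (I → E) ⋊[shift (E := E)] G).right = 1 := hz
    refine Subgroup.mem_center_iff.2 fun w => ?_
    obtain ⟨y, rfl⟩ := QuotientGroup.mk_surjective w
    rw [← commutatorElement_eq_one_iff_mul_comm, commutatorElement_def, ← QuotientGroup.mk_inv,
      ← QuotientGroup.mk_inv, ← QuotientGroup.mk_mul, ← QuotientGroup.mk_mul, ← QuotientGroup.mk_mul,
      QuotientGroup.eq_one_iff]
    let k : I → Subgroup.center E := fun i => ⟨_, hπ (hker x h1 i)⟩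
    refine ⟨by simp [h1], fun i => k ((y : (I → E) ⋊[shift (E := E)] G).right⁻¹ • i) * (k i)⁻¹,
      fun i => ?_, ?_⟩
    · have hconj : ((y * x * y⁻¹ : P) : (I → E) ⋊[shift (E := E)] G).right = 1 := by simp [h1]
      show (((y * x * y⁻¹ : P) : (I → E) ⋊[shift (E := E)] G) * ((x⁻¹ : P) : _)).left i = _
      rw [SemidirectProduct.mul_left, hconj, map_one, Pi.mul_apply, MulAut.one_apply, key y x h1 i]
      simp [h1, k]
    · rw [Finset.prod_mul_distrib, Finset.prod_inv_distrib, mul_inv_eq_one]
      exact Equiv.prod_comp (MulAction.toPerm (y : (I → E) ⋊[shift (E := E)] G).right⁻¹) k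
  let d : π.ker →* P := MonoidHom.mk'
    (fun k => ⟨⟨Pi.mulSingle i₀ (k : E), 1⟩, fun i => by
      simp only [inv_one, one_smul, mul_one, inv_mul_cancel]
      rcases eq_or_ne i i₀ with rfl | h
      · rw [Pi.mulSingle_eq_same]; exact k.2
      · rw [Pi.mulSingle_eq_of_ne h, map_one]⟩)
    (fun k l => Subtype.ext (SemidirectProduct.ext (by simp [Pi.mulSingle_mul]) (by simp)))
  refine ⟨P ⧸ K0, inferInstance, inferInstance, σ, (QuotientGroup.mk' K0).comp d,
    QuotientGroup.lift_surjective_of_surjective _ _ hρ hK0, hcen, ?_, ?_, ?_⟩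
  · rw [injective_iff_map_eq_one]
    intro k hk
    obtain ⟨-, l, hl, hl1⟩ := (QuotientGroup.eq_one_iff (N := K0) (d k)).1 hk
    have hl' : l = Pi.mulSingle i₀ ⟨k, hπ k.2⟩ := funext fun i => Subtype.ext <| by
      rw [← hl i]
      rcases eq_or_ne i i₀ with rfl | h
      · simp [d]
      · simp [d, Pi.mulSingle_eq_of_ne h]
    rw [hl', Finset.prod_pi_mulSingle', if_pos (Finset.mem_univ _)] at hl1
    exact Subtype.ext (congrArg (fun c : Subgroup.center E => (c : E)) hl1)
  · rintro _ ⟨k, rfl⟩
    rfl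
  · intro x y hxy X Y ζ hX hY hζ inst k hk
    obtain rfl : inst = Fintype.ofFinite I := Subsingleton.elim _ _
    let X' : P := ⟨⟨X, x⟩, hX⟩
    let Y' : P := ⟨⟨Y, y⟩, hY⟩
    let Z : P := ⁅X', Y'⁆
    have hZ : (Z : (I → E) ⋊[shift (E := E)] G) = SemidirectProduct.inl (fun i => (ζ i : E)) := by
      show ((⁅X', Y'⁆ : P) : (I → E) ⋊[shift (E := E)] G) = _
      have h2 : (X' : (I → E) ⋊[shift (E := E)] G) * (Y' : (I → E) ⋊[shift (E := E)] G) =
          SemidirectProduct.inl (fun i => (ζ i : E)) * ((Y' : (I → E) ⋊[shift (E := E)] G) * (X' : (I → E) ⋊[shift (E := E)] G)) := by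
        refine SemidirectProduct.ext (funext fun i => ?_) ?_
        · simpa [X', Y'] using hζ i
        · simpa [X', Y'] using hxy
      rw [show ((⁅X', Y'⁆ : P) : (I → E) ⋊[shift (E := E)] G) =
        ⁅(X' : (I → E) ⋊[shift (E := E)] G), (Y' : (I → E) ⋊[shift (E := E)] G)⁆ from rfl,
        commutatorElement_def, h2]
      group
    have hmk : QuotientGroup.mk' K0 (d k) = QuotientGroup.mk' K0 Z := by
      rw [QuotientGroup.mk'_apply, QuotientGroup.mk'_apply, QuotientGroup.eq]
      let e : I → Subgroup.center E :=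
        Pi.mulSingle (M := fun _ : I => Subgroup.center E) i₀ ⟨k, hπ k.2⟩
      refine ⟨?_, fun i => (e i)⁻¹ * ⟨ζ i, hπ (ζ i).2⟩,
        fun i => ?_, ?_⟩
      · simp [d, hZ]
      · rcases eq_or_ne i i₀ with rfl | h
        · simp [d, e, hZ]
        · simp [d, e, hZ, Pi.mulSingle_eq_of_ne h]
      · rw [Finset.prod_mul_distrib, Finset.prod_inv_distrib, Finset.prod_pi_mulSingle',
          if_pos (Finset.mem_univ _), hk, inv_mul_cancel]
    show QuotientGroup.mk' K0 (d k) ∈ _
    rw [hmk, show QuotientGroup.mk' K0 Z = ⁅QuotientGroup.mk' K0 X', QuotientGroup.mk' K0 Y'⁆ from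
      map_commutatorElement _ _ _, commutator_def]
    exact Subgroup.commutator_mem_commutator (Subgroup.mem_top _) (Subgroup.mem_top _)

end CfsgLib.KnownA.Cores
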