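import Cfsg.Agent.Lib.KnownA.Cores
import Cfsg.Agent.Lib.StructB.StemOfCentral

/-!
Corestriction of a central extension detected on a pair of commuting elements: only the cosets
fixed by both elements contribute to the commutator of the lifts.
-/

set_option autoImplicit false

namespace CfsgLib.KnownA.Cores

open scoped commutatorElement IsMulCommutative

variable {G E : Type*} [Group G] [Group E]

theorem fixed_iff (π : E →* G) (x g : G) :
    x • (g : G ⧸ π.range) = (g : G ⧸ π.range) ↔ g⁻¹ * x * g ∈ π.range := by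
  rw [MulAction.Quotient.smul_coe, smul_eq_mul, eq_comm, QuotientGroup.eq, mul_assoc]

/-- Elements over a cyclic subgroup commute when the kernel is central. -/
theorem commute_of_cyclic (π : E →* G) (hπ : π.ker ≤ Subgroup.center E) (K : Subgroup G) [IsCyclic K]
    {a b : E} (ha : π a ∈ K) (hb : π b ∈ K) : a * b = b * a := by
  haveI : IsCyclic ↥(K ⊓ π.range : Subgroup G) := Subgroup.isCyclic_of_le inf_le_left
  obtain ⟨g, hg⟩ := IsCyclic.exists_generator (α := ↥(K ⊓ π.range : Subgroup G))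
  obtain ⟨e, he⟩ := g.2.2
  obtain ⟨m, hm⟩ := hg ⟨π a, ha, a, rfl⟩
  obtain ⟨n, hn⟩ := hg ⟨π b, hb, b, rfl⟩
  have key : ∀ (c : E) (k : ℤ), ((g ^ k : ↥(K ⊓ π.range : Subgroup G)) : G) = π c →
      ∃ z ∈ Subgroup.center E, c = e ^ k * z := fun c k h => by
    refine ⟨(e ^ k)⁻¹ * c, hπ ?_, by group⟩
    rw [MonoidHom.mem_ker, map_mul, map_inv, map_zpow, he, ← h, SubgroupClass.coe_zpow,
      inv_mul_cancel]
  obtain ⟨z, hz, rfl⟩ := key a m (congrArg Subtype.val hm)
  obtain ⟨z', hz', rfl⟩ := key b n (congrArg Subtype.val hn)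
  have cz := fun w => Subgroup.mem_center_iff.1 hz w
  have cz' := fun w => Subgroup.mem_center_iff.1 hz' w
  exact ((((Commute.refl e).zpow_zpow m n).mul_right (cz' _)).mul_left
    (show Commute z _ from (cz (e ^ n * z')).symm)).eq

/-- If the lifts of the conjugates of a commuting pair, over the fixed cosets, have commutators
with product `k`, then the order of `k` divides the order of the kernel of a stem extension. -/
theorem exists_stem_of_pair.{u, v} {G : Type u} [Group G] [Finite G] {E : Type v} [Group E]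
    [Finite E] (π : E →* G) (hπ : π.ker ≤ Subgroup.center E) (x y : G) (hxy : x * y = y * x)
    (hcyc : ∀ D : Subgroup G, D ≤ Subgroup.closure {x, y} → D ≠ Subgroup.closure {x, y} → IsCyclic D)
    {ι : Type} [Fintype ι] (l : ι → G) (X Y : ι → E)
    (hX : ∀ a, π (X a) = (l a)⁻¹ * x * l a) (hY : ∀ a, π (Y a) = (l a)⁻¹ * y * l a)
    (hinj : ∀ a b, (l a)⁻¹ * l b ∈ π.range → a = b)
    (hall : ∀ g : G, g⁻¹ * x * g ∈ π.range → g⁻¹ * y * g ∈ π.range →
      ∃ a, (l a)⁻¹ * g ∈ π.range)
    (k : π.ker) (hk : ((Finset.univ : Finset ι).toList.map fun a => ⁅X a, Y a⁆).prod = (k : E)) :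
    ∃ (Γ : Type u) (_ : Group Γ) (_ : Finite Γ) (τ : Γ →* G), Cfsg.IsStemExtension τ ∧
      orderOf k ∣ Nat.card τ.ker := by
  classical
  let C : Subgroup G := Subgroup.closure {x, y}
  have hxC : x ∈ C := Subgroup.subset_closure (Set.mem_insert _ _)
  have hyC : y ∈ C := Subgroup.subset_closure (Set.mem_insert_of_mem _ rfl)
  let I := G ⧸ π.range
  letI : Fintype I := Fintype.ofFinite I
  let rep : I → I := fun i => Quotient.out (Quotient.mk (MulAction.orbitRel C I) i)
  have hrep : ∀ i, ∃ c : C, c • rep i = i := fun i => by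
    have := Quotient.mk_out (s := MulAction.orbitRel C I) i
    exact MulAction.mem_orbit_symm.1 this
  choose c hc using hrep
  have hrep_smul : ∀ (g : C) i, rep (g • i) = rep i := fun g i =>
    congrArg Quotient.out (Quotient.sound (s := MulAction.orbitRel C I)
      (MulAction.mem_orbit i g))
  let t : I → G := fun i => (c i : G) * Quotient.out (rep i)
  have hmk : ∀ i, ((t i : G) : I) = i := fun i => by
    refine Eq.trans ?_ (hc i)
    conv_rhs => rw [← QuotientGroup.out_eq' (rep i)]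
    rfl
  have ht : ∀ g i, (t i)⁻¹ * g * t (g⁻¹ • i) ∈ π.range := fun g i => by
    rw [mul_assoc, ← QuotientGroup.eq, hmk]
    conv_rhs => rw [← smul_eq_mul, ← MulAction.Quotient.smul_coe, hmk, smul_inv_smul]
  choose LX hLX using fun i => ht x i
  choose LY hLY using fun i => ht y i
  have hcomm' : x⁻¹ * y⁻¹ = y⁻¹ * x⁻¹ := by rw [← mul_inv_rev, ← mul_inv_rev, hxy]
  let ζ : I → π.ker := fun i => ⟨LX i * LY (x⁻¹ • i) * (LY i * LX (y⁻¹ • i))⁻¹, by
    rw [MonoidHom.mem_ker, map_mul, map_inv, map_mul, map_mul, hLX, hLY, hLY, hLX, smul_smul,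
      smul_smul, hcomm', mul_inv_eq_one]
    calc (t i)⁻¹ * x * t (x⁻¹ • i) * ((t (x⁻¹ • i))⁻¹ * y * t ((y⁻¹ * x⁻¹) • i))
        = (t i)⁻¹ * (x * y) * t ((y⁻¹ * x⁻¹) • i) := by group
      _ = _ := by rw [hxy]; group⟩
  have hζ : ∀ i, LX i * LY (x⁻¹ • i) = ζ i * (LY i * LX (y⁻¹ • i)) := fun i => by
    show _ = LX i * LY (x⁻¹ • i) * (LY i * LX (y⁻¹ • i))⁻¹ * _
    group
  obtain ⟨E', _, _, σ, j, hσ, hσc, hj, hjr, hcor⟩ := exists_cores ((1 : G) : I) π hπ t ht
  let z : I → Subgroup.center E := fun i => ⟨ζ i, hπ (ζ i).2⟩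
  let F : Finset I := Finset.univ.filter fun i => x • i = i ∧ y • i = i
  -- the orbits which are not fixed contribute nothing
  have horb : ∀ r : I, ¬ (x • r = r ∧ y • r = r) →
      ∏ i ∈ Finset.univ.filter (fun i => rep i = r), z i = 1 := by
    intro r hr
    rcases (Finset.univ.filter fun i => rep i = r).eq_empty_or_nonempty with he | ⟨i₁, hi₁⟩
    · rw [he, Finset.prod_empty]
    let q : G := Quotient.out r
    let D : Subgroup G := C ⊓ MulAction.stabilizer G r
    have hD : D ≠ C := fun h => hr ⟨(h.ge hxC).2, (h.ge hyC).2⟩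
    haveI : IsCyclic D := hcyc D inf_le_left hD
    let K : Subgroup G := D.map (MulAut.conj q⁻¹).toMonoidHom
    haveI : IsCyclic K := isCyclic_of_surjective
      ((D.equivMapOfInjective _ (MulAut.conj q⁻¹).injective).toMonoidHom)
      (D.equivMapOfInjective _ (MulAut.conj q⁻¹).injective).surjective
    have hKmem : ∀ (g : G) (hg : g ∈ C) (i : I), rep i = r →
        (t i)⁻¹ * g * t (g⁻¹ • i) ∈ K := fun g hg i hi => by
      have hi' : rep (g⁻¹ • i) = r := (hrep_smul ⟨g⁻¹, C.inv_mem hg⟩ i).trans hi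
      refine ⟨((c i : G))⁻¹ * g * (c (g⁻¹ • i) : G), ⟨C.mul_mem (C.mul_mem (C.inv_mem (c i).2) hg)
        (c _).2, ?_⟩, ?_⟩
      · show _ • r = r
        have e1 : (c (g⁻¹ • i) : G) • r = g⁻¹ • i := by
          have := hc (g⁻¹ • i)
          rwa [hi'] at this
        have e2 : (c i : G) • r = i := by
          have := hc i
          rwa [hi] at this
        rw [mul_smul, mul_smul, e1, smul_inv_smul, inv_smul_eq_iff, e2]
      · simp only [t, q, hi, hi', MulEquiv.toMonoidHom_eq_coe, MonoidHom.coe_coe, MulAut.conj_apply]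
        group
    let A : Set E := {a | π a ∈ K}
    let SA : Subgroup E := Subgroup.closure A
    letI : CommGroup SA := Subgroup.closureCommGroupOfComm fun a ha b hb => commute_of_cyclic π hπ K ha hb
    let fX : I → SA := fun i => if h : rep i = r then
      ⟨LX i, Subgroup.subset_closure (show π (LX i) ∈ K by rw [hLX]; exact hKmem x hxC i h)⟩ else 1
    let fY : I → SA := fun i => if h : rep i = r then
      ⟨LY i, Subgroup.subset_closure (show π (LY i) ∈ K by rw [hLY]; exact hKmem y hyC i h)⟩ else 1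
    let O := Finset.univ.filter fun i => rep i = r
    have hinv : ∀ (g : G), g ∈ C → ∀ f : I → SA, ∏ i ∈ O, f (g • i) = ∏ i ∈ O, f i := fun g hg f => by
      refine Finset.prod_bij' (fun i _ => g • i) (fun i _ => g⁻¹ • i) ?_ ?_ ?_ ?_ ?_
      · intro i hi
        simp only [O, Finset.mem_filter, Finset.mem_univ, true_and] at hi ⊢
        exact (hrep_smul ⟨g, hg⟩ i).trans hi
      · intro i hi
        simp only [O, Finset.mem_filter, Finset.mem_univ, true_and] at hi ⊢
        exact (hrep_smul ⟨g⁻¹, C.inv_mem hg⟩ i).trans hi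
      · exact fun i _ => inv_smul_smul g i
      · exact fun i _ => smul_inv_smul g i
      · exact fun i _ => rfl
    let w : I → SA := fun i => fX i * fY (x⁻¹ • i) * (fY i * fX (y⁻¹ • i))⁻¹
    have hw1 : ∏ i ∈ O, w i = 1 := by
      simp only [w, Finset.prod_mul_distrib, Finset.prod_inv_distrib, hinv _ (C.inv_mem hxC),
        hinv _ (C.inv_mem hyC)]
      rw [mul_comm (∏ i ∈ O, fY i), mul_inv_cancel]
    have hw : ∀ i ∈ O, ((w i : SA) : E) = (z i : E) := fun i hi => by
      simp only [O, Finset.mem_filter, Finset.mem_univ, true_and] at hi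
      have hx' : rep (x⁻¹ • i) = r := (hrep_smul ⟨x⁻¹, C.inv_mem hxC⟩ i).trans hi
      have hy' : rep (y⁻¹ • i) = r := (hrep_smul ⟨y⁻¹, C.inv_mem hyC⟩ i).trans hi
      simp [w, z, ζ, fX, fY, hi, hx', hy']
    refine Subtype.ext ?_
    have h1 : ((∏ i ∈ O, w i : SA) : E) = (O.toList.map fun i => (w i : E)).prod := by
      rw [← Finset.prod_map_toList, SubmonoidClass.coe_list_prod, List.map_map]; rfl
    have h2 : ((∏ i ∈ O, z i : Subgroup.center E) : E) = (O.toList.map fun i => (z i : E)).prod := by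
      rw [← Finset.prod_map_toList, SubmonoidClass.coe_list_prod, List.map_map]; rfl
    show ((∏ i ∈ O, z i : Subgroup.center E) : E) = ((1 : Subgroup.center E) : E)
    rw [h2, ← List.map_congr_left fun i hi => hw i (Finset.mem_toList.1 hi), ← h1, hw1]
    rfl
  -- the fixed cosets
  have hfixrep : ∀ i, x • i = i → y • i = i → rep i = i := fun i h1 h2 => by
    have hC : C ≤ MulAction.stabilizer G i := (Subgroup.closure_le _).2 (by
      rintro g (rfl | rfl)
      · exact h1
      · exact h2)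
    exact (eq_inv_smul_iff.2 (hc i)).trans (hC (C.inv_mem (c i).2))
  have hfib : ∀ i, (x • rep i = rep i ∧ y • rep i = rep i) ↔ (x • i = i ∧ y • i = i) := fun i => by
    constructor
    · rintro ⟨h1, h2⟩
      have hC : C ≤ MulAction.stabilizer G (rep i) := (Subgroup.closure_le _).2 (by
        rintro g (rfl | rfl)
        · exact h1
        · exact h2)
      have : i = rep i := (hc i).symm.trans (hC (c i).2)
      rw [this]; exact ⟨h1, h2⟩
    · rintro ⟨h1, h2⟩
      rw [hfixrep i h1 h2]; exact ⟨h1, h2⟩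
  have hprod : ∏ i, z i = ∏ i ∈ F, z i := by
    rw [← Finset.prod_filter_mul_prod_filter_not Finset.univ (fun i => x • i = i ∧ y • i = i) z]
    convert mul_one _
    rw [← Finset.prod_fiberwise_of_maps_to (t := (Finset.univ.filter fun i : I =>
      ¬ (x • i = i ∧ y • i = i))) (g := rep) (fun i hi => by
        simp only [Finset.mem_filter, Finset.mem_univ, true_and] at hi ⊢
        exact fun h => hi ((hfib i).1 h))]
    refine Finset.prod_eq_one fun r hr => ?_
    simp only [Finset.mem_filter, Finset.mem_univ, true_and] at hr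
    rw [Finset.filter_filter]
    refine Eq.trans (Finset.prod_congr ?_ fun _ _ => rfl) (horb r hr)
    ext i
    simp only [Finset.mem_filter, Finset.mem_univ, true_and, and_iff_right_iff_imp]
    rintro rfl h
    exact hr ((hfib i).2 h)
  -- the values at the listed cosets
  have hval : ∀ a, (z ((l a : G) : I) : E) = ⁅X a, Y a⁆ := fun a => by
    have h1 : x • ((l a : G) : I) = (l a : G) := (fixed_iff π x _).2 ⟨_, hX a⟩
    have h2 : y • ((l a : G) : I) = (l a : G) := (fixed_iff π y _).2 ⟨_, hY a⟩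
    set i : I := ((l a : G) : I) with hi
    obtain ⟨e, he⟩ : (l a)⁻¹ * t i ∈ π.range := QuotientGroup.eq.1 (hmk i).symm
    have hti : t i = l a * π e := by rw [he]; group
    have hx' : x⁻¹ • i = i := inv_smul_eq_iff.2 h1.symm
    have hy' : y⁻¹ • i = i := inv_smul_eq_iff.2 h2.symm
    have cen : ∀ (L W : E), π L = π W → ∃ u ∈ Subgroup.center E, L = W * u := fun L W h =>
      ⟨W⁻¹ * L, hπ (by rw [MonoidHom.mem_ker, map_mul, map_inv, h, inv_mul_cancel]), by group⟩
    obtain ⟨u, hu, eu⟩ := cen (LX i) (e⁻¹ * X a * e) (by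
      rw [hLX, hx', hti, map_mul, map_mul, map_inv, hX]; group)
    obtain ⟨v, hv, ev⟩ := cen (LY i) (e⁻¹ * Y a * e) (by
      rw [hLY, hy', hti, map_mul, map_mul, map_inv, hY]; group)
    have hK : ⁅X a, Y a⁆ ∈ Subgroup.center E := hπ (by
      rw [MonoidHom.mem_ker, map_commutatorElement, commutatorElement_eq_one_iff_mul_comm, hX, hY]
      calc (l a)⁻¹ * x * l a * ((l a)⁻¹ * y * l a) = (l a)⁻¹ * (x * y) * l a := by group
        _ = _ := by rw [hxy]; group)
    show LX i * LY (x⁻¹ • i) * (LY i * LX (y⁻¹ • i))⁻¹ = _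
    rw [hx', hy', eu, ev]
    have cu := fun w => Subgroup.mem_center_iff.1 hu w
    have cv := fun w => Subgroup.mem_center_iff.1 hv w
    have cK := fun w => Subgroup.mem_center_iff.1 hK w
    calc e⁻¹ * X a * e * u * (e⁻¹ * Y a * e * v) * (e⁻¹ * Y a * e * v * (e⁻¹ * X a * e * u))⁻¹
        = e⁻¹ * X a * e * (e⁻¹ * Y a * e * v * u) * (e⁻¹ * Y a * e * (e⁻¹ * X a * e * u * v))⁻¹ := by
          rw [cu (e⁻¹ * Y a * e * v), cv (e⁻¹ * X a * e * u), mul_assoc (e⁻¹ * X a * e) u,
            mul_assoc (e⁻¹ * Y a * e) v]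
      _ = e⁻¹ * X a * e * (e⁻¹ * Y a * e * (v * u)) *
            (e⁻¹ * Y a * e * (e⁻¹ * X a * e * (u * v)))⁻¹ := by
          simp only [mul_assoc]
      _ = e⁻¹ * ⁅X a, Y a⁆ * e := by rw [cu v, commutatorElement_def]; group
      _ = ⁅X a, Y a⁆ := by rw [mul_assoc, ← cK e]; group
  have hFz : ((∏ i ∈ F, z i : Subgroup.center E) : E) = k := by
    have hF : F = (Finset.univ : Finset ι).image fun a => ((l a : G) : I) := by
      ext i
      simp only [F, Finset.mem_filter, Finset.mem_univ, true_and, Finset.mem_image]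
      constructor
      · rintro ⟨h1, h2⟩
        obtain ⟨g, rfl⟩ := QuotientGroup.mk_surjective i
        obtain ⟨a, ha⟩ := hall g ((fixed_iff π x g).1 h1) ((fixed_iff π y g).1 h2)
        exact ⟨a, QuotientGroup.eq.2 ha⟩
      · rintro ⟨a, rfl⟩
        exact ⟨(fixed_iff π x _).2 ⟨_, hX a⟩, (fixed_iff π y _).2 ⟨_, hY a⟩⟩
    rw [hF, Finset.prod_image fun a _ b _ h => hinj a b (QuotientGroup.eq.1 h), ← Finset.prod_map_toList,
      SubmonoidClass.coe_list_prod, List.map_map, ← hk]
    exact congrArg List.prod (List.map_congr_left fun a _ => hval a)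
  have hkc : ∏ i, z i = ⟨k, hπ k.2⟩ := by rw [hprod]; exact Subtype.ext hFz
  have hmem := hcor x y hxy LX LY ζ hLX hLY hζ k hkc
  obtain ⟨Γ, _, _, τ, hτ, ρ, hρ⟩ := CfsgLib.StructB.exists_stem_of_central σ hσ hσc
  obtain ⟨w, hw⟩ := hρ ⟨j k, hjr ⟨k, rfl⟩⟩ hmem
  refine ⟨Γ, inferInstance, inferInstance, τ, hτ, ?_⟩
  have e1 : orderOf k = orderOf (⟨j k, hjr ⟨k, rfl⟩⟩ : σ.ker) := by
    rw [← Subgroup.orderOf_coe (H := σ.ker), orderOf_injective j hj]
  rw [e1, ← hw]
  exact (orderOf_map_dvd ρ w).trans (orderOf_dvd_natCard w)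

end CfsgLib.KnownA.Cores
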