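import Cfsg.Agent.Lib.KnownA.CosetInv

/-!
# Membership goals for certified partial coset enumerations

A loop of checked facts at node `0` reading the word `g` shows that the word lies in the subgroup;
no closed table is needed.
-/

set_option autoImplicit false

namespace CfsgLib.KnownA.CosetInv

open CfsgLib.InvChar.Coset

/-- The facts listed in the stream `st` form a loop at node `0` reading the word `g`. -/
noncomputable def Cert.chkGoal (D : Cert) (n st : ℕ) (g : List ℕ) : Bool :=
  D.walk D.nf n st 0 [] fun _ c L => Nat.beq c 0 && leq L.reverse g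

/-- A checked loop gives membership. -/
theorem mem_of_chkGoal {G : Type*} [Group G] {D : Cert} {s : ℕ → G} {H : Subgroup G}
    (hg : Good D s) (hR : ∀ r ∈ D.rels, wprod s r = 1) (hS : ∀ r ∈ D.subs, wprod s r ∈ H)
    (hF : ∃ nb, D.nf ≤ nb * 128 ∧ ∀ j < nb, D.chkRun 128 (j * 128) (D.just.get j) = true)
    {n st : ℕ} {g : List ℕ} (h : D.chkGoal n st g = true) : wprod s g ∈ H := by
  obtain ⟨nb, hnb, hblk⟩ := hF
  obtain ⟨st', c, L, hk, hi⟩ :=
    walk_sound hg (holds_of_blocks hg hR hS nb hnb hblk) _ _ _ _ _ h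
  rw [Bool.and_eq_true] at hk
  have := hi 1 (by simp [wprod, nodeRep])
  rw [Nat.eq_of_beq_eq_true hk.1, eq_of_leq _ _ hk.2, nodeRep, inv_one, mul_one, one_mul] at this
  exact this

/-- All words of a list of checked loops lie in the subgroup. -/
theorem mem_of_chkGoals {G : Type*} [Group G] {D : Cert} {s : ℕ → G} {H : Subgroup G}
    (hg : Good D s) (hR : ∀ r ∈ D.rels, wprod s r = 1) (hS : ∀ r ∈ D.subs, wprod s r ∈ H)
    (hF : ∃ nb, D.nf ≤ nb * 128 ∧ ∀ j < nb, D.chkRun 128 (j * 128) (D.just.get j) = true)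
    {P : List (ℕ × ℕ × List ℕ)} (h : ∀ p ∈ P, D.chkGoal p.1 p.2.1 p.2.2 = true) :
    ∀ g ∈ P.map (fun p => p.2.2), wprod s g ∈ H := by
  intro g hgm
  obtain ⟨p, hp, rfl⟩ := List.mem_map.1 hgm
  exact mem_of_chkGoal hg hR hS hF (h p hp)

end CfsgLib.KnownA.CosetInv
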