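import Cfsg.Agent.Lib.InvChar.CosetPerm

/-!
# Certified coset enumerations for generators that need not be involutions

The variant of `CfsgLib.InvChar.Coset` in which every letter `x` has an inverse letter `iv x`.
A fact `(a, x, b)` claims `w a * s x * (w b)⁻¹ ∈ H`; walking it backwards reads the letter `iv x`.
-/

set_option autoImplicit false

namespace CfsgLib.KnownA.CosetInv

open CfsgLib.InvChar.Coset

/-- A derivation certificate with inverse letters. -/
structure Cert where
  /-- number of facts -/
  nf : ℕ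
  /-- number of defining facts (they come first) -/
  nd : ℕ
  /-- packed facts `(a, x, b)` -/
  facts : Tr
  /-- packed justifications, one stream for each block of 128 facts -/
  just : Tr
  /-- relators -/
  rels : List (List ℕ)
  /-- words generating the subgroup -/
  subs : List (List ℕ)
  /-- the inverse letters, four bits each -/
  ivs : ℕ

namespace Cert

variable (D : Cert)

/-- The inverse of a letter. -/
noncomputable def iv (x : ℕ) : ℕ := bif Nat.blt x 16 then (D.ivs >>> (4 * x)) % 16 else x

/-- The packed fact `i`. -/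
noncomputable def fact (i : ℕ) : ℕ := field D.facts 128 44 i

/-- Source of fact `i`. -/
noncomputable def fa (i : ℕ) : ℕ := D.fact i % 2 ^ 20
/-- Letter of fact `i`. -/
noncomputable def fx (i : ℕ) : ℕ := (D.fact i >>> 20) % 16
/-- Target of fact `i`. -/
noncomputable def fb (i : ℕ) : ℕ := D.fact i >>> 24

/-- Follow `n` earlier facts from node `c`; letters are accumulated in reverse. -/
noncomputable def walk (t : ℕ) (n : ℕ) :
    ℕ → ℕ → List ℕ → (ℕ → ℕ → List ℕ → Bool) → Bool :=
  Nat.rec (fun s c L k => k s c L)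
    (fun _ ih s c L k =>
      force (s % 2 ^ 20) fun r => Nat.blt r t &&
        force (D.fa r) fun a => force (D.fx r) fun x => force (D.fb r) fun b =>
          force (s >>> 20) fun s' =>
            bif Nat.beq c a then ih s' b (consX x L) k
            else Nat.beq c b && force (D.iv x) fun y => ih s' a (consX y L) k) n

/-- A relator of the list, rotated and possibly inverted. -/
noncomputable def relWord (rel rot rev : ℕ) : List ℕ :=
  bif Nat.beq rev 0 then (D.rels.getD rel []).drop rot ++ (D.rels.getD rel []).take rot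
  else (((D.rels.getD rel []).drop rot ++ (D.rels.getD rel []).take rot).map D.iv).reverse

/-- The test applied at the end of the two walks justifying fact `(a, x, b)`. -/
noncomputable def concl (a x kind rel rot rev c₁ : ℕ) (L₁ : List ℕ) (c₂ : ℕ) (L₂ : List ℕ) : Bool :=
  Nat.beq c₂ a &&
    bif Nat.beq kind 0 then leq (consX x (L₁.reverse ++ L₂.reverse)) (D.relWord rel rot rev)
    else Nat.beq c₁ 0 && leq (L₂.reverse ++ consX x L₁.reverse) (D.subs.getD rel [])

/-- Check the derived fact `t` whose justification starts the stream `s`. -/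
noncomputable def chkFact (t s : ℕ) (k : ℕ → Bool) : Bool :=
  force (s % 2 ^ 12) fun n₁ => force ((s >>> 12) % 2 ^ 12) fun n₂ =>
  force ((s >>> 24) % 2 ^ 8) fun rel => force ((s >>> 32) % 2 ^ 8) fun rot =>
  force ((s >>> 40) % 2) fun rev => force ((s >>> 41) % 2) fun kind =>
  force (s >>> 42) fun s₁ =>
  D.walk t n₁ s₁ (D.fb t) [] fun s₂ c₁ L₁ =>
    D.walk t n₂ s₂ c₁ [] fun s₃ c₂ L₂ =>
      D.concl (D.fa t) (D.fx t) kind rel rot rev c₁ L₁ c₂ L₂ && k s₃

/-- Check the defining fact `t`, which defines node `t + 1`. -/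
noncomputable def chkDef (t : ℕ) : Bool :=
  Nat.ble (D.fa t) t && Nat.beq (D.fb t) (t + 1)

/-- Check `n` facts starting from fact `t`, reading the stream `s`. -/
noncomputable def chkRun (n : ℕ) : ℕ → ℕ → Bool :=
  Nat.rec (fun _ _ => true)
    (fun _ ih t s =>
      bif Nat.blt t D.nf then
        force (t + 1) fun t' =>
          bif Nat.blt t D.nd then D.chkDef t && ih t' s else D.chkFact t s (ih t')
      else true) n

/-- Check `cnt` blocks starting from block `j`. -/
noncomputable def chkBlocks (cnt : ℕ) : ℕ → Bool :=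
  Nat.rec (fun _ => true)
    (fun _ ih j => force (D.just.get j) (fun s => D.chkRun 128 (j * 128) s) && force (j + 1) ih) cnt

/-- One row of the link between the table and the facts. -/
noncomputable def chkRow (T : Table) (live fin : Tr) (i : ℕ) (m : ℕ) : Bool :=
  Nat.rec true
    (fun x ih =>
      force (field fin 128 20 (i * T.g + x)) (fun f => force (T.app i x) fun j =>
        Nat.blt j T.n && Nat.blt f D.nf &&
          ((Nat.beq (D.fx f) x &&
              (Nat.beq (D.fa f) (field live 128 20 i) && Nat.beq (D.fb f) (field live 128 20 j))) ||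
            (Nat.beq (D.fx f) (D.iv x) &&
              (Nat.beq (D.fb f) (field live 128 20 i) && Nat.beq (D.fa f) (field live 128 20 j))))) && ih) m

/-- The link for `cnt` rows from `i`. -/
noncomputable def chkRows (T : Table) (live fin : Tr) (cnt : ℕ) : ℕ → Bool :=
  Nat.rec (fun _ => true)
    (fun _ ih i => D.chkRow T live fin i T.g && force (i + 1) ih) cnt

/-- What a checked row says. -/
def RowOK (T : Table) (live fin : Tr) (i : ℕ) : Prop :=
  ∀ x < T.g, T.app i x < T.n ∧ ∃ f < D.nf,
    (D.fx f = x ∧ D.fa f = field live 128 20 i ∧ D.fb f = field live 128 20 (T.app i x)) ∨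
      (D.fx f = D.iv x ∧ D.fb f = field live 128 20 i ∧ D.fa f = field live 128 20 (T.app i x))

theorem chkRow_sound {T : Table} {live fin : Tr} {i : ℕ} : ∀ m, D.chkRow T live fin i m = true →
    ∀ x < m, T.app i x < T.n ∧ ∃ f < D.nf,
      (D.fx f = x ∧ D.fa f = field live 128 20 i ∧ D.fb f = field live 128 20 (T.app i x)) ∨
        (D.fx f = D.iv x ∧ D.fb f = field live 128 20 i ∧ D.fa f = field live 128 20 (T.app i x)) := by
  intro m
  induction m with
  | zero => intro _ x hx; omega
  | succ m ih =>
    intro hm x hx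
    have h' : (force (field fin 128 20 (i * T.g + m)) (fun f => force (T.app i m) fun j =>
        Nat.blt j T.n && Nat.blt f D.nf &&
          ((Nat.beq (D.fx f) m &&
              (Nat.beq (D.fa f) (field live 128 20 i) && Nat.beq (D.fb f) (field live 128 20 j))) ||
            (Nat.beq (D.fx f) (D.iv m) &&
              (Nat.beq (D.fb f) (field live 128 20 i) && Nat.beq (D.fa f) (field live 128 20 j))))) &&
        D.chkRow T live fin i m) = true := hm
    simp only [force_eq, Bool.and_eq_true, Bool.or_eq_true] at h'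
    rcases Nat.lt_succ_iff_lt_or_eq.1 hx with h1 | h1
    · exact ih h'.2 x h1
    · subst h1
      obtain ⟨⟨⟨a1, a2⟩, a4⟩, -⟩ := h'
      exact ⟨by simpa [Nat.blt] using a1, _, by simpa [Nat.blt] using a2,
        a4.imp
          (fun h => ⟨Nat.eq_of_beq_eq_true h.1, Nat.eq_of_beq_eq_true h.2.1, Nat.eq_of_beq_eq_true h.2.2⟩)
          fun h => ⟨Nat.eq_of_beq_eq_true h.1, Nat.eq_of_beq_eq_true h.2.1, Nat.eq_of_beq_eq_true h.2.2⟩⟩

theorem chkRows_get {T : Table} {live fin : Tr} : ∀ (cnt i : ℕ),
    D.chkRows T live fin cnt i = true → ∀ j, i ≤ j → j < i + cnt → D.RowOK T live fin j := by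
  intro cnt
  induction cnt with
  | zero => intro i _ j h1 h2; omega
  | succ cnt ih =>
    intro i h j h1 h2
    have h' : (D.chkRow T live fin i T.g &&
      force (i + 1) (fun i' => D.chkRows T live fin cnt i')) = true := h
    rw [Bool.and_eq_true, force_eq] at h'
    rcases eq_or_lt_of_le h1 with rfl | h3
    · exact D.chkRow_sound _ h'.1
    · exact ih _ h'.2 j h3 (by omega)

theorem chkBlocks_get : ∀ (cnt j : ℕ), D.chkBlocks cnt j = true →
    ∀ i < cnt, D.chkRun 128 ((j + i) * 128) (D.just.get (j + i)) = true := by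
  intro cnt
  induction cnt with
  | zero => intro j _ i hi; omega
  | succ cnt ih =>
    intro j h i hi
    have h' : (force (D.just.get j) (fun s => D.chkRun 128 (j * 128) s) &&
      force (j + 1) (fun j' => D.chkBlocks cnt j')) = true := h
    simp only [force_eq, Bool.and_eq_true] at h'
    rcases i with _ | i
    · exact h'.1
    · have := ih _ h'.2 i (by omega)
      rwa [show j + 1 + i = j + (i + 1) by omega] at this

end Cert

section Sound

variable {G : Type*} [Group G] (D : Cert) (s : ℕ → G) (H : Subgroup G)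

/-- The values of the letters respect the inverse letters. -/
structure Good : Prop where
  eps : s 15 = 1
  inv : ∀ x, s (D.iv x) = (s x)⁻¹

theorem wprod_consX' (h15 : s 15 = 1) (x : ℕ) (L : List ℕ) :
    wprod s (consX x L) = s x * wprod s L := by
  rcases eq_or_ne x 15 with rfl | h
  · simp [consX, h15]
  · have : Nat.beq x 15 = false := by
      cases hb : Nat.beq x 15
      · rfl
      · exact absurd (Nat.eq_of_beq_eq_true hb) h
    simp [consX, this, wprod]

theorem wprod_reverse_consX' (h15 : s 15 = 1) (x : ℕ) (L : List ℕ) :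
    wprod s (consX x L).reverse = wprod s L.reverse * s x := by
  rcases eq_or_ne x 15 with rfl | h
  · simp [consX, h15]
  · have : Nat.beq x 15 = false := by
      cases hb : Nat.beq x 15
      · rfl
      · exact absurd (Nat.eq_of_beq_eq_true hb) h
    simp [consX, this, wprod, List.reverse_cons]

theorem wprod_map_iv_reverse (hg : Good D s) (L : List ℕ) :
    wprod s (L.map D.iv).reverse = (wprod s L)⁻¹ := by
  induction L with
  | nil => simp [wprod]
  | cons a L ih =>
    rw [List.map_cons, List.reverse_cons, wprod_append, ih]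
    simp [wprod, hg.inv a]

/-- Representative of a node, read off the defining facts. -/
noncomputable def nodeRep : ℕ → G
  | 0 => 1
  | k + 1 => if D.fa k ≤ k then nodeRep (D.fa k) * s (D.fx k) else 1
  termination_by k => k
  decreasing_by omega

/-- The claim of fact `i`. -/
def Holds (i : ℕ) : Prop :=
  nodeRep D s (D.fa i) * s (D.fx i) * (nodeRep D s (D.fb i))⁻¹ ∈ H

variable {D s H}

theorem walk_sound (hg : Good D s) {t : ℕ} (hold : ∀ r < t, Holds D s H r) :
    ∀ (n st c : ℕ) (L : List ℕ) (k : ℕ → ℕ → List ℕ → Bool), D.walk t n st c L k = true →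
      ∃ st' c' L', k st' c' L' = true ∧
        ∀ u : G, u * wprod s L.reverse * (nodeRep D s c)⁻¹ ∈ H →
          u * wprod s L'.reverse * (nodeRep D s c')⁻¹ ∈ H := by
  intro n
  induction n with
  | zero => intro st c L k h; exact ⟨st, c, L, h, fun _ hu => hu⟩
  | succ n ih =>
    intro st c L k h
    have h' : (force (st % 2 ^ 20) fun r => Nat.blt r t &&
        force (D.fa r) fun a => force (D.fx r) fun x => force (D.fb r) fun b =>
          force (st >>> 20) fun s' =>
            bif Nat.beq c a then D.walk t n s' b (consX x L) k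
            else Nat.beq c b && force (D.iv x) fun y => D.walk t n s' a (consX y L) k) = true := h
    simp only [force_eq, Bool.and_eq_true] at h'
    obtain ⟨hr, h'⟩ := h'
    have hr' : st % 2 ^ 20 < t := by simpa [Nat.blt] using hr
    have hH := hold _ hr'
    unfold Holds at hH
    set r := st % 2 ^ 20
    cases hb : Nat.beq c (D.fa r) with
    | true =>
      rw [hb] at h'
      have hc : c = D.fa r := Nat.eq_of_beq_eq_true hb
      obtain ⟨st', c', L', hk, hi⟩ := ih _ _ _ _ h'
      refine ⟨st', c', L', hk, fun u hu => hi u ?_⟩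
      rw [wprod_reverse_consX' s hg.eps]
      have := mul_mem hu hH
      rw [hc] at this
      simpa [mul_assoc] using this
    | false =>
      rw [hb] at h'
      simp only [cond_false, Bool.and_eq_true] at h'
      have hc : c = D.fb r := Nat.eq_of_beq_eq_true h'.1
      obtain ⟨st', c', L', hk, hi⟩ := ih _ _ _ _ h'.2
      refine ⟨st', c', L', hk, fun u hu => hi u ?_⟩
      rw [wprod_reverse_consX' s hg.eps, hg.inv]
      have := mul_mem hu (inv_mem hH)
      rw [hc] at this
      simpa [mul_assoc] using this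

theorem chkFact_sound (hg : Good D s) (hR : ∀ r ∈ D.rels, wprod s r = 1)
    (hS : ∀ r ∈ D.subs, wprod s r ∈ H) {t st : ℕ} {k : ℕ → Bool}
    (hold : ∀ r < t, Holds D s H r) (h : D.chkFact t st k = true) :
    Holds D s H t ∧ ∃ st', k st' = true := by
  unfold Cert.chkFact at h
  simp only [force_eq] at h
  obtain ⟨s₂, c₁, L₁, h₂, i₁⟩ := walk_sound hg hold _ _ _ _ _ h
  obtain ⟨s₃, c₂, L₂, h₃, i₂⟩ := walk_sound hg hold _ _ _ _ _ h₂
  rw [Bool.and_eq_true] at h₃
  obtain ⟨hc, hk⟩ := h₃
  refine ⟨?_, s₃, hk⟩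
  simp only [Cert.concl, Bool.and_eq_true] at hc
  obtain ⟨hca, hc⟩ := hc
  have hca := Nat.eq_of_beq_eq_true hca
  have j₁ : nodeRep D s (D.fb t) * wprod s L₁.reverse * (nodeRep D s c₁)⁻¹ ∈ H :=
    i₁ _ (by simp [wprod])
  have j₂ : nodeRep D s c₁ * wprod s L₂.reverse * (nodeRep D s c₂)⁻¹ ∈ H :=
    i₂ _ (by simp [wprod])
  rw [hca] at j₂
  unfold Holds
  generalize nodeRep D s (D.fb t) = B at *
  generalize nodeRep D s (D.fa t) = A at *
  generalize (st >>> 41) % 2 = kind at hc
  cases hb : Nat.beq kind 0 with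
  | true =>
    rw [hb] at hc
    have hw := congrArg (wprod s) (eq_of_leq _ _ hc)
    have hone : ∀ rel rot rev, wprod s (D.relWord rel rot rev) = 1 := by
      intro rel rot rev
      have h1 : wprod s (D.rels.getD rel []) = 1 := by
        rcases lt_or_ge rel D.rels.length with hl | hl
        · rw [List.getD_eq_getElem _ _ hl]; exact hR _ (List.getElem_mem hl)
        · rw [List.getD_eq_default _ _ hl]; simp [wprod]
      cases hv : Nat.beq rev 0 <;> simp only [Cert.relWord, hv, cond_true, cond_false]
      · rw [wprod_map_iv_reverse D s hg, wprod_rotate s _ _ h1, inv_one]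
      · exact wprod_rotate s _ _ h1
    rw [hone, wprod_consX' s hg.eps, wprod_append] at hw
    have key : wprod s L₁.reverse * wprod s L₂.reverse = (s (D.fx t))⁻¹ :=
      (inv_eq_of_mul_eq_one_right hw).symm
    have hBA : B * (s (D.fx t))⁻¹ * A⁻¹ ∈ H := by
      rw [← key]; simpa [mul_assoc] using mul_mem j₁ j₂
    simpa [mul_assoc] using inv_mem hBA
  | false =>
    rw [hb] at hc
    simp only [cond_false, Bool.and_eq_true] at hc
    have h0 := Nat.eq_of_beq_eq_true hc.1
    rw [h0, nodeRep] at j₁ j₂
    have hw := congrArg (wprod s) (eq_of_leq _ _ hc.2)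
    rw [wprod_append, wprod_consX' s hg.eps] at hw
    have hin : wprod s L₂.reverse * (s (D.fx t) * wprod s L₁.reverse) ∈ H := by
      rw [hw]
      generalize (st >>> 24) % 2 ^ 8 = rel
      rcases lt_or_ge rel D.subs.length with hl | hl
      · rw [List.getD_eq_getElem _ _ hl]; exact hS _ (List.getElem_mem hl)
      · rw [List.getD_eq_default _ _ hl]; simp [wprod]
    simpa [mul_assoc] using mul_mem (mul_mem (inv_mem j₂) hin) (inv_mem j₁)

theorem chkRun_sound (hg : Good D s) (hR : ∀ r ∈ D.rels, wprod s r = 1)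
    (hS : ∀ r ∈ D.subs, wprod s r ∈ H) :
    ∀ (n t st : ℕ), D.chkRun n t st = true → (∀ r < t, Holds D s H r) →
      ∀ r, r < t + n → r < D.nf → Holds D s H r := by
  intro n
  induction n with
  | zero => intro t st _ hold r hr _; exact hold r (by omega)
  | succ n ih =>
    intro t st h hold r hr hrn
    rcases lt_or_ge r t with hrt | hrt
    · exact hold r hrt
    have htn : t < D.nf := lt_of_le_of_lt hrt hrn
    have h' : (bif Nat.blt t D.nf then
        force (t + 1) fun t' =>
          bif Nat.blt t D.nd then D.chkDef t && D.chkRun n t' st else D.chkFact t st (D.chkRun n t')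
      else true) = true := h
    rw [show Nat.blt t D.nf = true by simpa [Nat.blt] using htn, cond_true, force_eq] at h'
    suffices hh : Holds D s H t ∧ ∃ st', D.chkRun n (t + 1) st' = true by
      obtain ⟨ht, st', hst⟩ := hh
      refine ih _ _ hst (fun r' hr' => ?_) r (by omega) hrn
      rcases lt_or_eq_of_le (Nat.lt_succ_iff.1 hr') with h1 | h1
      · exact hold r' h1
      · rw [h1]; exact ht
    cases hd : Nat.blt t D.nd with
    | true =>
      rw [hd] at h'
      simp only [cond_true, Bool.and_eq_true, Cert.chkDef] at h'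
      refine ⟨?_, st, h'.2⟩
      unfold Holds
      rw [Nat.eq_of_beq_eq_true h'.1.2, nodeRep.eq_2, if_pos (Nat.le_of_ble_eq_true h'.1.1),
        mul_inv_cancel]
      exact one_mem H
    | false =>
      rw [hd] at h'
      exact chkFact_sound hg hR hS hold h'

/-- All facts hold once every block has been checked. -/
theorem holds_of_blocks (hg : Good D s) (hR : ∀ r ∈ D.rels, wprod s r = 1)
    (hS : ∀ r ∈ D.subs, wprod s r ∈ H) (nb : ℕ) (hnb : D.nf ≤ nb * 128)
    (h : ∀ j < nb, D.chkRun 128 (j * 128) (D.just.get j) = true) :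
    ∀ r < D.nf, Holds D s H r := by
  suffices ∀ j ≤ nb, ∀ r < D.nf, r < j * 128 → Holds D s H r from
    fun r hr => this nb le_rfl r hr (lt_of_lt_of_le hr hnb)
  intro j
  induction j with
  | zero => intro _ r _ hr; omega
  | succ j ih =>
    intro hj r hrn hr
    rcases lt_or_ge r (j * 128) with h1 | h1
    · exact ih (by omega) r hrn h1
    · refine chkRun_sound hg hR hS 128 _ _ (h j (by omega)) (fun r' hr' => ?_) r (by omega) hrn
      exact ih (by omega) r' (by omega) hr'

end Sound

/-- A checked closed coset table with inverse letters. -/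
structure Covered (D : Cert) (T : Table) (live fin : Tr) : Prop where
  hn : 0 < T.n
  ivlt : ∀ x < T.g, D.iv x < T.g
  facts : ∃ nb, D.nf ≤ nb * 128 ∧ ∀ j < nb, D.chkRun 128 (j * 128) (D.just.get j) = true
  rows : ∀ i < T.n, D.RowOK T live fin i
  root : field live 128 20 0 = 0

section Cover

variable {D : Cert} {T : Table} {live fin : Tr}
variable (hC : Covered D T live fin) {G : Type*} [Group G] (s : ℕ → G) (H : Subgroup G)

/-- The coset with number `i`. -/
noncomputable def coset (D : Cert) (live : Tr) (i : ℕ) : G ⧸ H :=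
  QuotientGroup.mk (nodeRep D s (field live 128 20 i))⁻¹

include hC

theorem Covered.smul_coset (hg : Good D s) (hR : ∀ r ∈ D.rels, wprod s r = 1)
    (hS : ∀ r ∈ D.subs, wprod s r ∈ H) {x : ℕ} (hx : x < T.g) {i : ℕ} (hi : i < T.n) :
    (s x)⁻¹ • coset s H D live i = coset s H D live (T.app i x) := by
  obtain ⟨nb, hnb, hblk⟩ := hC.facts
  have hF := holds_of_blocks (D := D) (s := s) (H := H) hg hR hS nb hnb hblk
  obtain ⟨-, f, hf, hor⟩ := hC.rows i hi x hx
  have h := hF f hf
  unfold Holds at h
  show (((s x)⁻¹ * (nodeRep D s (field live 128 20 i))⁻¹ : G) : G ⧸ H) = QuotientGroup.mk _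
  rw [QuotientGroup.eq, mul_inv_rev, inv_inv, inv_inv]
  rcases hor with ⟨hfx, ha, hb⟩ | ⟨hfx, hb, ha⟩
  · rwa [hfx, ha, hb] at h
  · rw [hfx, ha, hb, hg.inv] at h
    have h2 := inv_mem h
    rw [mul_inv_rev, inv_inv, mul_inv_rev, inv_inv, ← mul_assoc] at h2
    exact h2

theorem Covered.coset_zero : coset s H D live 0 = ((1 : G) : G ⧸ H) := by
  simp [coset, hC.root, nodeRep]

theorem Covered.exists_coset (hg : Good D s) (hR : ∀ r ∈ D.rels, wprod s r = 1)
    (hS : ∀ r ∈ D.subs, wprod s r ∈ H) (hgen : Subgroup.closure (s '' Set.Iio T.g) = ⊤)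
    (y : G ⧸ H) : ∃ i < T.n, coset s H D live i = y := by
  have key : ∀ g : G, ∀ i < T.n, ∃ j < T.n, g • coset s H D live i = coset s H D live j := by
    intro g
    induction (hgen ▸ Subgroup.mem_top g : g ∈ Subgroup.closure (s '' Set.Iio T.g))
      using Subgroup.closure_induction_left with
    | one => intro i hi; exact ⟨i, hi, one_smul _ _⟩
    | mul_left a ha b _ ih =>
      obtain ⟨x, hx, rfl⟩ := ha
      intro i hi
      obtain ⟨j, hj, e⟩ := ih i hi
      refine ⟨_, (hC.rows j hj _ (hC.ivlt x hx)).1, ?_⟩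
      rw [mul_smul, e]
      have h := hC.smul_coset s H hg hR hS (hC.ivlt x hx) hj
      rwa [hg.inv, inv_inv] at h
    | inv_mul_cancel a ha b _ ih =>
      obtain ⟨x, hx, rfl⟩ := ha
      intro i hi
      obtain ⟨j, hj, e⟩ := ih i hi
      refine ⟨_, (hC.rows j hj x hx).1, ?_⟩
      rw [mul_smul, e, hC.smul_coset s H hg hR hS hx hj]
  obtain ⟨g, rfl⟩ := QuotientGroup.mk_surjective y
  obtain ⟨j, hj, e⟩ := key g 0 hC.hn
  refine ⟨j, hj, ?_⟩
  rw [← e, hC.coset_zero s H]
  show ((g * 1 : G) : G ⧸ H) = g
  rw [mul_one]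

/-- **Certified coset enumeration**, upper bound: the subgroup has index at most `n`. -/
theorem Covered.index_le (hg : Good D s) (hR : ∀ r ∈ D.rels, wprod s r = 1)
    (hS : ∀ r ∈ D.subs, wprod s r ∈ H) (hgen : Subgroup.closure (s '' Set.Iio T.g) = ⊤) :
    H.index ≠ 0 ∧ H.index ≤ T.n := by
  let f : Fin T.n → G ⧸ H := fun i => coset s H D live i
  have hf : Function.Surjective f := fun y => by
    obtain ⟨i, hi, rfl⟩ := hC.exists_coset s H hg hR hS hgen y
    exact ⟨⟨i, hi⟩, rfl⟩
  have : Finite (G ⧸ H) := Finite.of_surjective f hf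
  refine ⟨Subgroup.index_ne_zero_of_finite, ?_⟩
  rw [Subgroup.index]
  exact (Nat.card_le_card_of_surjective f hf).trans (Nat.card_fin _).le

end Cover

section Perms

variable {T : Table} {W : List (List ℕ)} {j : ℕ → ℕ}

/-- The hypothesis that the letters below `g` come in inverse pairs among the checked words. -/
structure Pairs (T : Table) (W : List (List ℕ)) (j : ℕ → ℕ) : Prop where
  lt : ∀ x < T.g, j x < T.g
  invol : ∀ x < T.g, j (j x) = x
  mem : ∀ x < T.g, [x, j x] ∈ W

/-- The permutation given by a letter: it sends `i` to the image of `i` under the inverse letter. -/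
noncomputable def permOf (hV : T.Valid W) (hj : Pairs T W j) (x : ℕ) : Equiv.Perm (Fin T.n) :=
  if hx : x < T.g then
    { toFun := fun i => ⟨T.app i (j x), hV.range i i.2 _ (hj.lt x hx)⟩
      invFun := fun i => ⟨T.app i x, hV.range i i.2 _ hx⟩
      left_inv := fun i => Fin.ext <| by
        have h := hV.points i i.2 _ (hj.mem _ (hj.lt x hx))
        rw [hj.invol x hx] at h
        have h' : force (T.app i (j x)) (fun k => force (T.app k x) fun k' => k') = (i : ℕ) := h
        simpa [force_eq] using h'
      right_inv := fun i => Fin.ext <| by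
        have h := hV.points i i.2 _ (hj.mem _ hx)
        have h' : force (T.app i x) (fun k => force (T.app k (j x)) fun k' => k') = (i : ℕ) := h
        simpa [force_eq] using h' }
  else 1

variable (hV : T.Valid W) (hj : Pairs T W j)

theorem permOf_apply {x : ℕ} (hx : x < T.g) (i : Fin T.n) :
    (permOf hV hj x i : ℕ) = T.app i (j x) := by
  unfold permOf
  rw [dif_pos hx]
  rfl

theorem permOf_symm_apply {x : ℕ} (hx : x < T.g) (i : Fin T.n) :
    ((permOf hV hj x)⁻¹ i : Fin T.n).val = T.app i x := by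
  unfold permOf
  rw [dif_pos hx]
  rfl

theorem permOf_inv {x : ℕ} (hx : x < T.g) : permOf hV hj (j x) = (permOf hV hj x)⁻¹ := by
  ext i
  rw [permOf_apply hV hj (hj.lt x hx), hj.invol x hx, permOf_symm_apply hV hj hx]

theorem follow_eq : ∀ (L : List ℕ), (∀ x ∈ L, x < T.g) → ∀ i : Fin T.n,
    T.follow L i = ((wprod (permOf hV hj) L)⁻¹ i : Fin T.n) := by
  intro L
  induction L with
  | nil => intro _ i; simp [Table.follow, wprod]
  | cons a L ih =>
    intro hL i
    obtain ⟨ha, hL⟩ := List.forall_mem_cons.1 hL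
    have h : T.follow (a :: L) i = force (T.app i a) (T.follow L) := rfl
    rw [h, force_eq, ← permOf_symm_apply hV hj ha i, ih hL]
    simp [wprod, mul_inv_rev]

theorem wprod_permOf_eq_one {L : List ℕ} (hL : L ∈ W) (hlt : ∀ x ∈ L, x < T.g) :
    wprod (permOf hV hj) L = 1 := by
  rw [← inv_eq_one]
  ext i
  rw [← follow_eq hV hj L hlt i, hV.points i i.2 L hL, Equiv.Perm.one_apply]

theorem wprod_permOf_fix {L : List ℕ} (hlt : ∀ x ∈ L, x < T.g) (i : Fin T.n)
    (h : T.follow L i = i) : wprod (permOf hV hj) L i = i := by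
  conv_lhs => rw [show i = (wprod (permOf hV hj) L)⁻¹ i from
    Fin.ext (by rw [← follow_eq hV hj L hlt]; exact h.symm)]
  exact Equiv.apply_symm_apply _ _

include hV hj in
/-- The table of a homomorphism's values realises its range. -/
theorem realises_range {G : Type*} [Group G] (s : ℕ → G) (φ : G →* Equiv.Perm (Fin T.n))
    (hφ : ∀ x < T.g, φ (s x) = permOf hV hj x) : T.Realises φ.range := by
  intro x hx
  refine ⟨φ (s x)⁻¹, ⟨_, rfl⟩, fun i => ?_⟩
  rw [map_inv, hφ x hx, permOf_symm_apply hV hj hx]

end Perms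

section Exact

variable {D : Cert} {T : Table} {live fin : Tr} {W : List (List ℕ)}

/-- **Certified coset enumeration**, exact form: the cosets are the points of the table. -/
theorem Covered.exact (hC : Covered D T live fin) (hV : T.Valid W) (hj : Pairs T W D.iv)
    {S : List (List ℕ)} {pts pos par : Tr} (hok : ∀ k < T.n, Table.OrbitOK T S pts pos par T.n k)
    (hroot : field pts 128 20 0 = 0) (hS1 : ∀ g < S.length, S.getD g [] = [g]) (hSlen : S.length = T.g)
    {G : Type*} [Group G] (s : ℕ → G) (H : Subgroup G) (hg : Good D s)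
    (hR : ∀ r ∈ D.rels, wprod s r = 1) (hS : ∀ r ∈ D.subs, wprod s r ∈ H)
    (hgen : Subgroup.closure (s '' Set.Iio T.g) = ⊤) (φ : G →* Equiv.Perm (Fin T.n))
    (hφ : ∀ x < T.g, φ (s x) = permOf hV hj x)
    (hH : ∀ h ∈ H, φ h ⟨0, hC.hn⟩ = ⟨0, hC.hn⟩) :
    H.index = T.n ∧
      ∃ e : Fin T.n ≃ G ⧸ H, e ⟨0, hC.hn⟩ = ((1 : G) : G ⧸ H) ∧
        ∀ (g : G) (i : Fin T.n), g • e i = e (φ g i) := by
  let q : Fin T.n → G ⧸ H := fun i => coset s H D live i
  have heq : ∀ (g : G) (i : Fin T.n), g • q i = q (φ g i) := by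
    intro g
    induction (hgen ▸ Subgroup.mem_top g : g ∈ Subgroup.closure (s '' Set.Iio T.g))
      using Subgroup.closure_induction with
    | mem a ha =>
      obtain ⟨x, hx, rfl⟩ := ha
      intro i
      rw [hφ x hx]
      show _ = coset s H D live (permOf hV hj x i : ℕ)
      rw [permOf_apply hV hj hx, ← hC.smul_coset s H hg hR hS (hj.lt x hx) i.2, hg.inv, inv_inv]
    | one => intro i; simp
    | mul a b _ _ ha hb => intro i; rw [mul_smul, hb, ha, map_mul, Equiv.Perm.mul_apply]
    | inv a _ ha =>
      intro i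
      rw [inv_smul_eq_iff, ha, map_inv, ← Equiv.Perm.mul_apply, mul_inv_cancel, Equiv.Perm.one_apply]
  have hq0 : q ⟨0, hC.hn⟩ = ((1 : G) : G ⧸ H) := hC.coset_zero s H
  have hconst : ∀ a b : G, (a : G ⧸ H) = b → φ a ⟨0, hC.hn⟩ = φ b ⟨0, hC.hn⟩ := by
    intro a b hab
    have h := hH _ (QuotientGroup.eq.1 hab)
    rw [map_mul, map_inv, Equiv.Perm.mul_apply, Equiv.Perm.inv_eq_iff_eq] at h
    exact h.symm
  let ψ : G ⧸ H → Fin T.n := Quotient.lift (fun g : G => φ g ⟨0, hC.hn⟩) fun a b hab =>
    hconst a b (Quotient.sound hab)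
  have hψ : ∀ g : G, ψ (g : G ⧸ H) = φ g ⟨0, hC.hn⟩ := fun g => rfl
  have hqψ : ∀ y : G ⧸ H, q (ψ y) = y := by
    intro y
    obtain ⟨g, rfl⟩ := QuotientGroup.mk_surjective y
    rw [hψ, ← heq, hq0]
    show ((g * 1 : G) : G ⧸ H) = g
    rw [mul_one]
  have hψs : Function.Surjective ψ := by
    intro i
    obtain ⟨-, hmem⟩ := Table.orbit_eq (T := T) rfl hC.hn hok (fun g => φ (s g)⁻¹) (fun g hg' i => by
      rw [hS1 g hg', map_inv, hφ g (hSlen ▸ hg'), permOf_symm_apply hV hj (hSlen ▸ hg')]
      exact force_eq _ _) _ rfl ⟨0, hC.hn⟩ hroot.symm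
    have hin : i ∈ MulAction.orbit
        (Subgroup.closure ((fun g => φ (s g)⁻¹) '' Set.Iio S.length)) (⟨0, hC.hn⟩ : Fin T.n) := by
      rw [hmem]
      let f : Fin T.n → Fin T.n := fun k => ⟨field pts 128 20 k, (hok k k.2).1⟩
      have hf : Function.Injective f := fun a b h => by
        have ha := (hok a a.2).2.1
        rw [show field pts 128 20 a = field pts 128 20 b from congrArg Fin.val h, (hok b b.2).2.1] at ha
        exact Fin.ext (by omega)
      obtain ⟨k, hk⟩ := (Finite.injective_iff_surjective.1 hf) i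
      exact ⟨k, k.2, congrArg Fin.val hk⟩
    obtain ⟨⟨r, hr⟩, hri⟩ := hin
    have : r ∈ φ.range := by
      refine (Subgroup.closure_le φ.range).2 ?_ hr
      rintro _ ⟨g, -, rfl⟩; exact ⟨_, rfl⟩
    obtain ⟨g, rfl⟩ := this
    exact ⟨g, hri⟩
  let e : G ⧸ H ≃ Fin T.n :=
    Equiv.ofBijective ψ ⟨fun a b h => by rw [← hqψ a, h, hqψ b], hψs⟩
  have hes : ∀ k, e.symm k = q k := fun k => by
    rw [Equiv.symm_apply_eq]
    obtain ⟨a, rfl⟩ := hψs k
    rw [hqψ]; rfl
  refine ⟨by rw [Subgroup.index, Nat.card_congr e, Nat.card_fin], e.symm, by rw [hes, hq0],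
    fun g i => ?_⟩
  rw [hes, hes, heq]

end Exact

end CfsgLib.KnownA.CosetInv
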