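import Cfsg.Agent.Lib.Clifford.AltCover
import Cfsg.Agent.Lib.StructB.StemOfCentral
import Cfsg.Agent.Lib.KnownA.PermCert

/-!
A stem extension with kernel of even order of a group of even permutations, pulled back from the
double cover of the alternating group: it suffices that two commuting elements have anticommuting
spinor lifts, which is decided on a list of transpositions.
-/

set_option autoImplicit false
set_option maxRecDepth 100000

namespace CfsgLib.KnownA.SpinPullback

open CfsgLib.Clifford.AltCover CfsgLib.KnownA.PermCert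
open CliffordAlgebra (ι)
open scoped commutatorElement

/-- The product of transpositions, on numbers. -/
def swapsAct : List (ℕ × ℕ) → ℕ → ℕ
  | [], i => i
  | (a, b) :: L, i =>
    let j := swapsAct L i
    bif Nat.beq j a then b else bif Nat.beq j b then a else j

/-- A block of transpositions permuted by `x`: the two of a pair are exchanged, a single one is
kept, with the sign gained by the product of the roots. -/
def blockSign (x : ℕ) : List (ℕ × ℕ) → Option Bool
  | [(a, b)] =>
    bif Nat.beq (pimg x a) a && Nat.beq (pimg x b) b then some false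
    else bif Nat.beq (pimg x a) b && Nat.beq (pimg x b) a then some true else none
  | [(a, b), (c, d)] =>
    bif Nat.beq (pimg x a) c && Nat.beq (pimg x b) d && Nat.beq (pimg x c) a && Nat.beq (pimg x d) b &&
      !Nat.beq a c && !Nat.beq a d && !Nat.beq b c && !Nat.beq b d
    then some true else none
  | _ => none

/-- The total sign of a list of blocks. -/
def totalSign (x : ℕ) : List (List (ℕ × ℕ)) → Option Bool
  | [] => some false
  | B :: Bs =>
    match blockSign x B, totalSign x Bs with
    | some s, some t => some (Bool.xor s t)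
    | _, _ => none

/-- The checks: the lifts of `x` and `y` anticommute. -/
def pairOK (n x y : ℕ) (Bs : List (List (ℕ × ℕ))) : Bool :=
  valid n x && valid n y && eqW n [x, y] [y, x] &&
    Bs.flatten.all (fun p => Nat.blt p.1 n && Nat.blt p.2 n && !Nat.beq p.1 p.2) &&
    Nat.beq (Bs.flatten.length % 2) 0 &&
    ((List.range n).all fun i => Nat.beq (swapsAct Bs.flatten i) (pimg y i)) &&
    (totalSign x Bs == some true)

variable {n : ℕ}

/-- The permutation of a list of transpositions. -/
noncomputable def swapsPerm (L : List (Fin n × Fin n)) : Equiv.Perm (Fin n) :=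
  (L.map fun p => Equiv.swap p.1 p.2).prod

/-- The product of the roots. -/
noncomputable def rootsProd (L : List (Fin n × Fin n)) : CliffordAlgebra (Q n) :=
  (L.map fun p => ι (Q n) (root n p.1 p.2)).prod

theorem exists_cover_of_swaps : ∀ L : List (Fin n × Fin n), (∀ p ∈ L, p.1 ≠ p.2) → Even L.length →
    ∃ g : cover n, ((g.1.1 : alternatingGroup (Fin n)) : Equiv.Perm (Fin n)) = swapsPerm L ∧
      ((g.1.2 : (CliffordAlgebra (Q n))ˣ) : CliffordAlgebra (Q n)) = rootsProd L
  | [], _, _ => ⟨1, rfl, rfl⟩
  | [_], _, h => absurd h (by simp)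
  | (a, b) :: (c, d) :: L, hne, he => by
    obtain ⟨g, g1, g2⟩ := exists_cover_of_swaps L (fun p hp => hne p (by simp [hp]))
      (by simpa [List.length_cons, Nat.even_add_one] using he)
    refine ⟨pairLift n (hne (a, b) (by simp)) (hne (c, d) (by simp)) * g, ?_, ?_⟩
    · show Equiv.swap a b * Equiv.swap c d * _ = _
      rw [g1]
      simp [swapsPerm, mul_assoc]
    · show ι (Q n) (root n a b) * ι (Q n) (root n c d) * _ = _
      rw [g2]
      simp [rootsProd, mul_assoc]

theorem root_swap (i j : Fin n) : root n j i = -root n i j := by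
  funext k; simp [root]

theorem ι_root_anti {a b c d : Fin n} (hac : a ≠ c) (had : a ≠ d) (hbc : b ≠ c) (hbd : b ≠ d) :
    ι (Q n) (root n c d) * ι (Q n) (root n a b) =
      -(ι (Q n) (root n a b) * ι (Q n) (root n c d)) := by
  rw [CliffordAlgebra.ι_mul_ι_comm, polar_Q, sum_root_mul]
  simp [root, hac.symm, had.symm, hbc.symm, hbd.symm]

/-- The sign as a scalar. -/
def sgnVal : Bool → ZMod 7
  | true => -1
  | false => 1

theorem sgnVal_xor (s t : Bool) : sgnVal (Bool.xor s t) = sgnVal s * sgnVal t := by
  cases s <;> cases t <;> decide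

theorem block_spec {x : ℕ} (hx : valid n x = true) (B : List (Fin n × Fin n)) (s : Bool)
    (h : blockSign x (B.map fun p => ((p.1 : ℕ), (p.2 : ℕ))) = some s) :
    rootsProd (B.map fun p => (permOf n x p.1, permOf n x p.2)) = sgnVal s • rootsProd B := by
  have e : ∀ u v : Fin n, Nat.beq (pimg x u) v = true → permOf n x u = v := fun u v h' =>
    Fin.ext (by rw [permOf_val hx]; exact Nat.eq_of_beq_eq_true h')
  have ne : ∀ u v : Fin n, (!Nat.beq (u : ℕ) v) = true → u ≠ v := fun u v h' huv => by
    rw [huv, Nat.beq_refl] at h'; exact absurd h' (by decide)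
  match B, h with
  | [(a, b)], h =>
    simp only [List.map_cons, List.map_nil, blockSign] at h
    cases h1 : (Nat.beq (pimg x a) a && Nat.beq (pimg x b) b) with
    | true =>
      rw [h1, cond_true, Option.some.injEq] at h
      subst h
      rw [Bool.and_eq_true] at h1
      simp [rootsProd, e a a h1.1, e b b h1.2, sgnVal]
    | false =>
      rw [h1, cond_false] at h
      cases h2 : (Nat.beq (pimg x a) b && Nat.beq (pimg x b) a) with
      | true =>
        rw [h2, cond_true, Option.some.injEq] at h
        subst h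
        rw [Bool.and_eq_true] at h2
        simp [rootsProd, e a b h2.1, e b a h2.2, sgnVal, root_swap a b]
      | false => rw [h2, cond_false] at h; simp at h
  | [(a, b), (c, d)], h =>
    simp only [List.map_cons, List.map_nil, blockSign] at h
    cases h1 : (Nat.beq (pimg x a) c && Nat.beq (pimg x b) d && Nat.beq (pimg x c) a &&
        Nat.beq (pimg x d) b && !Nat.beq (a : ℕ) c && !Nat.beq (a : ℕ) d && !Nat.beq (b : ℕ) c &&
        !Nat.beq (b : ℕ) d) with
    | true =>
      rw [h1, cond_true, Option.some.injEq] at h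
      subst h
      simp only [Bool.and_eq_true] at h1
      obtain ⟨⟨⟨⟨⟨⟨⟨e1, e2⟩, e3⟩, e4⟩, n1⟩, n2⟩, n3⟩, n4⟩ := h1
      simp [rootsProd, e a c e1, e b d e2, e c a e3, e d b e4, sgnVal,
        ι_root_anti (ne a c n1) (ne a d n2) (ne b c n3) (ne b d n4)]
    | false => rw [h1, cond_false] at h; simp at h
  | [], h => simp [blockSign] at h
  | _ :: _ :: _ :: _, h => simp [blockSign] at h

theorem blocks_spec {x : ℕ} (hx : valid n x = true) :
    ∀ (Bs : List (List (Fin n × Fin n))) (s : Bool),
      totalSign x (Bs.map fun B => B.map fun p => ((p.1 : ℕ), (p.2 : ℕ))) = some s →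
      rootsProd (Bs.flatten.map fun p => (permOf n x p.1, permOf n x p.2)) =
        sgnVal s • rootsProd Bs.flatten
  | [], s, h => by
    simp only [List.map_nil, totalSign, Option.some.injEq] at h
    subst h
    simp [rootsProd, sgnVal]
  | B :: Bs, s, h => by
    simp only [List.map_cons, totalSign] at h
    cases hB : blockSign x (B.map fun p => ((p.1 : ℕ), (p.2 : ℕ))) with
    | none => rw [hB] at h; simp at h
    | some u =>
      cases hT : totalSign x (Bs.map fun B => B.map fun p => ((p.1 : ℕ), (p.2 : ℕ))) with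
      | none => rw [hB, hT] at h; simp at h
      | some t =>
        rw [hB, hT] at h
        simp only [Option.some.injEq] at h
        subst h
        have h1 := block_spec hx B u hB
        have h2 := blocks_spec hx Bs t hT
        have hap : ∀ L M : List (Fin n × Fin n), rootsProd (L ++ M) = rootsProd L * rootsProd M :=
          fun L M => by simp [rootsProd]
        rw [List.flatten_cons, List.map_append, hap, hap, h1, h2, sgnVal_xor, smul_mul_smul_comm]

theorem perm_val (σ : Equiv.Perm (Fin n)) (L : List (Fin n × Fin n)) :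
    ∀ g : cover n, ((g.1.1 : alternatingGroup (Fin n)) : Equiv.Perm (Fin n)) = σ →
      (g.1.2 : CliffordAlgebra (Q n)) * rootsProd L =
        rootsProd (L.map fun p => (σ p.1, σ p.2)) * (g.1.2 : CliffordAlgebra (Q n)) := by
  intro g hg
  induction L with
  | nil => simp [rootsProd]
  | cons p L ih =>
    simp only [rootsProd, List.map_cons, List.prod_cons] at ih ⊢
    rw [← mul_assoc, g.2.2.2, hg, perm_root, mul_assoc, ih, ← mul_assoc]

theorem swapsAct_spec : ∀ (L : List (Fin n × Fin n)) (i : Fin n),
    ((swapsPerm L i : Fin n) : ℕ) = swapsAct (L.map fun p => ((p.1 : ℕ), (p.2 : ℕ))) i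
  | [], i => rfl
  | (a, b) :: L, i => by
    have ih := swapsAct_spec L i
    show ((Equiv.swap a b (swapsPerm L i) : Fin n) : ℕ) = _
    simp only [List.map_cons, swapsAct]
    rw [← ih]
    set j := swapsPerm L i
    by_cases h1 : j = a
    · subst h1; simp [Nat.beq_refl]
    · have hb1 : Nat.beq (j : ℕ) a = false := by
        cases hh : Nat.beq (j : ℕ) a
        · rfl
        · exact absurd (Fin.ext (Nat.eq_of_beq_eq_true hh)) h1
      by_cases h2 : j = b
      · subst h2; simp [hb1, Nat.beq_refl]
      · have hb2 : Nat.beq (j : ℕ) b = false := by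
          cases hh : Nat.beq (j : ℕ) b
          · rfl
          · exact absurd (Fin.ext (Nat.eq_of_beq_eq_true hh)) h2
        rw [hb1, hb2, Equiv.swap_apply_of_ne_of_ne h1 h2]; rfl

/-- The list read in `Fin n`. -/
def toFinList (hn : 0 < n) (L : List (ℕ × ℕ)) : List (Fin n × Fin n) :=
  L.map fun p => (⟨p.1 % n, Nat.mod_lt _ hn⟩, ⟨p.2 % n, Nat.mod_lt _ hn⟩)

/-- A stem extension with kernel of even order, from a checked pair. -/
theorem exists_stem_two (G : Subgroup (Equiv.Perm (Fin n))) (hG : G ≤ alternatingGroup (Fin n))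
    (hn : 0 < n) {x y : ℕ} {Bs : List (List (ℕ × ℕ))} (hx : permOf n x ∈ G) (hy : permOf n y ∈ G)
    (h : pairOK n x y Bs = true) :
    ∃ (Γ : Type) (_ : Group Γ) (_ : Finite Γ) (τ : Γ →* G),
      Cfsg.IsStemExtension τ ∧ 2 ∣ Nat.card τ.ker := by
  classical
  simp only [pairOK, Bool.and_eq_true, List.all_eq_true, List.mem_range, Nat.blt_eq,
    beq_iff_eq] at h
  obtain ⟨⟨⟨⟨⟨⟨hvx, hvy⟩, hxy⟩, hlt⟩, heven⟩, hact⟩, hsign⟩ := h
  let F : List (List (Fin n × Fin n)) := Bs.map (toFinList hn)
  have hflat : F.flatten.map (fun p => ((p.1 : ℕ), (p.2 : ℕ))) = Bs.flatten := by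
    rw [show F.flatten = toFinList hn Bs.flatten by
      simp only [F, toFinList, List.map_flatten]; rfl]
    rw [toFinList, List.map_map]
    refine (List.map_congr_left fun p hp => ?_).trans (List.map_id _)
    simp [Nat.mod_eq_of_lt (hlt p hp).1.1, Nat.mod_eq_of_lt (hlt p hp).1.2]
  have hblk : F.map (fun B => B.map fun p => ((p.1 : ℕ), (p.2 : ℕ))) = Bs := by
    simp only [F, List.map_map]
    refine (List.map_congr_left fun B hB => ?_).trans (List.map_id _)
    simp only [Function.comp_apply, toFinList, List.map_map, id_eq]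
    refine (List.map_congr_left fun p hp => ?_).trans (List.map_id _)
    have hp' : p ∈ Bs.flatten := List.mem_flatten.2 ⟨B, hB, hp⟩
    simp [Nat.mod_eq_of_lt (hlt p hp').1.1, Nat.mod_eq_of_lt (hlt p hp').1.2]
  have hne : ∀ p ∈ F.flatten, p.1 ≠ p.2 := fun p hp e => by
    have := (hlt ((p.1 : ℕ), (p.2 : ℕ)) (hflat ▸ List.mem_map.2 ⟨p, hp, rfl⟩)).2
    simp [e, Nat.beq_refl] at this
  obtain ⟨Y, hY1, hY2⟩ := exists_cover_of_swaps F.flatten hne (by
    rw [Nat.even_iff, show F.flatten.length = Bs.flatten.length by rw [← hflat, List.length_map]]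
    exact Nat.eq_of_beq_eq_true heven)
  have hyperm : swapsPerm F.flatten = permOf n y := Equiv.ext fun i => Fin.ext (by
    rw [swapsAct_spec, hflat, permOf_val hvy, Nat.eq_of_beq_eq_true (hact i i.2)])
  rw [hyperm] at hY1
  obtain ⟨X, hX⟩ := proj_surjective n ⟨permOf n x, hG hx⟩
  have hX1 : ((X.1.1 : alternatingGroup (Fin n)) : Equiv.Perm (Fin n)) = permOf n x :=
    congrArg Subtype.val hX
  have hcomm : permOf n x * permOf n y = permOf n y * permOf n x := by
    have := (eqW_iff (L := [x, y]) (L' := [y, x]) (by simp [hvx, hvy]) (by simp [hvx, hvy])).1 hxy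
    simpa [prodW] using this
  have hanti : X * Y = zed n * (Y * X) := by
    refine Subtype.ext (Prod.ext (Subtype.ext ?_) (Units.ext ?_))
    · show ((X.1.1 * Y.1.1 : alternatingGroup (Fin n)) : Equiv.Perm (Fin n)) = _
      simp [zed, hX1, hY1, hcomm]
    · show (X.1.2 : CliffordAlgebra (Q n)) * (Y.1.2 : CliffordAlgebra (Q n)) = _
      rw [hY2, perm_val _ _ X hX1, blocks_spec hvx F true (by rw [hblk]; exact hsign)]
      simp [zed, sgnVal, hY2]
  have : Finite (proj n).ker := by
    refine Finite.of_injective (fun g : (proj n).ker => decide ((g : cover n) = 1)) fun g g' e => ?_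
    rcases eq_one_or_zed n g.2 with hg | hg <;> rcases eq_one_or_zed n g'.2 with hg' | hg' <;>
      refine Subtype.ext ?_ <;> simp only [hg, hg'] at e ⊢ <;>
      simp only [decide_eq_decide, true_iff, iff_true] at e <;>
      first | rfl | exact e | exact e.symm
  have : Finite (cover n) := by
    have : Finite (cover n ⧸ (proj n).ker) :=
      Finite.of_equiv _ (QuotientGroup.quotientKerEquivOfSurjective _ (proj_surjective n)).symm.toEquiv
    exact Finite.of_subgroup_quotient (proj n).ker
  let E : Subgroup (G × cover n) :=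
    { carrier := {p | ((p.1 : G) : Equiv.Perm (Fin n)) = ((p.2.1.1 : alternatingGroup (Fin n)) : Equiv.Perm (Fin n))}
      one_mem' := rfl
      mul_mem' := fun {a b} ha hb => by
        simp only [Set.mem_ofPred_eq] at ha hb ⊢
        simp [ha, hb]
      inv_mem' := fun {a} ha => by
        simp only [Set.mem_ofPred_eq] at ha ⊢
        simp [ha] }
  let π : E →* G := (MonoidHom.fst _ _).comp E.subtype
  have hsurj : Function.Surjective π := fun g => by
    obtain ⟨c, hc⟩ := proj_surjective n ⟨g, hG g.2⟩
    exact ⟨⟨(g, c), (congrArg Subtype.val hc).symm⟩, rfl⟩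
  have hker : ∀ z ∈ π.ker, (z : G × cover n).2 = 1 ∨ (z : G × cover n).2 = zed n := fun z hz => by
    refine eq_one_or_zed n (Subtype.ext ?_)
    have h1 : (z : G × cover n).1 = 1 := hz
    have h2 := z.2
    show (((z : G × cover n).2.1.1 : alternatingGroup (Fin n)) : Equiv.Perm (Fin n)) = 1
    rw [← (show _ = _ from h2), h1, OneMemClass.coe_one]
  have hcen : π.ker ≤ Subgroup.center E := fun z hz => by
    refine Subgroup.mem_center_iff.2 fun w => Subtype.ext (Prod.ext ?_ ?_)
    · have h1 : (z : G × cover n).1 = 1 := hz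
      simp [h1]
    · rcases hker z hz with h1 | h1
      · simp [h1]
      · simp only [Subgroup.coe_mul, Prod.snd_mul, h1]
        exact Subgroup.mem_center_iff.1 (zed_central n) _
  obtain ⟨Γ, hg, hf, τ, hτ, ψ, hψ⟩ := CfsgLib.StructB.exists_stem_of_central π hsurj hcen
  refine ⟨Γ, hg, hf, τ, hτ, ?_⟩
  let X' : E := ⟨(⟨permOf n x, hx⟩, X), hX1.symm⟩
  let Y' : E := ⟨(⟨permOf n y, hy⟩, Y), hY1.symm⟩
  let Z : E := ⁅X', Y'⁆
  have hZ2 : (Z : G × cover n).2 = zed n := by
    show ⁅X, Y⁆ = _
    rw [commutatorElement_def, hanti]; group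
  have hZk : Z ∈ π.ker := by
    rw [MonoidHom.mem_ker, show π Z = ⁅π X', π Y'⁆ from map_commutatorElement π X' Y',
      commutatorElement_eq_one_iff_mul_comm]
    exact Subtype.ext hcomm
  obtain ⟨z, hz⟩ := hψ ⟨Z, hZk⟩ (Subgroup.commutator_mem_commutator (Subgroup.mem_top _)
    (Subgroup.mem_top _))
  have h2 : orderOf (⟨Z, hZk⟩ : π.ker) ∣ orderOf z := hz ▸ orderOf_map_dvd ψ z
  refine dvd_trans (dvd_trans ?_ h2) (orderOf_dvd_natCard z)
  rw [Subgroup.orderOf_mk Z hZk]
  have : orderOf ((Z : G × cover n).2) ∣ orderOf Z :=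
    orderOf_map_dvd ((MonoidHom.snd G (cover n)).comp E.subtype) Z
  rwa [hZ2, orderOf_zed] at this

end CfsgLib.KnownA.SpinPullback
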