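import Cfsg.Agent.Lib.KnownA.M21Schur.Two
import Cfsg.Agent.Lib.KnownA.M21Schur.Eight
import Cfsg.Agent.Lib.KnownA.M21Schur.Three
import Cfsg.Agent.Lib.KnownA.M21Schur.Nine
import Cfsg.Agent.Lib.KnownA.M21Schur.Five
import Cfsg.Agent.Lib.KnownA.M21Schur.Seven
import Cfsg.Agent.Lib.KnownA.M21Schur.TableFour
import Cfsg.Agent.Lib.KnownA.M21Schur.TableThree
import Cfsg.Agent.Lib.KnownA.SchurTransport
import Cfsg.Agent.Lib.Golay.Mathieu

/-!
The Schur multiplier of `M21 ≅ PSL(3,4)` is `Z3 × Z4 × Z4`.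
-/

set_option autoImplicit false
set_option maxRecDepth 100000

namespace CfsgLib.KnownA.M21Schur

open CfsgLib.Golay CfsgLib.KnownA.SchurCert CfsgLib.KnownA.SchurCert.Tables

variable {Γ : Type} [Group Γ] [Finite Γ] {σ : Γ →* ↥(fixMasks X21)}

omit [Finite Γ] in
theorem ker_pow_of_bound {V : Type} (o : Ops V) (C : Cert V) (k : ℕ)
    (bound : List (ℕ × List (ℕ × ℕ))) (hb : (bound.all fun e => C.boundOK o e.1 k e.2) = true)
    (hσ : Cfsg.IsStemExtension σ) {t : ℕ → Γ}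
    (htk : ∀ r, t r ∈ σ.ker) (ht : ∀ r q comb, C.boundOK o r q comb = true → t r ^ q = 1)
    (hle : σ.ker ≤ Subgroup.closure (t '' {r | r ∈ bound.map Prod.fst})) :
    ∀ x ∈ σ.ker, x ^ k = 1 := by
  simp only [List.all_eq_true] at hb
  suffices ∀ y ∈ Subgroup.closure (t '' {r | r ∈ bound.map Prod.fst}), y ∈ σ.ker ∧ y ^ k = 1 from
    fun x hx => (this x (hle hx)).2
  intro y hy
  induction hy using Subgroup.closure_induction with
  | mem y hy =>
    obtain ⟨r, hr, rfl⟩ := hy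
    obtain ⟨e, he', rfl⟩ := List.mem_map.1 hr
    exact ⟨htk _, ht _ _ _ (hb e he')⟩
  | one => exact ⟨one_mem _, one_pow k⟩
  | mul a b _ _ ha hb =>
    refine ⟨mul_mem ha.1 hb.1, ?_⟩
    rw [(show Commute a b from (Subgroup.mem_center_iff.mp (hσ.2.1 hb.1) a)).mul_pow, ha.2, hb.2,
      one_mul]
  | inv a _ ha => exact ⟨inv_mem ha.1, by rw [inv_pow, ha.2, inv_one]⟩

theorem eight_bound (hσ : Cfsg.IsStemExtension σ) (he : ∀ x ∈ σ.ker, x ^ 8 = 1) :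
    ∀ x ∈ σ.ker, x ^ 4 = 1 := by
  obtain ⟨t, ⟨htk, ht⟩, hle⟩ := ker_le_fix octOps Eight.cert _ X21 Eight.codes
    (fun τ h => ⟨octEv _ τ h⟩) (by rw [card_fix21]; decide +kernel) Eight.ok hσ he
  refine ker_pow_of_bound _ _ 4 _ Eight.bound_ok hσ htk ht ?_
  rw [show Eight.bound.map Prod.fst = [15, 11, 8, 7, 6, 0] by decide +kernel]
  exact hle

theorem nine_bound (hσ : Cfsg.IsStemExtension σ) (he : ∀ x ∈ σ.ker, x ^ 9 = 1) :
    ∀ x ∈ σ.ker, x ^ 3 = 1 := by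
  obtain ⟨t, ⟨htk, ht⟩, hle⟩ := ker_le_fix _ Nine.cert _ X21 Nine.codes
    (fun τ h => ⟨modEv 9 _ τ h⟩) (by rw [card_fix21]; decide +kernel) Nine.ok hσ he
  refine ker_pow_of_bound _ _ 3 _ Nine.bound_ok hσ htk ht ?_
  rw [show Nine.bound.map Prod.fst = [2, 1, 0] by decide +kernel]
  exact hle

theorem exists_two_gen (hσ : Cfsg.IsStemExtension σ) :
    ∃ a ∈ σ.ker, ∃ b ∈ σ.ker, ∀ x ∈ σ.ker, ∃ (i j : ℤ) (y : Γ), y ∈ σ.ker ∧
      x = a ^ i * b ^ j * y ^ 2 := by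
  let _ : CommGroup σ.ker :=
    { (inferInstance : Group σ.ker) with
      mul_comm := fun a b => Subtype.ext (Subgroup.mem_center_iff.mp (hσ.2.1 b.2) a) }
  let N : Subgroup Γ := (powMonoidHom 2 : σ.ker →* σ.ker).range.map σ.ker.subtype
  have hNk : N ≤ σ.ker := Subgroup.map_subtype_le _
  have hNn : N.Normal := ⟨fun x hx g => by
    rwa [Subgroup.mem_center_iff.mp (hσ.2.1 (hNk hx)) g, mul_inv_cancel_right]⟩
  obtain ⟨t, ⟨htk, -⟩, hle⟩ := ker_le_fix bitOps Two.cert _ X21 Two.codes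
    (fun τ h => ⟨bitEv _ τ h⟩) (by rw [card_fix21]; decide +kernel) Two.ok (stem_quotient hσ N hNk)
    fun y hy => by
      obtain ⟨y, rfl⟩ := QuotientGroup.mk'_surjective N y
      rw [← map_pow, QuotientGroup.mk'_apply, QuotientGroup.eq_one_iff]
      exact ⟨(⟨y, hy⟩ : σ.ker) ^ 2, ⟨⟨y, hy⟩, rfl⟩, rfl⟩
  obtain ⟨a, ha⟩ := QuotientGroup.mk'_surjective N (t 8)
  obtain ⟨b, hb⟩ := QuotientGroup.mk'_surjective N (t 7)
  have hak : a ∈ σ.ker := by
    have := htk 8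
    rw [← ha] at this
    exact this
  have hbk : b ∈ σ.ker := by
    have := htk 7
    rw [← hb] at this
    exact this
  refine ⟨a, hak, b, hbk, fun x hx => ?_⟩
  have hx' := hle (show QuotientGroup.mk' N x ∈ _ from hx)
  have hsub : t '' {r | r ∈ [8, 7]} ⊆ ({QuotientGroup.mk' N a, QuotientGroup.mk' N b} : Set (Γ ⧸ N)) := by
    rintro _ ⟨r, hr, rfl⟩
    simp only [Set.mem_ofPred_eq, List.mem_cons, List.not_mem_nil, or_false] at hr
    rcases hr with rfl | rfl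
    · exact Or.inl ha.symm
    · exact Or.inr hb.symm
  have hcl := Subgroup.closure_mono hsub hx'
  have key : ∀ z ∈ Subgroup.closure ({QuotientGroup.mk' N a, QuotientGroup.mk' N b} : Set (Γ ⧸ N)),
      ∃ i j : ℤ, z = QuotientGroup.mk' N (a ^ i * b ^ j) := by
    intro z hz
    have cab : ∀ (i j : ℤ), Commute (a ^ i) (b ^ j) := fun i j =>
      Subgroup.mem_center_iff.mp (hσ.2.1 (zpow_mem hbk j)) _
    induction hz using Subgroup.closure_induction with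
    | mem z hz =>
      rcases hz with rfl | hz
      · exact ⟨1, 0, by simp⟩
      · rw [Set.mem_singleton_iff] at hz
        exact ⟨0, 1, by simp [hz]⟩
    | one => exact ⟨0, 0, by simp⟩
    | mul u v _ _ hu hv =>
      obtain ⟨i, j, rfl⟩ := hu
      obtain ⟨k, l, rfl⟩ := hv
      refine ⟨i + k, j + l, ?_⟩
      rw [← map_mul, zpow_add, zpow_add]
      congr 1
      rw [mul_assoc, ← mul_assoc (b ^ j), ← (cab k j).eq, mul_assoc, mul_assoc]
    | inv u _ hu =>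
      obtain ⟨i, j, rfl⟩ := hu
      refine ⟨-i, -j, ?_⟩
      rw [← map_inv, mul_inv_rev, ← zpow_neg, ← zpow_neg, ← (cab (-i) (-j)).eq]
  obtain ⟨i, j, hij⟩ := key _ hcl
  obtain ⟨w, ⟨y, hy⟩, hw⟩ := QuotientGroup.eq.1 (show QuotientGroup.mk' N (a ^ i * b ^ j) =
    QuotientGroup.mk' N x from hij.symm)
  refine ⟨i, j, y, y.2, ?_⟩
  have e : ((y : Γ)) ^ 2 = (a ^ i * b ^ j)⁻¹ * x := by
    rw [← hw, ← hy]; rfl
  rw [e, mul_inv_cancel_left]

theorem three_gen (hσ : Cfsg.IsStemExtension σ) (he : ∀ x ∈ σ.ker, x ^ 3 = 1) :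
    ∃ a ∈ σ.ker, σ.ker ≤ Subgroup.zpowers a := by
  obtain ⟨t, ⟨htk, -⟩, hle⟩ := ker_le_fix _ Three.cert _ X21 Three.codes
    (fun τ h => ⟨modEv 3 _ τ h⟩) (by rw [card_fix21]; decide +kernel) Three.ok hσ he
  refine ⟨t 1, htk _, hle.trans ((Subgroup.closure_le _).2 ?_)⟩
  rintro _ ⟨r, hr, rfl⟩
  rw [show r = 1 by simpa using hr]
  exact Subgroup.mem_zpowers _

theorem not_dvd_ker (hσ : Cfsg.IsStemExtension σ) {p : ℕ} [Fact p.Prime]
    (hp : p = 5 ∨ p = 7) : ¬ p ∣ Nat.card σ.ker := by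
  refine prime_not_dvd_ker p (fun Δ _ _ τ hτ he => ?_) hσ
  rcases hp with rfl | rfl
  · exact ker_eq_bot_fix _ Five.cert X21 Five.codes (fun τ h => ⟨modEv 5 _ τ h⟩)
      (by rw [card_fix21]; decide +kernel) Five.ok hτ he
  · exact ker_eq_bot_fix _ Seven.cert X21 Seven.codes (fun τ h => ⟨modEv 7 _ τ h⟩)
      (by rw [card_fix21]; decide +kernel) Seven.ok hτ he

theorem ker_pow_twelve (hσ : Cfsg.IsStemExtension σ) : ∀ x ∈ σ.ker, x ^ 12 = 1 := by
  have h35 : Nat.Coprime 35 (Nat.card σ.ker) := by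
    have h5 : Nat.Coprime 5 (Nat.card σ.ker) := by
      have : Fact (Nat.Prime 5) := ⟨by norm_num⟩
      exact (Nat.Prime.coprime_iff_not_dvd (by norm_num)).2 (not_dvd_ker hσ (Or.inl rfl))
    have h7 : Nat.Coprime 7 (Nat.card σ.ker) := by
      have : Fact (Nat.Prime 7) := ⟨by norm_num⟩
      exact (Nat.Prime.coprime_iff_not_dvd (by norm_num)).2 (not_dvd_ker hσ (Or.inr rfl))
    rw [show (35 : ℕ) = 5 * 7 by norm_num]
    exact h5.mul_left h7
  have h576 : ∀ x ∈ σ.ker, x ^ 576 = 1 := by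
    intro x hx
    have h1 : orderOf x ∣ 576 * 35 := by
      rw [orderOf_dvd_iff_pow_eq_one, show 576 * 35 = Nat.card ↥(fixMasks X21) by rw [card_fix21]]
      exact ker_pow_card hσ x hx
    have h2 : orderOf x ∣ Nat.card σ.ker := by
      rw [← Subgroup.orderOf_mk x hx]
      exact orderOf_dvd_natCard _
    exact orderOf_dvd_iff_pow_eq_one.1 ((Nat.Coprime.coprime_dvd_left h2 h35.symm).dvd_of_dvd_mul_right h1)
  have h4 : ∀ (n : ℕ), ∀ x ∈ σ.ker, ∃ y ∈ σ.ker, x ^ 4 = y ^ (4 * 2 ^ n) := by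
    intro n
    induction n with
    | zero => exact fun x hx => ⟨x, hx, by norm_num⟩
    | succ n ih =>
      intro x hx
      obtain ⟨y, hy, e⟩ := exists_pow_eq_of_exponent 8 4
        (fun _ _ _ _ hτ h => eight_bound hτ h) hσ x hx
      obtain ⟨z, hz, e'⟩ := ih y hy
      refine ⟨z, hz, ?_⟩
      rw [← e, show y ^ 8 = (y ^ 4) ^ 2 by rw [← pow_mul], e', ← pow_mul, pow_succ, mul_assoc]
  have h36 : ∀ x ∈ σ.ker, x ^ 36 = 1 := by
    intro x hx
    obtain ⟨y, hy, e⟩ := h4 4 x hx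
    rw [show 36 = 4 * 9 by norm_num, pow_mul, e, ← pow_mul]
    exact h576 y hy
  intro x hx
  obtain ⟨y, hy, e⟩ := exists_pow_eq_of_exponent 9 3
    (fun _ _ _ _ hτ h => nine_bound hτ h) hσ x hx
  rw [show 12 = 3 * 4 by norm_num, pow_mul, ← e, ← pow_mul]
  exact h36 y hy

/-- An abelian group of exponent 12 with two generators modulo squares and one modulo cubes is an
image of `Z3 × Z4 × Z4`. -/
theorem surjective_of_gens {K : Type} [CommGroup K] (h12 : ∀ x : K, x ^ 12 = 1) (a b c : K)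
    (h2 : ∀ x : K, ∃ (i j : ℤ) (y : K), x = a ^ i * b ^ j * y ^ 2)
    (h3 : ∀ x : K, ∃ (i : ℤ) (y : K), x = c ^ i * y ^ 3) :
    ∃ f : Multiplicative (ZMod 3 × ZMod 4 × ZMod 4) →* K, Function.Surjective f := by
  have e3 : ∀ x : K, (x ^ 4) ^ 3 = 1 := fun x => by rw [← pow_mul]; exact h12 x
  have e4 : ∀ x : K, (x ^ 9) ^ 4 = 1 := fun x => by
    rw [← pow_mul, show 9 * 4 = 12 * 3 by norm_num, pow_mul, h12, one_pow]
  have lift : ∀ (n : ℕ) (g : K), g ^ n = 1 → ∃ f : ZMod n →+ Additive K,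
      ∀ i : ℤ, f i = Additive.ofMul (g ^ i) := by
    intro n g hg
    refine ⟨ZMod.lift n ⟨zmultiplesHom (Additive K) (Additive.ofMul g), ?_⟩, fun i => ?_⟩
    · rw [zmultiplesHom_apply, natCast_zsmul, ← ofMul_pow, hg, ofMul_one]
    · rw [ZMod.lift_coe, zmultiplesHom_apply, ← ofMul_zpow]
  obtain ⟨fc, hfc⟩ := lift 3 (c ^ 4) (e3 c)
  obtain ⟨fa, hfa⟩ := lift 4 (a ^ 9) (e4 a)
  obtain ⟨fb, hfb⟩ := lift 4 (b ^ 9) (e4 b)
  refine ⟨AddMonoidHom.toMultiplicativeLeft (fc.coprod (fa.coprod fb)), fun x => ?_⟩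
  obtain ⟨i, y, ey⟩ := h3 x
  obtain ⟨j, k, z, ez⟩ := h2 x
  obtain ⟨j', k', z', ez'⟩ := h2 z
  refine ⟨Multiplicative.ofAdd ((i : ZMod 3), ((j + 2 * j' : ℤ) : ZMod 4), ((k + 2 * k' : ℤ) : ZMod 4)), ?_⟩
  show Additive.toMul (fc (i : ZMod 3) + (fa ((j + 2 * j' : ℤ) : ZMod 4) + fb ((k + 2 * k' : ℤ) : ZMod 4))) = x
  rw [hfc, hfa, hfb, toMul_add, toMul_add, toMul_ofMul, toMul_ofMul, toMul_ofMul]
  have x4 : x ^ 4 = (c ^ 4) ^ i := by
    rw [ey, mul_pow, ← pow_mul, show 3 * 4 = 12 by norm_num, h12, mul_one, ← zpow_natCast (c ^ i),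
      ← zpow_mul, ← zpow_natCast c 4, ← zpow_mul, mul_comm]
  have sq : ∀ (u v : K) (m n : ℤ) (w : K), (u ^ m * v ^ n * w ^ 2) ^ 9 =
      (u ^ 9) ^ m * (v ^ 9) ^ n * (w ^ 9) ^ 2 := by
    intro u v m n w
    have d : ∀ (g : K) (l : ℤ), (g ^ l) ^ 9 = (g ^ 9) ^ l := fun g l => by
      rw [← zpow_natCast, ← zpow_mul, ← zpow_natCast, ← zpow_mul, mul_comm]
    rw [mul_pow, mul_pow, d, d, ← pow_mul, ← pow_mul, mul_comm 2 9]
  have x9 : x ^ 9 = (a ^ 9) ^ (j + 2 * j') * (b ^ 9) ^ (k + 2 * k') := by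
    rw [ez, sq, ez', sq, mul_pow, mul_pow, ← pow_mul (z' ^ 9), e4, mul_one, zpow_add, zpow_add]
    have d : ∀ (g : K) (m : ℤ), (g ^ m) ^ 2 = g ^ (2 * m) := fun g m => by
      rw [← zpow_natCast, ← zpow_mul, mul_comm]; rfl
    rw [d, d]
    ac_rfl
  rw [← x4, ← x9, ← pow_add, show 4 + 9 = 12 + 1 by norm_num, pow_add, h12, pow_one, one_mul]

theorem dvd_mult {q : ℕ} (h : ∃ (Γ : Type) (_ : Group Γ) (_ : Finite Γ) (τ : Γ →* ↥(fixMasks X21)),
    Cfsg.IsStemExtension τ ∧ q ∣ Nat.card τ.ker) :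
    q ∣ Nat.card ↥(Schur.mult ↥(fixMasks X21)) := by
  obtain ⟨Γ, _, _, τ, hτ, hd⟩ := h
  obtain ⟨π, hπ⟩ := Schur.exists_surjective_of_stem hτ
  exact hd.trans (Subgroup.card_dvd_of_surjective π hπ)

/-- The Schur multiplier of `M21`. -/
theorem multiplier_fix21 : Cfsg.HasSchurMultiplier ↥(fixMasks X21)
    (Multiplicative (ZMod 3 × ZMod 4 × ZMod 4)) := by
  obtain ⟨Γ, _, _, σ, hσ, ⟨e⟩, -⟩ :=
    Schur.exists_cover_over (Schur.isStemExtension_id ↥(fixMasks X21))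
  let _ : CommGroup σ.ker :=
    { (inferInstance : Group σ.ker) with
      mul_comm := fun a b => Subtype.ext (Subgroup.mem_center_iff.mp (hσ.2.1 b.2) a) }
  obtain ⟨a, ha, b, hb, h2⟩ := exists_two_gen hσ
  obtain ⟨c, hc, h3⟩ := exists_gen_mod 3 (fun _ _ _ _ hτ h => three_gen hτ h) hσ
  obtain ⟨f, hf⟩ := surjective_of_gens (K := σ.ker)
    (fun x => Subtype.ext (ker_pow_twelve hσ x x.2)) ⟨a, ha⟩ ⟨b, hb⟩ ⟨c, hc⟩
    (fun x => by
      obtain ⟨i, j, y, hy, e⟩ := h2 x x.2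
      exact ⟨i, j, ⟨y, hy⟩, Subtype.ext e⟩)
    (fun x => by
      obtain ⟨i, y, hy, e⟩ := h3 x x.2
      exact ⟨i, ⟨y, hy⟩, Subtype.ext e⟩)
  have h4 := dvd_mult (q := 4 ^ TableFour.raw.r) (TableExt.exists_stem_of_raw (q := 4) (X := X21)
    (R := TableFour.raw) (C := TableFour.cos) TableFour.el_ok TableFour.rows_ok TableFour.rep_ok
    TableFour.at_ok TableFour.total_ok (by rw [card_fix21]; decide +kernel))
  have h3' := dvd_mult (q := 3 ^ TableThree.raw.r) (TableExt.exists_stem_of_raw (q := 3) (X := X21)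
    (R := TableThree.raw) (C := TableThree.cos) TableThree.el_ok TableThree.rows_ok TableThree.rep_ok
    TableThree.at_ok TableThree.total_ok (by rw [card_fix21]; decide +kernel))
  rw [← Nat.card_congr e.toEquiv] at h4 h3'
  have hlow : 48 ∣ Nat.card σ.ker :=
    Nat.Coprime.mul_dvd_of_dvd_of_dvd (show Nat.Coprime 3 16 by norm_num) h3' h4
  have hup := Nat.card_le_card_of_surjective f hf
  rw [Nat.card_congr Multiplicative.toAdd, Nat.card_prod, Nat.card_prod, Nat.card_zmod,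
    Nat.card_zmod] at hup
  refine Schur.hasSchurMultiplier_iff.2 ⟨(MulEquiv.ofBijective f
    ((Nat.bijective_iff_surjective_and_card _).2 ⟨hf, ?_⟩)).trans e⟩
  rw [Nat.card_congr Multiplicative.toAdd, Nat.card_prod, Nat.card_prod, Nat.card_zmod, Nat.card_zmod]
  exact le_antisymm (Nat.le_of_dvd Nat.card_pos hlow) hup

end CfsgLib.KnownA.M21Schur
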