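import Cfsg.Agent.Lib.KnownA.M22Schur.Two
import Cfsg.Agent.Lib.KnownA.M22Schur.Eight
import Cfsg.Agent.Lib.KnownA.M22Schur.Three
import Cfsg.Agent.Lib.KnownA.M22Schur.Nine
import Cfsg.Agent.Lib.KnownA.M22Schur.Five
import Cfsg.Agent.Lib.KnownA.M22Schur.Seven
import Cfsg.Agent.Lib.KnownA.M22Schur.Eleven
import Cfsg.Agent.Lib.KnownA.M22Schur.ChecksFour
import Cfsg.Agent.Lib.KnownA.M22Schur.RowsFour
import Cfsg.Agent.Lib.KnownA.M22Schur.ChecksThree
import Cfsg.Agent.Lib.KnownA.M22Schur.RowsThree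
import Cfsg.Agent.Lib.Golay.Mathieu
import Cfsg.Agent.Lib.Coprime.SchurAbelian

/-!
The Schur multiplier of `M22` is cyclic of order 12: an upper bound from certificates, a lower
bound from stem extensions given by tables.
-/

set_option autoImplicit false
set_option maxRecDepth 100000

namespace CfsgLib.KnownA.M22Schur

open CfsgLib.Golay CfsgLib.KnownA.SchurCert CfsgLib.KnownA.SchurCert.Tables

variable {Γ : Type} [Group Γ] [Finite Γ] {σ : Γ →* ↥(fixMasks X22)}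

omit [Finite Γ] in
theorem ker_pow_of_bound {V : Type} (o : Ops V) (C : Cert V) (k : ℕ)
    (bound : List (ℕ × List (ℕ × ℕ))) (hb : (bound.all fun e => C.boundOK o e.1 k e.2) = true)
    (hσ : Cfsg.IsStemExtension σ) {t : ℕ → Γ}
    (htk : ∀ r, t r ∈ σ.ker) (ht : ∀ r q comb, C.boundOK o r q comb = true → t r ^ q = 1)
    (hle : σ.ker ≤ Subgroup.closure (t '' {r | r ∈ bound.map Prod.fst})) :
    ∀ x ∈ σ.ker, x ^ k = 1 := by
  simp only [List.all_eq_true] at hb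
  suffices ∀ y ∈ Subgroup.closure (t '' {r | r ∈ bound.map Prod.fst}), y ∈ σ.ker ∧ y ^ k = 1 from
    fun x hx => (this x (hle hx)).2
  intro y hy
  induction hy using Subgroup.closure_induction with
  | mem y hy =>
    obtain ⟨r, hr, rfl⟩ := hy
    obtain ⟨e, he', rfl⟩ := List.mem_map.1 hr
    exact ⟨htk _, ht _ _ _ (hb e he')⟩
  | one => exact ⟨one_mem _, one_pow k⟩
  | mul a b _ _ ha hb =>
    refine ⟨mul_mem ha.1 hb.1, ?_⟩
    rw [(show Commute a b from (Subgroup.mem_center_iff.mp (hσ.2.1 hb.1) a)).mul_pow, ha.2, hb.2,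
      one_mul]
  | inv a _ ha => exact ⟨inv_mem ha.1, by rw [inv_pow, ha.2, inv_one]⟩

theorem eight_bound (hσ : Cfsg.IsStemExtension σ) (he : ∀ x ∈ σ.ker, x ^ 8 = 1) :
    ∀ x ∈ σ.ker, x ^ 4 = 1 := by
  obtain ⟨t, ⟨htk, ht⟩, hle⟩ := ker_le_fix octOps Eight.cert _ X22 Eight.codes
    (fun τ h => ⟨octEv _ τ h⟩) (by rw [card_fix22]; decide +kernel) Eight.ok hσ he
  refine ker_pow_of_bound _ _ 4 _ Eight.bound_ok hσ htk ht ?_
  rw [show Eight.bound.map Prod.fst = [14, 13, 7, 0] by decide +kernel]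
  exact hle

theorem nine_bound (hσ : Cfsg.IsStemExtension σ) (he : ∀ x ∈ σ.ker, x ^ 9 = 1) :
    ∀ x ∈ σ.ker, x ^ 3 = 1 := by
  obtain ⟨t, ⟨htk, ht⟩, hle⟩ := ker_le_fix _ Nine.cert _ X22 Nine.codes
    (fun τ h => ⟨modEv 9 _ τ h⟩) (by rw [card_fix22]; decide +kernel) Nine.ok hσ he
  refine ker_pow_of_bound _ _ 3 _ Nine.bound_ok hσ htk ht ?_
  rw [show Nine.bound.map Prod.fst = [2, 1, 0] by decide +kernel]
  exact hle

theorem two_gen (hσ : Cfsg.IsStemExtension σ) (he : ∀ x ∈ σ.ker, x ^ 2 = 1) :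
    ∃ a ∈ σ.ker, σ.ker ≤ Subgroup.zpowers a := by
  obtain ⟨t, ⟨htk, -⟩, hle⟩ := ker_le_fix bitOps Two.cert _ X22 Two.codes
    (fun τ h => ⟨bitEv _ τ h⟩) (by rw [card_fix22]; decide +kernel) Two.ok hσ he
  refine ⟨t 14, htk _, hle.trans ((Subgroup.closure_le _).2 ?_)⟩
  rintro _ ⟨r, hr, rfl⟩
  rw [show r = 14 by simpa using hr]
  exact Subgroup.mem_zpowers _

theorem three_gen (hσ : Cfsg.IsStemExtension σ) (he : ∀ x ∈ σ.ker, x ^ 3 = 1) :
    ∃ a ∈ σ.ker, σ.ker ≤ Subgroup.zpowers a := by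
  obtain ⟨t, ⟨htk, -⟩, hle⟩ := ker_le_fix _ Three.cert _ X22 Three.codes
    (fun τ h => ⟨modEv 3 _ τ h⟩) (by rw [card_fix22]; decide +kernel) Three.ok hσ he
  refine ⟨t 1, htk _, hle.trans ((Subgroup.closure_le _).2 ?_)⟩
  rintro _ ⟨r, hr, rfl⟩
  rw [show r = 1 by simpa using hr]
  exact Subgroup.mem_zpowers _

theorem not_dvd_ker (hσ : Cfsg.IsStemExtension σ) {p : ℕ} [Fact p.Prime]
    (hp : p = 5 ∨ p = 7 ∨ p = 11) : ¬ p ∣ Nat.card σ.ker := by
  refine prime_not_dvd_ker p (fun Δ _ _ τ hτ he => ?_) hσ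
  rcases hp with rfl | rfl | rfl
  · exact ker_eq_bot_fix _ Five.cert X22 Five.codes (fun τ h => ⟨modEv 5 _ τ h⟩)
      (by rw [card_fix22]; decide +kernel) Five.ok hτ he
  · exact ker_eq_bot_fix _ Seven.cert X22 Seven.codes (fun τ h => ⟨modEv 7 _ τ h⟩)
      (by rw [card_fix22]; decide +kernel) Seven.ok hτ he
  · exact ker_eq_bot_fix _ Eleven.cert X22 Eleven.codes (fun τ h => ⟨modEv 11 _ τ h⟩)
      (by rw [card_fix22]; decide +kernel) Eleven.ok hτ he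

theorem ker_pow_twelve (hσ : Cfsg.IsStemExtension σ) : ∀ x ∈ σ.ker, x ^ 12 = 1 := by
  have : Fact (Nat.Prime 5) := ⟨by norm_num⟩
  have : Fact (Nat.Prime 7) := ⟨by norm_num⟩
  have : Fact (Nat.Prime 11) := ⟨by norm_num⟩
  have hco : ∀ p, p.Prime → (p = 5 ∨ p = 7 ∨ p = 11) → Nat.Coprime p (Nat.card σ.ker) := by
    intro p hp h
    have : Fact p.Prime := ⟨hp⟩
    exact hp.coprime_iff_not_dvd.2 (not_dvd_ker hσ h)
  have h385 : Nat.Coprime 385 (Nat.card σ.ker) := by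
    rw [show (385 : ℕ) = 5 * 7 * 11 by norm_num]
    exact ((hco 5 (by norm_num) (by norm_num)).mul_left (hco 7 (by norm_num) (by norm_num))).mul_left
      (hco 11 (by norm_num) (by norm_num))
  have h1152 : ∀ x ∈ σ.ker, x ^ 1152 = 1 := by
    intro x hx
    have h1 : orderOf x ∣ 1152 * 385 := by
      rw [orderOf_dvd_iff_pow_eq_one, show 1152 * 385 = Nat.card ↥(fixMasks X22) by rw [card_fix22]]
      exact ker_pow_card hσ x hx
    have h2 : orderOf x ∣ Nat.card σ.ker := by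
      rw [← Subgroup.orderOf_mk x hx]
      exact orderOf_dvd_natCard _
    exact orderOf_dvd_iff_pow_eq_one.1 ((Nat.Coprime.coprime_dvd_left h2 h385.symm).dvd_of_dvd_mul_right h1)
  have h4 : ∀ (n : ℕ), ∀ x ∈ σ.ker, ∃ y ∈ σ.ker, x ^ 4 = y ^ (4 * 2 ^ n) := by
    intro n
    induction n with
    | zero => exact fun x hx => ⟨x, hx, by norm_num⟩
    | succ n ih =>
      intro x hx
      obtain ⟨y, hy, e⟩ := exists_pow_eq_of_exponent 8 4
        (fun _ _ _ _ hτ h => eight_bound hτ h) hσ x hx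
      obtain ⟨z, hz, e'⟩ := ih y hy
      refine ⟨z, hz, ?_⟩
      rw [← e, show y ^ 8 = (y ^ 4) ^ 2 by rw [← pow_mul], e', ← pow_mul, pow_succ, mul_assoc]
  have h36 : ∀ x ∈ σ.ker, x ^ 36 = 1 := by
    intro x hx
    obtain ⟨y, hy, e⟩ := h4 5 x hx
    rw [show 36 = 4 * 9 by norm_num, pow_mul, e, ← pow_mul]
    exact h1152 y hy
  intro x hx
  obtain ⟨y, hy, e⟩ := exists_pow_eq_of_exponent 9 3
    (fun _ _ _ _ hτ h => nine_bound hτ h) hσ x hx
  rw [show 12 = 3 * 4 by norm_num, pow_mul, ← e, ← pow_mul]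
  exact h36 y hy

/-- The kernel of a stem extension is cyclic of order dividing 12. -/
theorem bound (hσ : Cfsg.IsStemExtension σ) : IsCyclic σ.ker ∧ Nat.card σ.ker ∣ 12 := by
  let _ : CommGroup σ.ker :=
    { (inferInstance : Group σ.ker) with
      mul_comm := fun a b => Subtype.ext (Subgroup.mem_center_iff.mp (hσ.2.1 b.2) a) }
  obtain ⟨a, ha, h2⟩ := exists_gen_mod 2 (fun _ _ _ _ hτ h => two_gen hτ h) hσ
  obtain ⟨b, hb, h3⟩ := exists_gen_mod 3 (fun _ _ _ _ hτ h => three_gen hτ h) hσ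
  refine cyclic_twelve (fun x => Subtype.ext (ker_pow_twelve hσ x x.2)) ⟨a, ha⟩ ⟨b, hb⟩ ?_ ?_
  · intro x
    obtain ⟨i, y, hy, e⟩ := h2 x x.2
    exact ⟨i, ⟨y, hy⟩, Subtype.ext e⟩
  · intro x
    obtain ⟨i, y, hy, e⟩ := h3 x x.2
    exact ⟨i, ⟨y, hy⟩, Subtype.ext e⟩

theorem dvd_mult {q : ℕ} (h : ∃ (Γ : Type) (_ : Group Γ) (_ : Finite Γ) (τ : Γ →* ↥(fixMasks X22)),
    Cfsg.IsStemExtension τ ∧ q ∣ Nat.card τ.ker) :
    q ∣ Nat.card ↥(Schur.mult ↥(fixMasks X22)) := by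
  obtain ⟨Γ, _, _, τ, hτ, hd⟩ := h
  obtain ⟨π, hπ⟩ := Schur.exists_surjective_of_stem hτ
  exact hd.trans (Subgroup.card_dvd_of_surjective π hπ)

/-- The Schur multiplier of `M22` is cyclic of order 12. -/
theorem multiplier_fix22 : Cfsg.HasCyclicSchurMultiplier ↥(fixMasks X22) 12 := by
  obtain ⟨Γ, _, _, σ, hσ, ⟨e⟩, -⟩ :=
    Schur.exists_cover_over (Schur.isStemExtension_id ↥(fixMasks X22))
  obtain ⟨hc, hd⟩ := bound hσ
  rw [Schur.hasCyclicSchurMultiplier_iff]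
  refine ⟨e.isCyclic.mp hc, Nat.dvd_antisymm (Nat.card_congr e.toEquiv ▸ hd) ?_⟩
  have h4 := dvd_mult (q := 4 ^ TableFour.raw.r) (TableExt.exists_stem_of_raw (q := 4) (X := X22) (R := TableFour.raw)
    (C := TableFour.cos) TableFour.el_ok TableFour.rows_ok TableFour.rep_ok TableFour.at_ok
    TableFour.total_ok (by rw [card_fix22]; decide +kernel))
  have h3 := dvd_mult (q := 3 ^ TableThree.raw.r) (TableExt.exists_stem_of_raw (q := 3) (X := X22) (R := TableThree.raw)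
    (C := TableThree.cos) TableThree.el_ok TableThree.rows_ok TableThree.rep_ok TableThree.at_ok
    TableThree.total_ok (by rw [card_fix22]; decide +kernel))
  exact Nat.Coprime.mul_dvd_of_dvd_of_dvd (show Nat.Coprime 4 3 by norm_num) h4 h3

end CfsgLib.KnownA.M22Schur
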