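import Cfsg.Agent.Lib.KnownA.MathieuSchurM12
import Cfsg.Agent.Lib.Coprime.SchurAbelian

/-!
The double cover of `M12` by signed permutations preserving the ternary Golay code, and the
multiplier of `M12`. The signed points are `0..23`, with `k + 12` the negative of `k`.
-/

set_option autoImplicit false
set_option maxRecDepth 100000

namespace CfsgLib.KnownA.M12Cover

open CfsgLib.Golay CfsgLib.KnownA.Mathieu CfsgLib.KnownA.SchurCert Cfsg
open scoped Pointwise commutatorElement

/-- A table as a function. -/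
def tblFun (t : List (Fin 24)) (i : Fin 24) : Fin 24 := t.getD i.val 0

/-- The sign change. -/
def neg : Equiv.Perm (Fin 24) where
  toFun := tblFun [12, 13, 14, 15, 16, 17, 18, 19, 20, 21, 22, 23, 0, 1, 2, 3, 4, 5, 6, 7, 8, 9, 10, 11]
  invFun := tblFun [12, 13, 14, 15, 16, 17, 18, 19, 20, 21, 22, 23, 0, 1, 2, 3, 4, 5, 6, 7, 8, 9, 10, 11]
  left_inv := by decide +kernel
  right_inv := by decide +kernel

/-- Lift of the first generator. -/
def gA : Equiv.Perm (Fin 24) where
  toFun := tblFun [17, 4, 3, 9, 7, 2, 8, 0, 10, 6, 1, 23, 5, 16, 15, 21, 19, 14, 20, 12, 22, 18, 13, 11]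
  invFun := tblFun [7, 10, 5, 2, 1, 12, 9, 4, 6, 3, 8, 23, 19, 22, 17, 14, 13, 0, 21, 16, 18, 15, 20, 11]
  left_inv := by decide +kernel
  right_inv := by decide +kernel

/-- Lift of the second generator. -/
def gB : Equiv.Perm (Fin 24) where
  toFun := tblFun [11, 4, 0, 15, 6, 22, 17, 2, 13, 8, 19, 21, 23, 16, 12, 3, 18, 10, 5, 14, 1, 20, 7, 9]
  invFun := tblFun [2, 20, 7, 15, 1, 18, 4, 22, 9, 23, 17, 0, 14, 8, 19, 3, 13, 6, 16, 10, 21, 11, 5, 12]
  left_inv := by decide +kernel
  right_inv := by decide +kernel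

/-- The generators. -/
def gl : List (Equiv.Perm (Fin 24)) := [gA, gB]

/-- A basis of the ternary Golay code. -/
def basis : List (List ℕ) :=
  [[1, 0, 0, 0, 0, 0, 1, 2, 1, 1, 2, 0], [0, 1, 0, 0, 0, 0, 2, 2, 1, 0, 1, 1], [0, 0, 1, 0, 0, 0, 2, 1, 1, 1, 0, 2], [0, 0, 0, 1, 0, 0, 0, 1, 1, 2, 2, 1], [0, 0, 0, 0, 1, 0, 2, 0, 2, 1, 2, 1], [0, 0, 0, 0, 0, 1, 2, 2, 0, 2, 2, 2]]

/-- The basis as odd functions on signed points. -/
def fbn (i : Fin 6) (x : Fin 24) : ℕ :=
  bif Nat.blt x.val 12 then (basis.getD i.val []).getD x.val 0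
  else 2 * (basis.getD i.val []).getD (x.val - 12) 0

/-- The basis over `ZMod 3`. -/
def fb (i : Fin 6) (x : Fin 24) : ZMod 3 := (fbn i x : ZMod 3)

/-- The pivot points. -/
def piv (k : Fin 6) : Fin 24 := Fin.castLE (by omega) k

/-- The code. -/
def code : Submodule (ZMod 3) (Fin 24 → ZMod 3) := Submodule.span (ZMod 3) (Set.range fb)

theorem fb_piv : ∀ i k : Fin 6, fb i (piv k) = if i = k then 1 else 0 := by decide +kernel

theorem expand {f : Fin 24 → ZMod 3} (hf : f ∈ code) : f = ∑ k, f (piv k) • fb k := by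
  induction hf using Submodule.span_induction with
  | mem x hx =>
    obtain ⟨i, rfl⟩ := hx
    simp [fb_piv, ite_smul]
  | zero => simp
  | add x y _ _ hx hy =>
    simp only [Pi.add_apply, add_smul, Finset.sum_add_distrib]
    rw [← hx, ← hy]
  | smul a x _ hx =>
    simp only [Pi.smul_apply, smul_eq_mul, mul_smul, ← Finset.smul_sum]
    rw [← hx]

/-- The kernel check of the invariance of the code. -/
def codeInv : Bool :=
  gl.all fun g => (List.finRange 6).all fun i => (List.finRange 24).all fun x =>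
    Nat.beq (fbn i (g x) % 3) ((fbn i (g (piv 0)) * fbn 0 x + fbn i (g (piv 1)) * fbn 1 x +
      fbn i (g (piv 2)) * fbn 2 x + fbn i (g (piv 3)) * fbn 3 x + fbn i (g (piv 4)) * fbn 4 x +
      fbn i (g (piv 5)) * fbn 5 x) % 3)

theorem codeInv_ok : codeInv = true := by decide +kernel

theorem gens_code : ∀ g ∈ gl, ∀ i : Fin 6, ∀ x : Fin 24,
    fb i (g x) = ∑ k, fb i (g (piv k)) * fb k x := by
  intro g hg i x
  have h := codeInv_ok
  simp only [codeInv, List.all_eq_true] at h
  have h' := Nat.eq_of_beq_eq_true (h g hg i (List.mem_finRange i) x (List.mem_finRange x))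
  rw [← ZMod.natCast_eq_natCast_iff'] at h'
  simp only [fb, Fin.sum_univ_six]
  push_cast at h'
  exact h'

theorem gens_comm : ∀ g ∈ gl, ∀ x : Fin 24, g (neg x) = neg (g x) := by
  have h : (gl.all fun g => (List.finRange 24).all fun x => decide (g (neg x) = neg (g x))) = true := by
    decide +kernel
  simp only [List.all_eq_true, decide_eq_true_eq] at h
  exact fun g hg x => h g hg x (List.mem_finRange x)

/-- The cover. -/
def cover : Subgroup (Equiv.Perm (Fin 24)) := Subgroup.closure {g | g ∈ gl}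

theorem cover_props {g : Equiv.Perm (Fin 24)} (hg : g ∈ cover) :
    (∀ x, g (neg x) = neg (g x)) ∧ ∀ f ∈ code, f ∘ g ∈ code := by
  rw [cover, ← Subgroup.mem_toSubmonoid, Subgroup.closure_toSubmonoid_of_finite] at hg
  induction hg using Submonoid.closure_induction with
  | mem g hg =>
    refine ⟨gens_comm g hg, fun f hf => ?_⟩
    induction hf using Submodule.span_induction with
    | mem x hx =>
      obtain ⟨i, rfl⟩ := hx
      rw [show fb i ∘ g = ∑ k, fb i (g (piv k)) • fb k from funext fun x => by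
        simpa using gens_code g hg i x]
      exact Submodule.sum_mem _ fun k _ => Submodule.smul_mem _ _ (Submodule.subset_span ⟨k, rfl⟩)
    | zero => exact code.zero_mem
    | add x y _ _ hx hy => exact code.add_mem hx hy
    | smul a x _ hx => exact code.smul_mem a hx
  | one => exact ⟨fun x => rfl, fun f hf => hf⟩
  | mul a b _ _ ha hb =>
    exact ⟨fun x => by simp [Equiv.Perm.mul_apply, hb.1, ha.1],
      fun f hf => hb.2 _ (ha.2 f hf)⟩

/-- Forgetting the sign. -/
def down (x : Fin 24) : Fin 12 := ⟨x.val % 12, Nat.mod_lt _ (by norm_num)⟩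

/-- A lift of a point. -/
def up (k : Fin 12) : Fin 24 := Fin.castLE (by omega) k

theorem down_up : ∀ k, down (up k) = k := by decide +kernel

theorem down_eq : ∀ x y : Fin 24, down x = down y → x = y ∨ x = neg y := by decide +kernel

theorem neg_neg : ∀ x, neg (neg x) = x := by decide +kernel

theorem down_neg : ∀ x, down (neg x) = down x := by decide +kernel

theorem down_congr {g : Equiv.Perm (Fin 24)} (hg : g ∈ cover) (x : Fin 24) :
    down (g (up (down x))) = down (g x) := by
  rcases down_eq (up (down x)) x (down_up _) with h | h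
  · rw [h]
  · rw [h, (cover_props hg).1, down_neg]

/-- The action on the twelve unsigned points. -/
def proj : cover →* Equiv.Perm (Fin 12) :=
  MonoidHom.mk' (fun g =>
    { toFun := fun k => down (g.1 (up k))
      invFun := fun k => down (g.1⁻¹ (up k))
      left_inv := fun k => by
        show down (g.1⁻¹ (up (down (g.1 (up k))))) = k
        rw [down_congr (cover.inv_mem g.2)]
        simp [down_up]
      right_inv := fun k => by
        show down (g.1 (up (down (g.1⁻¹ (up k))))) = k
        rw [down_congr g.2]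
        simp [down_up] })
    (fun g h => by
      refine Equiv.ext fun k => ?_
      show down ((g.1 * h.1) (up k)) = down (g.1 (up (down (h.1 (up k)))))
      rw [down_congr g.2]; rfl)

/-- Which sign. -/
def sgn (d : Bool) : ZMod 3 := if d then -1 else 1

theorem fb_odd (i : Fin 6) (x : Fin 24) : fb i (neg x) = -fb i x := by
  have h : ∀ i : Fin 6, ∀ x : Fin 24, Nat.beq ((fbn i (neg x) + fbn i x) % 3) 0 = true := by
    decide +kernel
  have h' : (fbn i (neg x) + fbn i x) % 3 = 0 % 3 := Nat.eq_of_beq_eq_true (h i x)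
  rw [← ZMod.natCast_eq_natCast_iff', Nat.cast_add, Nat.cast_zero] at h'
  exact eq_neg_of_add_eq_zero_left h'

theorem fb_ne {i : Fin 6} {x : Fin 24} (h : fbn i x % 3 ≠ 0) : fb i x ≠ 0 := fun he => h (by
  have h' : ((fbn i x : ℕ) : ZMod 3) = ((0 : ℕ) : ZMod 3) := by simpa [fb] using he
  simpa using (ZMod.natCast_eq_natCast_iff' _ _ _).1 h')

theorem fb_link (i : Fin 6) : ∃ x : Fin 12, ∃ j : Fin 6, fb i (up x) ≠ 0 ∧ fb j (up x) ≠ 0 ∧
    fb j (up 7) ≠ 0 := by
  obtain ⟨x, j, h1, h2, h3⟩ := (by decide +kernel : ∀ i : Fin 6, ∃ x : Fin 12, ∃ j : Fin 6,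
    fbn i (up x) % 3 ≠ 0 ∧ fbn j (up x) % 3 ≠ 0 ∧ fbn j (up 7) % 3 ≠ 0) i
  exact ⟨x, j, fb_ne h1, fb_ne h2, fb_ne h3⟩

theorem fb_cover (x : Fin 12) : ∃ i : Fin 6, fb i (up x) ≠ 0 := by
  obtain ⟨i, h⟩ := (by decide +kernel : ∀ x : Fin 12, ∃ i : Fin 6, fbn i (up x) % 3 ≠ 0) x
  exact ⟨i, fb_ne h⟩

theorem sgn_inj : ∀ a b : Bool, sgn a = sgn b → a = b := by decide +kernel

theorem ker_proj {g : cover} (hg : proj g = 1) : g.1 = 1 ∨ g.1 = neg := by
  have hk : ∀ x, g.1 x = x ∨ g.1 x = neg x := by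
    intro x
    have h := congrArg (fun e : Equiv.Perm (Fin 12) => e (down x)) hg
    have h' : down (g.1 (up (down x))) = down x := h
    rw [down_congr g.2] at h'
    exact down_eq _ _ h'
  let d : Fin 24 → Bool := fun x => decide (g.1 x ≠ x)
  have hfb : ∀ i x, fb i (g.1 x) = sgn (d x) * fb i x := by
    intro i x
    by_cases h : g.1 x = x
    · simp [d, sgn, h]
    · rcases hk x with h' | h'
      · exact absurd h' h
      · simp [d, sgn, h]
        rw [h', fb_odd]
  have key : ∀ i : Fin 6, ∀ x, fb i x ≠ 0 → d x = d (piv i) := by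
    intro i x hx
    have h := congrFun (expand ((cover_props g.2).2 _ (Submodule.subset_span ⟨i, rfl⟩))) x
    simp only [Function.comp_apply, Finset.sum_apply, Pi.smul_apply, smul_eq_mul, hfb, fb_piv] at h
    rw [Finset.sum_eq_single i (fun k _ hk => by simp [Ne.symm hk]) (by simp), if_pos rfl, mul_one] at h
    exact sgn_inj _ _ (mul_right_cancel₀ hx h)
  have hpiv : ∀ i, d (piv i) = d (up 7) := by
    intro i
    obtain ⟨x, j, h1, h2, h3⟩ := fb_link i
    rw [← key i _ h1, key j _ h2, key j _ h3]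
  have hup : ∀ k, d (up k) = d (up 7) := by
    intro k
    obtain ⟨i, hi⟩ := fb_cover k
    rw [key i _ hi, hpiv]
  have hall : ∀ x, d x = d (up 7) := by
    intro x
    rcases down_eq x (up (down x)) (down_up _).symm with h | h
    · rw [h, hup]
    · have hd : ∀ y, d (neg y) = d y := fun y => by
        simp only [d, (cover_props g.2).1]
        exact decide_eq_decide.2 (not_congr neg.apply_eq_iff_eq)
      rw [h, hd, hup]
  cases hc : d (up 7)
  · left
    refine Equiv.ext fun x => ?_
    have := hall x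
    rw [hc] at this
    simpa [d] using this
  · right
    refine Equiv.ext fun x => ?_
    have := hall x
    rw [hc] at this
    exact (hk x).resolve_left (by simpa [d] using this)

/-- The points of the dodecad. -/
def pts : List ℕ := [0, 1, 2, 3, 4, 6, 8, 9, 12, 13, 16, 18]

/-- The number of a point of the dodecad. -/
def num (i : ℕ) : Fin 12 := Fin.ofNat 12 (pts.idxOf i)

theorem pts_mem : ∀ k : Fin 12, pts.getD k.val 0 < 24 ∧ sqMask.testBit (pts.getD k.val 0) = true ∧
    num (pts.getD k.val 0) = k := by decide +kernel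

theorem num_spec : ∀ i < 24, sqMask.testBit i = true → pts.getD (num i).val 0 = i := by
  decide +kernel

theorem pts_num (σ : fixMasks X12) (k : Fin 12) :
    pt (pts.getD (num (idx (σ.1 (pt (pts.getD k.val 0))))).val 0) = σ.1 (pt (pts.getD k.val 0)) := by
  have h : σ.1 (pt (pts.getD k.val 0)) ∈ mset sqMask := fix12_maps σ (mem_mset.2 (by rw [idx_pt (pts_mem k).1]; exact (pts_mem k).2.1))
  rw [num_spec _ (idx_lt _) (mem_mset.1 h), pt_idx]

/-- The action on the dodecad. -/
def rho : fixMasks X12 →* Equiv.Perm (Fin 12) :=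
  MonoidHom.mk' (fun σ =>
    { toFun := fun k => num (idx (σ.1 (pt (pts.getD k.val 0))))
      invFun := fun k => num (idx ((σ⁻¹).1 (pt (pts.getD k.val 0))))
      left_inv := fun k => by
        show num (idx ((σ⁻¹).1 (pt (pts.getD (num (idx (σ.1 (pt (pts.getD k.val 0))))).val 0)))) = k
        rw [pts_num, Subgroup.coe_inv, ← Equiv.Perm.mul_apply, inv_mul_cancel, Equiv.Perm.one_apply,
          idx_pt (pts_mem k).1, (pts_mem k).2.2]
      right_inv := fun k => by
        show num (idx (σ.1 (pt (pts.getD (num (idx ((σ⁻¹).1 (pt (pts.getD k.val 0))))).val 0)))) = k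
        rw [pts_num, Subgroup.coe_inv, ← Equiv.Perm.mul_apply, mul_inv_cancel, Equiv.Perm.one_apply,
          idx_pt (pts_mem k).1, (pts_mem k).2.2] })
    (fun σ τ => by
      refine Equiv.ext fun k => ?_
      show num (idx ((σ.1 * τ.1) (pt (pts.getD k.val 0)))) =
        num (idx (σ.1 (pt (pts.getD (num (idx (τ.1 (pt (pts.getD k.val 0))))).val 0))))
      rw [pts_num]; rfl)

theorem rho_injective : Function.Injective rho := by
  rw [injective_iff_map_eq_one]
  intro σ hσ
  refine Subtype.ext (faith_fix12 σ.2 fun i hi => ?_)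
  have hi' : i < 24 ∧ sqMask.testBit i = true :=
    (by decide +kernel : ∀ i < 5, i < 24 ∧ sqMask.testBit i = true) i hi
  have h0 := num_spec i hi'.1 hi'.2
  have h := congrArg (fun e : Equiv.Perm (Fin 12) => e (num i)) hσ
  have h' : num (idx (σ.1 (pt (pts.getD (num i).val 0)))) = num i := h
  have h2 := pts_num σ (num i)
  rw [h', h0] at h2
  exact h2.symm

/-- The generators of `M12`. -/
noncomputable def mgen (j : Fin 2) : fixMasks X12 :=
  ⟨permOf (M12genInit.getD j.val idCode),
    inFix_mem ((by decide +kernel : ∀ j : Fin 2, inFix X12 (M12genInit.getD j.val idCode) = true) j)⟩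

theorem mgen_top : Subgroup.closure (Set.range mgen) = ⊤ := by
  rw [eq_top_iff, ← Subgroup.map_subtype_le_map_subtype, MonoidHom.map_closure]
  refine (Subgroup.map_le_range _ _).trans ?_
  rw [Subgroup.range_subtype]
  refine fixMasks_le_of_gens chain12 (slpOK_sound (fun c hc => ?_) M12gen_ok)
  refine Subgroup.subset_closure ?_
  obtain ⟨j, hj, rfl⟩ := List.getElem_of_mem hc
  exact ⟨mgen ⟨j, hj⟩, ⟨_, rfl⟩, by simp [mgen, -List.getD_eq_getElem?_getD, List.getD_eq_getElem _ _ hj]⟩

/-- The generators of the cover. -/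
def cgen (j : Fin 2) : cover :=
  ⟨gl.getD j.val 1, Subgroup.subset_closure
    ((by decide +kernel : ∀ j : Fin 2, gl.getD j.val 1 ∈ gl) j)⟩

theorem gens_match_aux : ∀ j : Fin 2, ∀ k : Fin 12,
    num (img (M12genInit.getD j.val idCode) (pts.getD k.val 0)) = down ((gl.getD j.val 1) (up k)) := by
  decide +kernel

theorem gens_match (j : Fin 2) : proj (cgen j) = rho (mgen j) := by
  refine Equiv.ext fun k => ?_
  show down ((gl.getD j.val 1) (up k)) =
    num (idx (permOf (M12genInit.getD j.val idCode) (pt (pts.getD k.val 0))))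
  have hv : valid (M12genInit.getD j.val idCode) = true :=
    (by decide +kernel : ∀ j : Fin 2, valid (M12genInit.getD j.val idCode) = true) j
  rw [permOf_pt hv (pts_mem k).1, idx_pt (valid_lt hv (pts_mem k).1), gens_match_aux]

theorem cgen_top : Subgroup.closure (Set.range cgen) = ⊤ := by
  refine (Subgroup.map_injective cover.subtype_injective) ?_
  rw [MonoidHom.map_closure, ← MonoidHom.range_eq_map, Subgroup.range_subtype]
  conv_rhs => rw [cover]
  congr 1
  ext g
  constructor
  · rintro ⟨_, ⟨j, rfl⟩, rfl⟩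
    exact (by decide +kernel : ∀ j : Fin 2, gl.getD j.val 1 ∈ gl) j
  · intro hg
    obtain ⟨j, hj, rfl⟩ := List.getElem_of_mem hg
    exact ⟨cgen ⟨j, hj⟩, ⟨_, rfl⟩, by simp [cgen, -List.getD_eq_getElem?_getD, List.getD_eq_getElem _ _ hj]⟩

theorem proj_range : proj.range = rho.range := by
  rw [MonoidHom.range_eq_map, MonoidHom.range_eq_map, ← cgen_top, ← mgen_top, MonoidHom.map_closure,
    MonoidHom.map_closure, ← Set.range_comp, ← Set.range_comp]
  congr 1
  exact congrArg Set.range (funext gens_match)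

/-- The covering map. -/
noncomputable def cov : cover →* fixMasks X12 :=
  (MonoidHom.ofInjective rho_injective).symm.toMonoidHom.comp
    ((MulEquiv.subgroupCongr proj_range).toMonoidHom.comp proj.rangeRestrict)

theorem cov_surjective : Function.Surjective cov :=
  (MonoidHom.ofInjective rho_injective).symm.surjective.comp
    ((MulEquiv.subgroupCongr proj_range).surjective.comp proj.rangeRestrict_surjective)

theorem mem_ker_cov {g : cover} : g ∈ cov.ker ↔ proj g = 1 := by
  simp only [cov, MonoidHom.mem_ker, MonoidHom.comp_apply, MulEquiv.coe_toMonoidHom,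
    MulEquiv.map_eq_one_iff]
  exact Subtype.ext_iff

/-- The first word. -/
def wordU : List (Fin 2) := [0, 0, 1, 1, 0, 0, 0, 1, 0, 1, 0, 0, 0, 0, 0, 0, 0, 0, 1]

/-- The second word. -/
def wordV : List (Fin 2) := [1, 0, 1, 0, 1, 1, 1, 1, 0, 0, 1, 0, 0, 1, 0, 0]

/-- Its value. -/
def val (w : List (Fin 2)) : cover := (w.map cgen).prod

theorem commutator_val : ((⁅val wordU, val wordV⁆ : cover) : Equiv.Perm (Fin 24)) = neg := by
  refine Equiv.ext ?_
  decide +kernel

theorem neg_mem : neg ∈ cover := commutator_val ▸ SetLike.coe_mem _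

theorem stem_cov : Cfsg.IsStemExtension cov := by
  refine ⟨cov_surjective, fun g hg => ?_, fun g hg => ?_⟩
  · refine Subgroup.mem_center_iff.mpr fun h => Subtype.ext ?_
    rcases ker_proj (mem_ker_cov.1 hg) with e | e
    · rw [Subgroup.coe_mul, Subgroup.coe_mul, e, mul_one, one_mul]
    · rw [Subgroup.coe_mul, Subgroup.coe_mul, e]
      exact Equiv.ext fun x => (cover_props h.2).1 x
  · rcases ker_proj (mem_ker_cov.1 hg) with e | e
    · rw [show g = 1 from Subtype.ext e]; exact one_mem _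
    · rw [show g = ⁅val wordU, val wordV⁆ from Subtype.ext (e.trans commutator_val.symm)]
      exact Subgroup.commutator_mem_commutator (Subgroup.mem_top _) (Subgroup.mem_top _)

theorem proj_neg : proj ⟨neg, neg_mem⟩ = 1 := Equiv.ext fun k => by
  show down (neg (up k)) = k
  rw [down_neg, down_up]

theorem card_ker_cov : Nat.card cov.ker = 2 := by
  rw [Nat.card_eq_two_iff]
  refine ⟨1, ⟨⟨neg, neg_mem⟩, mem_ker_cov.2 proj_neg⟩, ?_, Set.eq_univ_of_forall fun g => ?_⟩
  · intro h
    have := congrArg (fun g : cov.ker => g.1.1 0) h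
    revert this
    decide +kernel
  · rcases ker_proj (mem_ker_cov.1 g.2) with e | e
    · exact Or.inl (Subtype.ext (Subtype.ext e))
    · exact Or.inr (Set.mem_singleton_iff.2 (Subtype.ext (Subtype.ext e)))

/-- Only `2` can divide the kernel of a stem extension, and it does so at most once. -/
theorem bound (Γ : Type) [Group Γ] [Finite Γ] (σ : Γ →* ↥(fixMasks X12))
    (hσ : Cfsg.IsStemExtension σ) : IsCyclic σ.ker ∧ Nat.card σ.ker ∣ 2 := by
  have hc := card_fix12
  have hodd : ∀ p : ℕ, p.Prime → p ≠ 2 → ¬ p ∣ Nat.card σ.ker := by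
    intro p hp hp2
    have : Fact p.Prime := ⟨hp⟩
    intro hdvd
    obtain ⟨z, hz⟩ := exists_prime_orderOf_dvd_card' p hdvd
    have hpG : p ∣ 95040 := by
      rw [← hc, ← hz, ← Subgroup.orderOf_coe, orderOf_dvd_iff_pow_eq_one]
      exact ker_pow_card hσ (z : Γ) z.2
    have hmem : p ∈ Nat.primeFactorsList 95040 := (Nat.mem_primeFactorsList (by norm_num)).2 ⟨hp, hpG⟩
    rw [show Nat.primeFactorsList 95040 = [2, 2, 2, 2, 2, 2, 3, 3, 3, 5, 11] by simp] at hmem
    simp only [List.mem_cons, List.not_mem_nil, or_false] at hmem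
    have hcases : p = 3 ∨ p = 5 ∨ p = 11 := by omega
    refine prime_not_dvd_ker p (fun Δ _ _ τ hτ he => ?_) hσ hdvd
    rcases hcases with rfl | rfl | rfl
    · exact ker_eq_bot_fix _ M12.cert3 X12 M12.codes3 (fun τ h => ⟨modEv 3 _ τ h⟩)
        (by rw [hc]; decide +kernel) M12.ok3 hτ he
    · exact ker_eq_bot_fix _ M12.cert5 X12 M12.codes5 (fun τ h => ⟨modEv 5 _ τ h⟩)
        (by rw [hc]; decide +kernel) M12.ok5 hτ he
    · exact ker_eq_bot_fix _ M12.cert11 X12 M12.codes11 (fun τ h => ⟨modEv 11 _ τ h⟩)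
        (by rw [hc]; decide +kernel) M12.ok11 hτ he
  have h4 : ∀ (Δ : Type) [Group Δ] [Finite Δ] (τ : Δ →* ↥(fixMasks X12)),
      Cfsg.IsStemExtension τ → (∀ x ∈ τ.ker, x ^ 4 = 1) → ∀ x ∈ τ.ker, x ^ 2 = 1 := by
    intro Δ _ _ τ hτ he x hx
    obtain ⟨t, ⟨htk, ht⟩, hle⟩ := ker_le_fix _ M12.cert4 _ X12 M12.codes4
      (fun τ h => ⟨modEv 4 _ τ h⟩) (by rw [hc]; decide +kernel) M12.ok4 hτ he
    have hb := M12.bound4_ok
    simp only [List.all_eq_true] at hb
    have key : ∀ y ∈ Subgroup.closure (t '' {r | r ∈ M12.bound4.map Prod.fst}),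
        y ∈ τ.ker ∧ y ^ 2 = 1 := by
      intro y hy
      induction hy using Subgroup.closure_induction with
      | mem y hy =>
        obtain ⟨r, hr, rfl⟩ := hy
        obtain ⟨e, he', rfl⟩ := List.mem_map.1 hr
        exact ⟨htk _, ht _ _ _ (hb e he')⟩
      | one => exact ⟨one_mem _, one_pow 2⟩
      | mul a b _ _ ha hb =>
        refine ⟨mul_mem ha.1 hb.1, ?_⟩
        rw [(show Commute a b from (Subgroup.mem_center_iff.mp (hτ.2.1 hb.1) a)).mul_pow, ha.2, hb.2,
          one_mul]
      | inv a _ ha => exact ⟨inv_mem ha.1, by rw [inv_pow, ha.2, inv_one]⟩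
    refine (key x ?_).2
    have he' : M12.bound4.map Prod.fst = [0, 3, 9, 13] := by decide +kernel
    rw [he']
    exact hle hx
  let _ : CommGroup σ.ker :=
    { (inferInstance : Group σ.ker) with
      mul_comm := fun a b => Subtype.ext (Subgroup.mem_center_iff.mp (hσ.2.1 b.2) a) }
  have hexp : ∀ x ∈ σ.ker, x ^ 2 = 1 := by
    intro x hx
    let S2 : Subgroup σ.ker := (powMonoidHom 2 : σ.ker →* σ.ker).range
    have hsurj : Function.Surjective fun y : S2 => y ^ 2 := by
      rintro ⟨_, w, rfl⟩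
      obtain ⟨y, hy, hyw⟩ := exists_pow_eq_of_exponent 4 2 h4 hσ (w : Γ) w.2
      refine ⟨⟨⟨y, hy⟩ ^ 2, ⟨y, hy⟩, rfl⟩, Subtype.ext (Subtype.ext ?_)⟩
      show (y ^ 2) ^ 2 = (w : Γ) ^ 2
      rw [← pow_mul]; exact hyw
    have hinj := Finite.injective_iff_surjective.2 hsurj
    have hS2 : Nat.card S2 = 1 := by
      by_contra hne
      obtain ⟨p, hp, hpd⟩ := Nat.exists_prime_and_dvd hne
      rcases eq_or_ne p 2 with rfl | hp2
      · obtain ⟨z, hz⟩ := exists_prime_orderOf_dvd_card' 2 hpd
        have h := hinj (a₁ := z) (a₂ := 1) (by simp only [one_pow, ← hz, pow_orderOf_eq_one])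
        rw [h, orderOf_one] at hz
        omega
      · exact hodd p hp hp2 (hpd.trans (Subgroup.card_subgroup_dvd_card S2))
    have : (⟨x, hx⟩ : σ.ker) ^ 2 ∈ S2 := ⟨⟨x, hx⟩, rfl⟩
    rw [Subgroup.card_eq_one.1 hS2, Subgroup.mem_bot] at this
    simpa using congrArg Subtype.val this
  obtain ⟨t, ⟨htk, -⟩, hle⟩ := ker_le_fix _ M12.cert2 _ X12 M12.codes2 (fun τ h => ⟨bitEv _ τ h⟩)
    (by rw [hc]; decide +kernel) M12.ok2 hσ hexp
  rw [show {r | r ∈ [13]} = ({13} : Set ℕ) by ext; simp, Set.image_singleton,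
    ← Subgroup.zpowers_eq_closure] at hle
  have heq : σ.ker = Subgroup.zpowers (t 13) :=
    le_antisymm hle (Subgroup.zpowers_le.2 (htk 13))
  rw [heq]
  exact ⟨inferInstance, by rw [Nat.card_zpowers]; exact orderOf_dvd_of_pow_eq_one (hexp _ (htk 13))⟩

theorem multiplier : Cfsg.HasCyclicSchurMultiplier ↥Spor.M12 2 := by
  rw [sporM12_eq]
  exact CfsgLib.Schur.hasCyclicSchurMultiplier_of_bound' stem_cov card_ker_cov bound

end CfsgLib.KnownA.M12Cover
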