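import Cfsg.Agent.Lib.Golay.Mathieu

/-! Codes of generators of `M23` and `M24` normalising a subgroup of order `23` or `11`. -/

set_option autoImplicit false
set_option maxRecDepth 100000

namespace CfsgLib.KnownA.Mathieu

/-- `x ↦ x + 1`. -/
def codeA : ℕ := 956302485175575353788796878166559809

/-- `x ↦ 2 x`. -/
def codeC : ℕ := 983435072843990828779021698901151808

/-- A permutation normalising `⟨x ↦ 2 x⟩`. -/
def codeD23 : ℕ := 970459361523271695787015306425278496

/-- Program for the generators of `M23`. -/
def ops23 : List (ℕ × ℕ × ℕ) := [(0, 0, 956709441910203461498593497208492130),
  (0, 1, 958020233522794296771657265635857539),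
  (0, 4, 974450048287785784725826655061519491),
  (0, 5, 972975808713646314509689156241368195),
  (0, 4, 959826631700035592835386629062939940),
  (0, 7, 965378087057559555451227878738629924),
  (0, 7, 983996712962047934679381020443494564),
  (0, 9, 965160774068792603093824616654132388),
  (0, 10, 973049999246016792844494399233802404),
  (0, 11, 981490374121270289602257422457766052),
  (0, 10, 961390786083657548964162011464507397),
  (0, 11, 962060748172115857726354153953273088),
  (0, 12, 955591313414211645339509537994521896),
  (0, 13, 965773737295096793959481636404251113),
  (0, 14, 967390012256008161760988388561860175),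
  (16, 15, 956259261060207738184905398774143106),
  (0, 17, 983348624641957835503190680757807298),
  (0, 19, 955769740959372115257343149895920834),
  (0, 18, 957990867868080817201618192282339686),
  (0, 19, 963252574942512791765907283686135371),
  (0, 20, 969907374361757325506704438204029106),
  (0, 21, 979201856346044665536032717858848453),
  (0, 24, 972352986887295942746427096282806981),
  (0, 25, 976479351721471619730195326157457093),
  (0, 26, 967562473122840202061833997578900165),
  (0, 25, 962253613392090315635656403519347862),
  (0, 28, 955718642891544488144511157364471958),
  (0, 28, 965870375219841908936647037090863574),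
  (0, 30, 955872554118703517506515892371463638),
  (0, 29, 983955565071984061664557322130800878),
  (0, 32, 978829767507970839835599491762402542),
  (0, 31, 974288384273329010230280191953327527)]

/-- A permutation normalising `⟨x ↦ 2 x⟩`. -/
def codeD24 : ℕ := 15678632630496079850456276719587511

/-- Program for the generators of `M24`. -/
def ops24 : List (ℕ × ℕ × ℕ) := [(2, 2, 965300289861748889990672440075108384),
  (0, 3, 17535503770364017394806788781751479),
  (0, 4, 978076899444677511050001024522036256),
  (0, 4, 975679733630821471073662865963561248),
  (0, 6, 1795248432537898728475572672376535),
  (6, 7, 1472401443036105922061496834770263),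
  (0, 8, 974254899822750411239905598598325312),
  (0, 9, 4282309734579477888232897379769687),
  (0, 10, 969952412052033243847481939299780672),
  (0, 10, 965187236389021659349493918444160576),
  (0, 12, 2657477550659736903310341068544695),
  (0, 13, 980964495864933160907790752524878400),
  (0, 14, 4550919247006420967006775107244727),
  (0, 15, 974380510768821363662145534143076928)]

end CfsgLib.KnownA.Mathieu
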