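import Cfsg.Agent.Lib.KnownA.SchurCert
import Cfsg.Agent.Lib.KnownA.MathieuOut

/-!
The kernel checks of `SchurCert` for subgroups `fixMasks X` of `M24`, with table data in tries.
-/

set_option autoImplicit false
set_option maxRecDepth 100000

namespace CfsgLib.KnownA.SchurCert

open CfsgLib.Golay CfsgLib.KnownA.Mathieu Cfsg

/-- Binary tries indexed from the lowest bit. -/
inductive Trie where
  | leaf (a b c d : ℕ) : Trie
  | node (l r : Trie) : Trie

/-- The leaf of an index. -/
def Trie.get : Trie → ℕ → ℕ × ℕ × ℕ × ℕ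
  | .leaf a b c d, _ => (a, b, c, d)
  | .node l r, k => bif Nat.beq (k % 2) 0 then l.get (k / 2) else r.get (k / 2)

/-- A field of a packed number. -/
def field (w i x : ℕ) : ℕ := Nat.shiftRight x (w * i) % 2 ^ w

/-- The digits of a state, as a word. -/
def digitsWord (p n s : ℕ) : List ℕ :=
  (List.range n).flatMap fun i => List.replicate (s / p ^ i % p) i

/-- The certificate read from a trie. -/
def mkCert {V : Type} (dec : ℕ → ℕ → V) (p n N : ℕ) (T : Trie) (rels : List (List ℕ × List ℕ))
    (defn : List (Option ℕ)) (per : List ℕ) (cons : List (ℕ × ℕ))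
    (conj : List (List (ℕ × ℕ) × List (ℕ × ℕ × ℕ))) (final : List (List (ℕ × ℕ))) : Cert V where
  p := p
  n := n
  N := N
  word := digitsWord p n
  act s i := field 16 i (T.get s).1
  rels := rels
  defn := defn
  per := per
  msk s i := dec i (T.get s).2.1
  just s i := let x := field 32 i (T.get s).2.2.1
              (x % 256, x / 256 % 65536, x / 16777216)
  rank s i := field 16 i (T.get s).2.2.2
  cons := cons
  conj := conj
  final := final

/-- Masks for `p = 2`. -/
def decBit (i x : ℕ) : ℕ := field 64 i x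

/-- Masks for odd `p`. -/
def decMod (nt i x : ℕ) : List ℕ := (List.range nt).map fun r => field 8 r (field 64 i x)

/-- Words in the listed permutations act alike. -/
def eqc (codes : List ℕ) (w w' : List ℕ) : Bool :=
  eqW (w.map fun i => codes.getD i idCode) (w'.map fun i => codes.getD i idCode)

/-- All the checks. -/
def allOK {V : Type} (o : Ops V) (C : Cert V) (extras : List ℕ) (X codes : List ℕ) : Bool :=
  codes.all (inFix X) && C.presOK (eqc codes) && C.edgesOK o && C.injOK (eqc codes) &&
    C.consOK (eqc codes) && C.finalOK o extras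

theorem ker_le_fix {V : Type} (o : Ops V) (C : Cert V) (extras : List ℕ) (X codes : List ℕ)
    (hev : ∀ {K : Type} [CommGroup K] (τ : ℕ → K), (∀ x : K, x ^ C.p = 1) →
      Nonempty (Ev o C.rels.length τ))
    (hcard : Nat.Coprime C.p (Nat.card ↥(fixMasks X) / C.N)) (h : allOK o C extras X codes = true)
    {Γ : Type} [Group Γ] [Finite Γ] {σ : Γ →* ↥(fixMasks X)} (hσ : Cfsg.IsStemExtension σ)
    (hexp : ∀ x ∈ σ.ker, x ^ C.p = 1) :
    ∃ τ : ℕ → Γ, ((∀ r, τ r ∈ σ.ker) ∧ ∀ r q comb, C.boundOK o r q comb = true → τ r ^ q = 1) ∧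
      σ.ker ≤ Subgroup.closure (τ '' {r | r ∈ extras}) := by
  simp only [allOK, Bool.and_eq_true] at h
  obtain ⟨⟨⟨⟨⟨hcodes, h1⟩, h2⟩, h3⟩, h4⟩, h5⟩ := h
  rw [List.all_eq_true] at hcodes
  let gen : ℕ → ↥(fixMasks X) := fun i =>
    if h : inFix X (codes.getD i idCode) = true then ⟨permOf (codes.getD i idCode), inFix_mem h⟩
    else 1
  have hgen : ∀ i, ((gen i : ↥(fixMasks X)) : Equiv.Perm GolayPt) = permOf (codes.getD i idCode) := by
    intro i
    simp only [gen]
    split_ifs with h
    · rfl
    · rcases Nat.lt_or_ge i codes.length with hi | hi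
      · rw [List.getD_eq_getElem _ _ hi] at h
        exact absurd (hcodes _ (List.getElem_mem hi)) h
      · rw [List.getD_eq_default _ _ hi, permOf_idCode]; rfl
  have hval : ∀ w : List ℕ, ∀ g ∈ w.map (fun i => codes.getD i idCode), valid g = true := by
    intro w g hg
    obtain ⟨i, -, rfl⟩ := List.mem_map.1 hg
    rw [List.getD_eq_getElem?_getD]
    cases he : codes[i]? with
    | none => exact idCode_valid
    | some v => exact inFix_valid (hcodes v (List.mem_of_getElem? he))
  have hcoe : ∀ w : List ℕ, ((wprod gen w : ↥(fixMasks X)) : Equiv.Perm GolayPt) =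
      ((w.map fun i => codes.getD i idCode).map permOf).prod := by
    intro w
    rw [show ((wprod gen w : ↥(fixMasks X)) : Equiv.Perm GolayPt) =
      (fixMasks X).subtype (wprod gen w) from rfl, map_wprod, wprod, List.map_map]
    congr 1
    exact List.map_congr_left fun i _ => hgen i
  have hall : ∀ w w' : List ℕ,
      ((w.map fun i => codes.getD i idCode) ++ (w'.map fun i => codes.getD i idCode)).all valid =
        true := by
    intro w w'
    rw [← List.map_append, List.all_eq_true]
    exact hval _
  refine ker_le_of_cert (eqc codes) gen (fun w w' h => Subtype.ext ?_) (fun w w' h heq => ?_) o C extras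
    hev hcard h1 h2 h3 h4 h5 hσ hexp
  · rw [hcoe, hcoe]; exact eqW_sound (hall w w') h
  · exact neW_sound (hall w w') h (by rw [← hcoe, ← hcoe, heq])

theorem ker_eq_bot_fix {V : Type} (o : Ops V) (C : Cert V) (X codes : List ℕ)
    (hev : ∀ {K : Type} [CommGroup K] (τ : ℕ → K), (∀ x : K, x ^ C.p = 1) →
      Nonempty (Ev o C.rels.length τ))
    (hcard : Nat.Coprime C.p (Nat.card ↥(fixMasks X) / C.N)) (h : allOK o C [] X codes = true)
    {Γ : Type} [Group Γ] [Finite Γ] {σ : Γ →* ↥(fixMasks X)} (hσ : Cfsg.IsStemExtension σ)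
    (hexp : ∀ x ∈ σ.ker, x ^ C.p = 1) : σ.ker = ⊥ := by
  obtain ⟨τ, -, hle⟩ := ker_le_fix o C [] X codes hev hcard h hσ hexp
  simpa using hle

end CfsgLib.KnownA.SchurCert
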