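import Cfsg.Agent.Lib.KnownA.TableExt
import Cfsg.Agent.Lib.KnownA.CertTables
import Cfsg.Agent.Lib.KnownA.MathieuOut

/-!
Checked tables of subgroups of `fixMasks X ≤ M24` and of their coset representatives, for the
extensions of `TableExt`.
-/

set_option autoImplicit false
set_option maxRecDepth 100000

namespace CfsgLib.KnownA.TableExt

open CfsgLib.Golay CfsgLib.KnownA.Mathieu Cfsg
open CfsgLib.KnownA.SchurCert.Tables (fld ent)

/-- The element of `fixMasks X` with a code. -/
noncomputable def elOf (X : List ℕ) (c : ℕ) : ↥(fixMasks X) :=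
  if h : inFix X c = true then ⟨permOf c, inFix_mem h⟩ else 1

theorem coe_elOf {X : List ℕ} {c : ℕ} (h : inFix X c = true) :
    ((elOf X c : ↥(fixMasks X)) : Equiv.Perm GolayPt) = permOf c := by
  simp [elOf, h]

theorem elOf_eq_of_eqW {X : List ℕ} {a b c : ℕ} (ha : inFix X a = true) (hb : inFix X b = true)
    (hc : inFix X c = true) (h : eqW [a] [b, c] = true) : elOf X a = elOf X b * elOf X c := by
  refine Subtype.ext ?_
  rw [Subgroup.coe_mul, coe_elOf ha, coe_elOf hb, coe_elOf hc]
  have := eqW_sound (by simp [inFix_valid ha, inFix_valid hb, inFix_valid hc]) h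
  simpa using this

theorem elOf_mul_eq {X : List ℕ} {a b c d : ℕ} (ha : inFix X a = true) (hb : inFix X b = true)
    (hc : inFix X c = true) (hd : inFix X d = true) (h : eqW [a, b] [c, d] = true) :
    elOf X a * elOf X b = elOf X c * elOf X d := by
  refine Subtype.ext ?_
  rw [Subgroup.coe_mul, Subgroup.coe_mul, coe_elOf ha, coe_elOf hb, coe_elOf hc, coe_elOf hd]
  have := eqW_sound (by simp [inFix_valid ha, inFix_valid hb, inFix_valid hc, inFix_valid hd]) h
  simpa using this

/-- The code with canonical fields. -/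
def canon (g : ℕ) : Bool := Nat.blt g (2 ^ 120)

theorem eq_of_fld : ∀ {n a b : ℕ}, a < 32 ^ n → b < 32 ^ n →
    (∀ i < n, img a i = img b i) → a = b
  | 0, a, b, ha, hb, _ => by simp at ha hb; omega
  | n + 1, a, b, ha, hb, h => by
    have hi : ∀ x i, img x i = x / 2 ^ (5 * i) % 32 := fun x i => by
      show (x >>> (5 * i)) &&& 31 = _
      rw [Nat.shiftRight_eq_div_pow, show (31 : ℕ) = 2 ^ 5 - 1 by norm_num, Nat.and_two_pow_sub_one_eq_mod]
    have h0 := h 0 (Nat.succ_pos n)
    simp [hi] at h0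
    have := eq_of_fld (n := n) (a := a / 32) (b := b / 32)
      (by rw [Nat.div_lt_iff_lt_mul (by norm_num), ← pow_succ]; exact ha)
      (by rw [Nat.div_lt_iff_lt_mul (by norm_num), ← pow_succ]; exact hb) fun i hlt => by
        have := h (i + 1) (Nat.succ_lt_succ hlt)
        simp only [hi] at this ⊢
        rw [Nat.div_div_eq_div_mul, Nat.div_div_eq_div_mul,
          show 32 * 2 ^ (5 * i) = 2 ^ (5 * (i + 1)) by rw [mul_add, pow_add]; ring]
        exact this
    omega

theorem permOf_inj {a b : ℕ} (ha : valid a = true) (hb : valid b = true) (ca : canon a = true)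
    (cb : canon b = true) (h : permOf a = permOf b) : a = b := by
  simp only [canon, Nat.blt_eq] at ca cb
  refine eq_of_fld (n := 24) (by rwa [show (32 : ℕ) ^ 24 = 2 ^ 120 by norm_num])
    (by rwa [show (32 : ℕ) ^ 24 = 2 ^ 120 by norm_num]) fun i hi => ?_
  have e := congrFun (congrArg DFunLike.coe h) (pt i)
  rw [permOf_pt ha hi, permOf_pt hb hi] at e
  have e2 := congrArg idx e
  rwa [idx_pt (valid_lt ha hi), idx_pt (valid_lt hb hi)] at e2

/-- Strictly increasing. -/
def incr : List ℕ → Bool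
  | a :: b :: l => Nat.blt a b && incr (b :: l)
  | _ => true

theorem incr_nodup {l : List ℕ} (h : incr l = true) : l.Nodup := by
  suffices ∀ l : List ℕ, incr l = true → l.Pairwise (· < ·) from
    (this l h).imp fun hab => Nat.ne_of_lt hab
  intro l
  induction l with
  | nil => exact fun _ => List.Pairwise.nil
  | cons a l ih =>
    intro h
    match l, ih, h with
    | [], _, _ => exact List.pairwise_singleton _ _
    | b :: l, ih, h =>
      rw [incr, Bool.and_eq_true, Nat.blt_eq] at h
      have hp := ih h.2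
      refine List.pairwise_cons.2 ⟨fun c hc => ?_, hp⟩
      rcases List.mem_cons.1 hc with rfl | hc
      · exact h.1
      · exact h.1.trans ((List.pairwise_cons.1 hp).1 c hc)

/-- Raw data of a table: element codes, generator codes, packed rows. -/
structure Raw where
  N : ℕ
  n : ℕ
  el : ℕ → ℕ
  gen : ℕ → ℕ
  act : ℕ → ℕ → ℕ
  prd : ℕ → ℕ → ℕ
  r : ℕ
  m : ℕ → ℕ → ℕ → ℕ
  c : ℕ → ℕ → ℕ → ℕ
  par : ℕ → ℕ × ℕ
  ord : ℕ → ℕ
  rk : ℕ → ℕ

variable (q : ℕ) (X : List ℕ) (R : Raw)

/-- Checks of the elements and the action. -/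
def Raw.elOK : Bool :=
  Nat.blt 0 R.N && eqW [R.el 0] [] &&
  ((List.range R.N).all fun s => inFix X (R.el s) && canon (R.el s)) &&
  ((List.range R.n).all fun i => inFix X (R.gen i)) &&
  ((List.range R.N).all fun s => (List.range R.n).all fun i =>
    Nat.blt (R.act s i) R.N && eqW [R.el (R.act s i)] [R.el s, R.gen i]) &&
  ((List.range R.N).all fun t => Nat.beq t 0 ||
    Nat.blt (R.par t).1 t && Nat.blt (R.par t).2 R.n && Nat.beq (R.act (R.par t).1 (R.par t).2) t) &&
  incr ((List.range R.N).map fun i => R.el (R.ord i)) &&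
  ((List.range R.N).all fun s => Nat.blt (R.rk s) R.N && Nat.beq (R.ord (R.rk s)) s)

/-- Checks of the rows for one element. -/
def Raw.rowOK (s : ℕ) : Bool :=
  Nat.beq (R.prd s 0) s && Nat.beq (R.prd 0 s) s &&
  ((List.range R.r).all fun l => Nat.beq (R.c s 0 l) 0 && Nat.beq (R.c 0 s l) 0) &&
  (List.range R.N).all fun t => (List.range R.n).all fun i =>
    Nat.beq (R.prd s (R.act t i)) (R.act (R.prd s t) i) &&
    (List.range R.r).all fun l =>
      Nat.beq ((R.c s t l + R.m (R.prd s t) i l) % q) ((R.m t i l + R.c s (R.act t i) l) % q)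

theorem Raw.L_inj (h : R.elOK X = true) :
    ∀ s < R.N, ∀ t < R.N, elOf X (R.el s) = elOf X (R.el t) → s = t := by
  simp only [Raw.elOK, Bool.and_eq_true, List.all_eq_true, List.mem_range] at h
  obtain ⟨⟨⟨⟨⟨⟨⟨-, -⟩, he⟩, -⟩, -⟩, -⟩, hc⟩, hr⟩ := h
  intro s hs t ht e
  have e' := congrArg Subtype.val e
  rw [coe_elOf (he s hs).1, coe_elOf (he t ht).1] at e'
  have e'' := permOf_inj (inFix_valid (he s hs).1) (inFix_valid (he t ht).1) (he s hs).2 (he t ht).2 e'
  obtain ⟨hs1, hs2⟩ := hr s hs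
  obtain ⟨ht1, ht2⟩ := hr t ht
  rw [Nat.blt_eq] at hs1 ht1
  have hs2 := Nat.eq_of_beq_eq_true hs2
  have ht2 := Nat.eq_of_beq_eq_true ht2
  have := List.inj_on_of_nodup_map (incr_nodup hc) (List.mem_range.2 hs1) (List.mem_range.2 ht1)
    (by simp only [hs2, ht2, e''])
  rw [← hs2, ← ht2, this]

/-- The table of checked data. -/
noncomputable def Raw.tab (h : R.elOK X = true)
    (hrow : ∀ s < R.N, R.rowOK q s = true) : Tab ↥(fixMasks X) (Fin R.r → ZMod q) where
  N := R.N
  n := R.n
  L s := elOf X (R.el s)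
  gen i := elOf X (R.gen i)
  act := R.act
  prd := R.prd
  m s i l := (R.m s i l : ZMod q)
  c s t l := (R.c s t l : ZMod q)
  pos := by simp only [Raw.elOK, Bool.and_eq_true, Nat.blt_eq] at h; exact h.1.1.1.1.1.1.1
  L_zero := by
    simp only [Raw.elOK, Bool.and_eq_true, Nat.blt_eq, List.all_eq_true, List.mem_range] at h
    refine Subtype.ext ?_
    have hv := (h.1.1.1.1.1.2 0 h.1.1.1.1.1.1.1).1
    rw [coe_elOf hv]
    have := eqW_sound (L := [R.el 0]) (L' := []) (by simp [inFix_valid hv]) h.1.1.1.1.1.1.2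
    simpa using this
  L_inj := R.L_inj X h
  act_spec s hs i hi := by
    simp only [Raw.elOK, Bool.and_eq_true, Nat.blt_eq, List.all_eq_true, List.mem_range] at h
    obtain ⟨⟨⟨⟨⟨⟨-, he⟩, hg⟩, ha⟩, -⟩, -⟩, -⟩ := h
    obtain ⟨h1, h2⟩ := ha s hs i hi
    exact ⟨h1, elOf_eq_of_eqW (he _ h1).1 (he s hs).1 (hg i hi) h2⟩
  parent t ht := by
    simp only [Raw.elOK, Bool.and_eq_true, Nat.blt_eq, List.all_eq_true, List.mem_range, Bool.or_eq_true] at h
    rcases h.1.1.2 t ht with h0 | ⟨⟨h1, h2⟩, h3⟩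
    · exact Or.inl (Nat.eq_of_beq_eq_true h0)
    · exact Or.inr ⟨_, h1, _, h2, Nat.eq_of_beq_eq_true h3⟩
  prd_zero s hs := by
    have := hrow s hs
    simp only [Raw.rowOK, Bool.and_eq_true] at this
    exact Nat.eq_of_beq_eq_true this.1.1.1
  prd_zero_left s hs := by
    have := hrow s hs
    simp only [Raw.rowOK, Bool.and_eq_true] at this
    exact Nat.eq_of_beq_eq_true this.1.1.2
  prd_act s hs t ht i hi := by
    have := hrow s hs
    simp only [Raw.rowOK, Bool.and_eq_true, List.all_eq_true, List.mem_range] at this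
    exact Nat.eq_of_beq_eq_true (this.2 t ht i hi).1
  c_zero s hs := by
    have := hrow s hs
    simp only [Raw.rowOK, Bool.and_eq_true, List.all_eq_true, List.mem_range] at this
    funext l
    show (R.c s 0 l : ZMod q) = 0
    rw [Nat.eq_of_beq_eq_true (this.1.2 l l.2).1, Nat.cast_zero]
  c_zero_left s hs := by
    have := hrow s hs
    simp only [Raw.rowOK, Bool.and_eq_true, List.all_eq_true, List.mem_range] at this
    funext l
    show (R.c 0 s l : ZMod q) = 0
    rw [Nat.eq_of_beq_eq_true (this.1.2 l l.2).2, Nat.cast_zero]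
  c_act s hs t ht i hi := by
    have := hrow s hs
    simp only [Raw.rowOK, Bool.and_eq_true, List.all_eq_true, List.mem_range] at this
    funext l
    have := congrArg (Nat.cast : ℕ → ZMod q) (Nat.eq_of_beq_eq_true ((this.2 t ht i hi).2 l l.2))
    simpa using this

/-- Raw data of coset representatives. -/
structure RawCos where
  k : ℕ
  T : ℕ → ℕ
  fam : List ℕ
  x : ℕ → ℕ
  y : ℕ → ℕ
  jx : ℕ → ℕ → ℕ
  sx : ℕ → ℕ → ℕ
  jy : ℕ → ℕ → ℕ
  sy : ℕ → ℕ → ℕ
  ord : ℕ → ℕ
  rk : ℕ → ℕ

variable (C : RawCos)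

/-- The key of a representative. -/
def RawCos.keyN (g : ℕ) : ℕ := (C.fam.map fun m => mimg g m ^ 3).sum

/-- The number of a set of points. -/
noncomputable def maskOf (S : Finset GolayPt) : ℕ :=
  open scoped Classical in if h : ∃ m < 16777216, mset m = S then h.choose else 0

theorem maskOf_mset {m : ℕ} (hm : m < 16777216) : maskOf (mset m) = m := by
  have h : ∃ m' < 16777216, mset m' = mset m := ⟨m, hm, rfl⟩
  rw [maskOf, dif_pos h]
  exact mset_inj h.choose_spec.1 hm h.choose_spec.2

open scoped Pointwise in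
/-- The key of a permutation. -/
noncomputable def keyG (fam : List ℕ) (σ : Equiv.Perm GolayPt) : ℕ :=
  (fam.map fun m => maskOf (σ • mset m) ^ 3).sum

open scoped Pointwise in
theorem keyG_permOf {g : ℕ} (h : valid g = true) : keyG C.fam (permOf g) = C.keyN g := by
  simp only [keyG, RawCos.keyN, smul_mset h, maskOf_mset (mimg_lt h _)]

open scoped Pointwise in
theorem keyG_mul {g : ℕ} (h : valid g = true) (hp : (C.fam.map (mimg g)).isPerm C.fam = true)
    (σ : Equiv.Perm GolayPt) : keyG C.fam (σ * permOf g) = keyG C.fam σ := by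
  have hp := List.isPerm_iff.1 hp
  simp only [keyG, mul_smul, smul_mset h]
  have e := (hp.map fun m => maskOf (σ • mset m) ^ 3).sum_eq
  rwa [List.map_map] at e

/-- The checks of the representatives. -/
def RawCos.repOK : Bool :=
  ((List.range R.r).all fun a =>
    inFix X (C.x a) && inFix X (C.y a) && eqW [C.x a, C.y a] [C.y a, C.x a]) &&
  ((List.range R.N).all fun s => (C.fam.map (mimg (R.el s))).isPerm C.fam) &&
  incr ((List.range C.k).map fun i => C.keyN (C.T (C.ord i)))

/-- The checks of one representative and of the action on it. -/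
def RawCos.atOK (j : ℕ) : Bool :=
  inFix X (C.T j) && Nat.blt (C.rk j) C.k && Nat.beq (C.ord (C.rk j)) j &&
  (List.range R.r).all fun a =>
    Nat.blt (C.jx a j) C.k && Nat.blt (C.sx a j) R.N && Nat.blt (C.jy a j) C.k &&
    Nat.blt (C.sy a j) R.N && eqW [C.x a, C.T (C.jx a j)] [C.T j, R.el (C.sx a j)] &&
    eqW [C.y a, C.T (C.jy a j)] [C.T j, R.el (C.sy a j)]

theorem forall_of_chunks {p : ℕ → Bool} {k w : ℕ} (hw : 0 < w) (b : ℕ) (hb : k ≤ b * w)
    (h : ∀ i < b, (List.range' (i * w) (min w (k - i * w))).all p = true) : ∀ j < k, p j = true := by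
  intro j hj
  have hi : j / w < b := (Nat.div_lt_iff_lt_mul hw).2 (hj.trans_le hb)
  refine List.all_eq_true.1 (h _ hi) j (List.mem_range'_1.2 ⟨Nat.div_mul_le_self j w, ?_⟩)
  have := Nat.lt_div_mul_add hw (a := j)
  omega

/-- A component of the value of the commutator of a pair. -/
def RawCos.total (a l : ℕ) : ℕ :=
  ((List.range C.k).map fun j =>
    R.c (C.sx a j) (C.sy a (C.jx a j)) l + (q - R.c (C.sy a j) (C.sx a (C.jy a j)) l % q)).sum % q

/-- The values of the pairs form the standard basis. -/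
def RawCos.totalOK : Bool :=
  (List.range R.r).all fun a => (List.range R.r).all fun l =>
    Nat.beq (C.total q R a l) (bif Nat.beq l a then 1 else 0)

/-- The stem extension from checked tables. -/
theorem exists_stem_of_raw [NeZero q] (he : R.elOK X = true)
    (hrow : ∀ s < R.N, R.rowOK q s = true) (hrep : C.repOK X R = true)
    (hat : ∀ j < C.k, C.atOK X R j = true) (htot : C.totalOK q R = true)
    (hcard : Nat.card ↥(fixMasks X) = C.k * R.N) :
    ∃ (Γ : Type) (_ : Group Γ) (_ : Finite Γ) (τ : Γ →* ↥(fixMasks X)),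
      Cfsg.IsStemExtension τ ∧ q ^ R.r ∣ Nat.card τ.ker := by
  have he' := he
  simp only [Raw.elOK, Bool.and_eq_true, List.all_eq_true, List.mem_range] at he'
  have hel : ∀ s < R.N, inFix X (R.el s) = true := fun s hs => (he'.1.1.1.1.1.2 s hs).1
  simp only [RawCos.repOK, Bool.and_eq_true, List.all_eq_true, List.mem_range] at hrep
  obtain ⟨⟨hpair, hfam⟩, hch⟩ := hrep
  simp only [RawCos.atOK, Bool.and_eq_true, Nat.blt_eq, List.all_eq_true, List.mem_range] at hat
  have hT : ∀ j < C.k, inFix X (C.T j) = true := fun j hj => (hat j hj).1.1.1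
  let Cs : Cosets (R.tab q X he hrow) :=
    { k := C.k
      T := fun j => elOf X (C.T j)
      key := fun g => keyG C.fam g
      card_eq := hcard
      key_mul := fun j hj s hs => by
        show keyG C.fam ((elOf X (C.T j) * elOf X (R.el s) : ↥(fixMasks X)) :
          Equiv.Perm GolayPt) = _
        rw [Subgroup.coe_mul, coe_elOf (hel s hs)]
        exact keyG_mul C (inFix_valid (hel s hs)) (hfam s hs) _
      key_inj := fun j hj l hl e => by
        rw [coe_elOf (hT j hj), coe_elOf (hT l hl), keyG_permOf C (inFix_valid (hT j hj)),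
          keyG_permOf C (inFix_valid (hT l hl))] at e
        obtain ⟨⟨⟨-, hj1⟩, hj2⟩, -⟩ := hat j hj
        obtain ⟨⟨⟨-, hl1⟩, hl2⟩, -⟩ := hat l hl
        have hj2 := Nat.eq_of_beq_eq_true hj2
        have hl2 := Nat.eq_of_beq_eq_true hl2
        have := List.inj_on_of_nodup_map (incr_nodup hch) (List.mem_range.2 hj1)
          (List.mem_range.2 hl1) (by simp only [hj2, hl2, e])
        rw [← hj2, ← hl2, this] }
  let P : Fin R.r → Pair Cs := fun a =>
    { x := elOf X (C.x a)
      y := elOf X (C.y a)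
      jx := C.jx a
      sx := C.sx a
      jy := C.jy a
      sy := C.sy a
      comm := by
        obtain ⟨⟨hx, hy⟩, hxy⟩ := hpair a a.2
        exact elOf_mul_eq hx hy hy hx hxy
      x_spec := fun j hj => by
        obtain ⟨⟨hx, hy⟩, hxy⟩ := hpair a a.2
        obtain ⟨⟨⟨⟨⟨h1, h2⟩, -⟩, -⟩, h5⟩, -⟩ := (hat j hj).2 a a.2
        exact ⟨h1, h2, elOf_mul_eq hx (hT _ h1) (hT j hj) (hel _ h2) h5⟩
      y_spec := fun j hj => by
        obtain ⟨⟨hx, hy⟩, hxy⟩ := hpair a a.2
        obtain ⟨⟨⟨⟨⟨-, -⟩, h3⟩, h4⟩, -⟩, h6⟩ := (hat j hj).2 a a.2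
        exact ⟨h3, h4, elOf_mul_eq hy (hT _ h3) (hT j hj) (hel _ h4) h6⟩ }
  have hval : ∀ a, (P a).value = (Pi.single a 1 : Fin R.r → ZMod q) := by
    intro a
    funext l
    simp only [RawCos.totalOK, List.all_eq_true, List.mem_range] at htot
    have h := congrArg (Nat.cast : ℕ → ZMod q) (Nat.eq_of_beq_eq_true (htot a a.2 l l.2))
    simp only [RawCos.total, ZMod.natCast_mod, Nat.cast_list_sum, List.map_map] at h
    rw [Pi.single_apply]
    simp only [Pair.value, Finset.sum_apply, Pi.sub_apply]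
    have hb : ((bif Nat.beq (l : ℕ) (a : ℕ) then 1 else 0 : ℕ) : ZMod q) = if l = a then 1 else 0 := by
      by_cases e : l = a
      · rw [e, Nat.beq_refl]; simp
      · cases hh : Nat.beq (l : ℕ) (a : ℕ)
        · rw [if_neg e]; simp
        · exact absurd (Fin.ext (Nat.eq_of_beq_eq_true hh)) e
    rw [← hb, ← h, Finset.sum, Finset.range_val, Multiset.range, Multiset.map_coe, Multiset.sum_coe]
    refine congrArg List.sum (List.map_congr_left fun j _ => ?_)
    show _ = ((_ + (q - _ % q) : ℕ) : ZMod q)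
    rw [Nat.cast_add, Nat.cast_sub (Nat.mod_lt _ (NeZero.pos q)).le, ZMod.natCast_self,
      ZMod.natCast_mod, zero_sub, sub_eq_add_neg]
    rfl
  obtain ⟨Γ, hg, hf, τ, hτ, hd⟩ := exists_stem Cs P (by
    refine eq_top_iff.2 fun v _ => ?_
    classical
    rw [← Finset.univ_sum_single v]
    refine AddSubgroup.sum_mem _ fun l _ => ?_
    rw [show (Pi.single l (v l) : Fin R.r → ZMod q) = (v l).val • Pi.single l (1 : ZMod q) by
      rw [← Pi.single_smul', nsmul_one, ZMod.natCast_zmod_val]]
    exact AddSubgroup.nsmul_mem _ (AddSubgroup.subset_closure (Set.mem_range.2 ⟨l, hval l⟩)) _)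
  refine ⟨Γ, hg, hf, τ, hτ, ?_⟩
  rwa [Nat.card_fun, Nat.card_fin, Nat.card_zmod] at hd

end CfsgLib.KnownA.TableExt
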