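import Mathlib.NumberTheory.Padics.PadicVal.Basic
import Mathlib.Tactic

/-!
The arithmetic of the largest order of a nilpotent subgroup of `S_n`.
-/

set_option autoImplicit false

namespace CfsgLib.KnownA.Nil

/-- The exponent of `2` in `n!`. -/
noncomputable def e2 (n : ℕ) : ℕ := padicValNat 2 n.factorial

theorem e2_four (A : ℕ) : e2 (4 * A) = 3 * A + e2 A ∧ e2 (4 * A + 1) = 3 * A + e2 A ∧
    e2 (4 * A + 2) = 3 * A + e2 A + 1 ∧ e2 (4 * A + 3) = 3 * A + e2 A + 1 := by
  have : Fact (Nat.Prime 2) := ⟨Nat.prime_two⟩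
  unfold e2
  have h0 : ∀ m, padicValNat 2 (2 * m).factorial = padicValNat 2 m.factorial + m := fun m =>
    padicValNat_factorial_mul m
  have h1 : ∀ m, padicValNat 2 (2 * m + 1).factorial = padicValNat 2 m.factorial + m := fun m => by
    rw [padicValNat_factorial_mul_add m (by norm_num : 1 < 2), h0]
  have a := h0 A
  have b := h0 (2 * A)
  have c := h1 (2 * A)
  have d := h0 (2 * A + 1)
  have e := h1 (2 * A + 1)
  have f := h1 A
  rw [show 2 * (2 * A) = 4 * A by ring] at b c
  rw [show 2 * (2 * A + 1) = 4 * A + 2 by ring] at d e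
  rw [show 4 * A + 2 + 1 = 4 * A + 3 by ring] at e
  refine ⟨by omega, by omega, by omega, by omega⟩

theorem e2_zero : e2 0 = 0 := by simp [e2]
theorem e2_one : e2 1 = 0 := by simp [e2]

theorem e2_add_le (a b : ℕ) : e2 a + e2 b ≤ e2 (a + b) := by
  have : Fact (Nat.Prime 2) := ⟨Nat.prime_two⟩
  unfold e2
  rw [← padicValNat.mul (Nat.factorial_ne_zero a) (Nat.factorial_ne_zero b)]
  exact (padicValNat_dvd_iff_le (Nat.factorial_ne_zero _)).mp
    (pow_padicValNat_dvd.trans (Nat.factorial_mul_factorial_dvd_factorial_add a b))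

/-- `E A`: the largest order for `4A` points. -/
noncomputable def E (A : ℕ) : ℕ := 8 ^ A * 2 ^ e2 A

theorem E_zero : E 0 = 1 := by simp [E, e2_zero]
theorem E_one : E 1 = 8 := by simp [E, e2_one]
theorem E_pos (A : ℕ) : 0 < E A := by unfold E; positivity

theorem E_mul_le (A B : ℕ) : E A * E B ≤ E (A + B) := by
  unfold E
  calc 8 ^ A * 2 ^ e2 A * (8 ^ B * 2 ^ e2 B) = 8 ^ (A + B) * 2 ^ (e2 A + e2 B) := by
        rw [pow_add, pow_add]; ring
    _ ≤ _ := Nat.mul_le_mul_left _ (Nat.pow_le_pow_right (by norm_num) (e2_add_le A B))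

/-- The small factor. -/
def cf : ℕ → ℕ
  | 0 => 1
  | 1 => 1
  | 2 => 2
  | _ => 3

/-- The largest order of a nilpotent subgroup of `S_n`. -/
noncomputable def bnd (n : ℕ) : ℕ := cf (n % 4) * E (n / 4)

theorem bnd_eq (A i : ℕ) (hi : i < 4) : bnd (4 * A + i) = cf i * E A := by
  unfold bnd
  rw [show (4 * A + i) % 4 = i by omega, show (4 * A + i) / 4 = A by omega]

theorem bnd_pos (n : ℕ) : 0 < bnd n := by
  refine Nat.mul_pos ?_ (E_pos _)
  have : n % 4 < 4 := Nat.mod_lt _ (by norm_num)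
  interval_cases n % 4 <;> simp [cf]

theorem bnd_add_le (a b : ℕ) : bnd a * bnd b ≤ bnd (a + b) := by
  have hab := E_mul_le (a / 4) (b / 4)
  have h1 := E_mul_le (a / 4 + b / 4) 1
  rw [E_one] at h1
  have key : ∀ i j, i < 4 → j < 4 → a % 4 = i → b % 4 = j → bnd a * bnd b ≤ bnd (a + b) := by
    intro i j hi hj ha hb
    have hA : bnd a = cf i * E (a / 4) := by rw [← ha]; rfl
    have hB : bnd b = cf j * E (b / 4) := by rw [← hb]; rfl
    rcases Nat.lt_or_ge (i + j) 4 with h | h
    · have hs : bnd (a + b) = cf (i + j) * E (a / 4 + b / 4) := by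
        rw [← bnd_eq _ _ h]; congr 1; omega
      have hc : cf i * cf j ≤ cf (i + j) := by
        interval_cases i <;> interval_cases j <;> first | omega | decide
      rw [hA, hB, hs]
      calc cf i * E (a / 4) * (cf j * E (b / 4)) = cf i * cf j * (E (a / 4) * E (b / 4)) := by ring
        _ ≤ _ := Nat.mul_le_mul hc hab
    · have hs : bnd (a + b) = cf (i + j - 4) * E (a / 4 + b / 4 + 1) := by
        rw [← bnd_eq _ _ (by omega : i + j - 4 < 4)]; congr 1; omega
      have hc : cf i * cf j ≤ cf (i + j - 4) * 8 := by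
        interval_cases i <;> interval_cases j <;> first | omega | decide
      rw [hA, hB, hs]
      calc cf i * E (a / 4) * (cf j * E (b / 4)) = cf i * cf j * (E (a / 4) * E (b / 4)) := by ring
        _ ≤ cf (i + j - 4) * 8 * E (a / 4 + b / 4) := Nat.mul_le_mul hc hab
        _ = cf (i + j - 4) * (E (a / 4 + b / 4) * 8) := by ring
        _ ≤ _ := Nat.mul_le_mul_left _ h1
  exact key _ _ (Nat.mod_lt _ (by norm_num)) (Nat.mod_lt _ (by norm_num)) rfl rfl

theorem bnd_zero : bnd 0 = 1 := by simp [bnd, cf, E_zero]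
theorem bnd_one : bnd 1 = 1 := by simp [bnd, cf, E_zero]

theorem bnd_mono {a b : ℕ} (h : a ≤ b) : bnd a ≤ bnd b := by
  obtain ⟨c, rfl⟩ := Nat.exists_eq_add_of_le h
  exact (Nat.le_mul_of_pos_right _ (bnd_pos c)).trans (bnd_add_le a c)

theorem bnd_pow_le (a m : ℕ) : bnd a ^ m ≤ bnd (a * m) := by
  induction m with
  | zero => simp [bnd_zero]
  | succ m ih =>
    rw [pow_succ, Nat.mul_succ]
    exact (Nat.mul_le_mul_right _ ih).trans (bnd_add_le _ _)

theorem bnd_small : bnd 2 = 2 ∧ bnd 3 = 3 ∧ bnd 4 = 8 ∧ bnd 5 = 8 ∧ bnd 6 = 16 ∧ bnd 7 = 24 ∧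
    bnd 8 = 128 ∧ bnd 9 = 128 ∧ bnd 10 = 256 ∧ bnd 11 = 384 ∧ bnd 12 = 1024 ∧ bnd 14 = 2048 ∧
    bnd 15 = 3072 ∧ bnd 18 = 65536 ∧ bnd 27 = 12582912 := by
  obtain ⟨h4, h5, h6, h7⟩ := e2_four 1
  obtain ⟨h0, h1, h2, h3⟩ := e2_four 0
  simp [e2_zero] at h0 h1 h2 h3
  simp only [Nat.mul_one, e2_one] at h4 h6
  norm_num at h4 h6
  norm_num [bnd, cf, E, h2, h3, h4, h6, e2_zero, e2_one]

theorem two_pow_e2_le (n : ℕ) : 2 ^ e2 n ≤ bnd n ∧ (n % 4 ≠ 3 → 2 ^ e2 n = bnd n) ∧
    (n % 4 = 3 → bnd n = 3 * 2 ^ e2 (n - 3) ∧ e2 n = e2 (n - 3) + 1) := by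
  obtain ⟨h0, h1, h2, h3⟩ := e2_four (n / 4)
  have hE : ∀ A, 2 ^ (3 * A + e2 A) = E A := fun A => by
    unfold E; rw [pow_add, pow_mul]; norm_num
  have hlt : n % 4 < 4 := Nat.mod_lt _ (by norm_num)
  have hn : n = 4 * (n / 4) + n % 4 := by omega
  have hb : bnd n = cf (n % 4) * E (n / 4) := rfl
  interval_cases hm : n % 4
  · have hv : 2 ^ e2 n = bnd n := by rw [hb, show n = 4 * (n / 4) by omega, h0, hE]; simp [cf]
    exact ⟨hv.le, fun _ => hv, fun h => absurd h (by norm_num)⟩
  · have hv : 2 ^ e2 n = bnd n := by rw [hb, show n = 4 * (n / 4) + 1 by omega, h1, hE]; simp [cf, show (4 * (n / 4) + 1) / 4 = n / 4 by omega]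
    exact ⟨hv.le, fun _ => hv, fun h => absurd h (by norm_num)⟩
  · have he : e2 n = 3 * (n / 4) + e2 (n / 4) + 1 := by rw [← h2, ← hn]
    have hv : 2 ^ e2 n = bnd n := by rw [hb, he, pow_succ, hE]; simp [cf, mul_comm]
    exact ⟨hv.le, fun _ => hv, fun h => absurd h (by norm_num)⟩
  · have he : e2 n = 3 * (n / 4) + e2 (n / 4) + 1 := by rw [← h3, ← hn]
    have he' : e2 (n - 3) = 3 * (n / 4) + e2 (n / 4) := by rw [← h0]; congr 1; omega
    refine ⟨?_, fun h => absurd rfl h, fun _ => ⟨?_, by omega⟩⟩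
    · rw [hb, he, pow_succ, hE]; simp only [cf]; omega
    · rw [hb, he', hE]; rfl

theorem three_le_bnd {n : ℕ} (h : 3 ≤ n) : 3 ≤ bnd n :=
  le_of_eq_of_le bnd_small.2.1.symm (bnd_mono h)

theorem two_mul_succ_lt_bnd {n : ℕ} (h : 6 ≤ n) (he : Even n) : 2 * (n + 1) < bnd n := by
  obtain ⟨k, rfl⟩ : ∃ k, n = 6 + 2 * k := by obtain ⟨r, hr⟩ := he; exact ⟨r - 3, by omega⟩
  clear he h
  induction k with
  | zero => rw [bnd_small.2.2.2.2.1]; norm_num
  | succ k ih =>
    have h2 := bnd_add_le (6 + 2 * k) 2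
    rw [bnd_small.1] at h2
    rw [show 6 + 2 * (k + 1) = 6 + 2 * k + 2 by ring]
    omega

/-- The order of a Sylow `p`-subgroup of `S_k`. -/
noncomputable def gP (p k : ℕ) : ℕ := p ^ padicValNat p k.factorial

theorem gP_mul (p m : ℕ) [Fact p.Prime] : gP p (p * m) = p ^ m * gP p m := by
  unfold gP; rw [padicValNat_factorial_mul, pow_add, mul_comm]

theorem gP_prime (p : ℕ) [Fact p.Prime] : gP p p = p := by
  have h := gP_mul p 1
  rw [mul_one] at h
  rw [h]
  simp [gP]

theorem gP_le_bnd (p a : ℕ) [Fact p.Prime] (hp : p ≠ 2) :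
    gP p (p ^ a) ≤ bnd (p ^ a) ∧
      (p ^ a ∉ ({1, 3, 5, 9} : Finset ℕ) → 2 * gP p (p ^ a) < bnd (p ^ a)) := by
  obtain ⟨b2, b3, b4, b5, b6, b7, b8, b9, -, -, -, -, -, -, b27⟩ := bnd_small
  have hp3 : 3 ≤ p := by have := (Fact.out : p.Prime).two_le; omega
  induction a with
  | zero => simp [gP, bnd_one]
  | succ a ih =>
    set m := p ^ a with hm
    have hmpos : 0 < m := pow_pos (by omega) a
    rw [show p ^ (a + 1) = p * m by rw [hm, pow_succ']]
    rw [gP_mul]
    have hsplit : bnd ((p - 1) * m) * bnd m ≤ bnd (p * m) := by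
      refine (bnd_add_le _ _).trans (le_of_eq ?_)
      congr 1
      rw [Nat.sub_one_mul]
      have : m ≤ p * m := Nat.le_mul_of_pos_left _ (by omega)
      omega
    have hfin : ∀ c, 2 * p ^ m < c → c ≤ bnd ((p - 1) * m) → 2 * (p ^ m * gP p m) < bnd (p * m) := by
      intro c hc hcb
      calc 2 * (p ^ m * gP p m) = 2 * p ^ m * gP p m := by ring
        _ ≤ 2 * p ^ m * bnd m := Nat.mul_le_mul_left _ ih.1
        _ < bnd ((p - 1) * m) * bnd m := Nat.mul_lt_mul_of_pos_right (hc.trans_le hcb) (bnd_pos m)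
        _ ≤ _ := hsplit
    by_cases h7 : 7 ≤ p
    · have hodd : Even (p - 1) := by
        rcases (Fact.out : p.Prime).eq_two_or_odd' with h | ⟨k, hk⟩
        · omega
        · exact ⟨k, by omega⟩
      have hb := two_mul_succ_lt_bnd (by omega) hodd
      rw [show p - 1 + 1 = p by omega] at hb
      have key : 2 * (p ^ m * gP p m) < bnd (p * m) := by
        refine hfin (bnd (p - 1) ^ m) ?_ (bnd_pow_le _ _)
        calc 2 * p ^ m ≤ (2 * p) ^ m := by
              rw [mul_pow]; exact Nat.mul_le_mul_right _ (Nat.le_self_pow hmpos.ne' 2)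
          _ < bnd (p - 1) ^ m := Nat.pow_lt_pow_left hb hmpos.ne'
      exact ⟨by omega, fun _ => key⟩
    have hp57 : p = 3 ∨ p = 5 := by
      have hpp := (Fact.out : p.Prime)
      interval_cases p <;> first | exact Or.inl rfl | exact Or.inr rfl | norm_num at hpp
    rcases hp57 with h | h
    · subst h
      rcases Nat.lt_or_ge a 3 with ha | ha
      · interval_cases a
        · simp only [hm] at *
          norm_num [gP, b3]
        · simp only [hm, pow_one] at *
          rw [gP_prime]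
          norm_num [b9]
        · simp only [hm] at *
          have h9 : gP 3 (3 ^ 2) = 81 := by rw [pow_two, gP_mul, gP_prime]; norm_num
          rw [h9]
          norm_num [b27]
      · have h27 : 27 ≤ m := by
          rw [hm]
          calc 27 = 3 ^ 3 := by norm_num
            _ ≤ 3 ^ a := Nat.pow_le_pow_right (by omega) ha
        have hodd : m % 2 = 1 := Nat.odd_iff.mp (hm ▸ Odd.pow (by decide))
        obtain ⟨c, r, hc, hr, hmc⟩ : ∃ c r, 6 ≤ c ∧ (r = 1 ∨ r = 3) ∧ m = 4 * c + r :=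
          ⟨m / 4, m % 4, by omega, by omega, by omega⟩
        have h128 : 4 * 81 ^ c < 128 ^ c := by
          clear hmc
          induction c, hc using Nat.le_induction with
          | base => norm_num
          | succ c hc ih2 => rw [pow_succ, pow_succ]; omega
        have key : 2 * (3 ^ m * gP 3 m) < bnd (3 * m) := by
          refine hfin (128 ^ c * bnd (2 * r)) ?_ ?_
          · rw [hmc, pow_add, pow_mul]
            have := Nat.pos_of_ne_zero (pow_ne_zero c (by norm_num : (81 : ℕ) ≠ 0))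
            rcases hr with rfl | rfl
            · rw [show 2 * 1 = 2 from rfl, b2]; norm_num; omega
            · rw [show 2 * 3 = 6 from rfl, b6]; norm_num; omega
          · have h := Nat.mul_le_mul_right (bnd (2 * r)) (bnd_pow_le 8 c)
            rw [b8] at h
            refine h.trans ((bnd_add_le _ _).trans (le_of_eq ?_))
            congr 1
            omega
        exact ⟨by omega, fun _ => key⟩
    · subst h
      rcases Nat.eq_zero_or_pos a with rfl | ha
      · simp only [hm] at *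
        simp [gP, b5]
      · have h5 : 5 ≤ m := by rw [hm]; exact Nat.le_self_pow (by omega) 5
        have key : 2 * (5 ^ m * gP 5 m) < bnd (5 * m) := by
          refine hfin (8 ^ m) ?_ ?_
          · have h58 : ∀ k, 5 ≤ k → 2 * 5 ^ k < 8 ^ k := fun k hk => by
              induction k, hk using Nat.le_induction with
              | base => norm_num
              | succ k _ ih2 => rw [pow_succ, pow_succ]; omega
            exact h58 m h5
          · rw [← b4]; exact bnd_pow_le 4 m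
        exact ⟨by omega, fun _ => key⟩

/-- Two proper coprime parts give a small product. -/
theorem two_mul_bnd_mul_lt {P r t s : ℕ} (hP : 2 ≤ P) (hr : 2 ≤ r) (hcop : P.Coprime r) (ht : t ∣ P)
    (hs : s ∣ r) : 2 * (bnd t * bnd s) < bnd (P * r) := by
  obtain ⟨b2, b3, b4, b5, b6, -⟩ := bnd_small
  have htle := bnd_mono (Nat.le_of_dvd (by omega) ht)
  have hsle := bnd_mono (Nat.le_of_dvd (by omega) hs)
  rcases Nat.lt_or_ge (P + r + 2) (P * r) with h | h
  · obtain ⟨d, hd, hPr⟩ : ∃ d, 3 ≤ d ∧ P * r = P + r + d := ⟨P * r - (P + r), by omega, by omega⟩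
    rw [hPr]
    have h3 := three_le_bnd hd
    have hpos := Nat.mul_pos (bnd_pos t) (bnd_pos s)
    calc 2 * (bnd t * bnd s) < bnd t * bnd s * bnd d := by nlinarith
      _ ≤ bnd P * bnd r * bnd d := Nat.mul_le_mul_right _ (Nat.mul_le_mul htle hsle)
      _ ≤ bnd (P + r) * bnd d := Nat.mul_le_mul_right _ (bnd_add_le _ _)
      _ ≤ _ := bnd_add_le _ _
  · have h6 : (P = 2 ∧ r = 3) ∨ (P = 3 ∧ r = 2) := by
      have hPle : P ≤ 4 := by nlinarith
      have hrle : r ≤ 4 := by nlinarith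
      interval_cases P <;> interval_cases r <;> first | omega | simp_all [Nat.coprime_iff_gcd_eq_one]
    rcases h6 with ⟨rfl, rfl⟩ | ⟨rfl, rfl⟩
    · rw [b2] at htle; rw [b3] at hsle; rw [show 2 * 3 = 6 from rfl, b6]
      have := Nat.mul_le_mul htle hsle; omega
    · rw [b3] at htle; rw [b2] at hsle; rw [show 3 * 2 = 6 from rfl, b6]
      have := Nat.mul_le_mul htle hsle; omega

end CfsgLib.KnownA.Nil
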