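import Mathlib.GroupTheory.Nilpotent
import Mathlib.GroupTheory.SchurZassenhaus
import Mathlib.GroupTheory.GroupAction.Blocks
import Mathlib.GroupTheory.SpecificGroups.Alternating
import Cfsg.Agent.Lib.KnownA.NilBound
import Cfsg.Agent.Lib.OddLocal.FittingHall

/-!
Bounds for nilpotent permutation groups.
-/

set_option autoImplicit false

namespace CfsgLib.KnownA.Nil

open MulAction

universe u

/-- The bound, for one degree. -/
def Bd (n : ℕ) : Prop :=
  ∀ (α : Type u) [Finite α], Nat.card α = n → ∀ N : Subgroup (Equiv.Perm α),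
    Group.IsNilpotent N → Nat.card N ≤ bnd n

theorem isNilpotent_range {G H : Type*} [Group G] [Group H] (hG : Group.IsNilpotent G)
    (f : G →* H) : Group.IsNilpotent f.range :=
  Group.nilpotent_of_surjective f.rangeRestrict f.rangeRestrict_surjective

theorem card_le_two_pow_e2 {α : Type u} [Finite α] {n : ℕ} (hα : Nat.card α = n)
    {p : ℕ} [Fact p.Prime] {N : Subgroup (Equiv.Perm α)} (hp : IsPGroup p N) :
    Nat.card N ≤ p ^ padicValNat p n.factorial := by
  obtain ⟨j, hj⟩ := IsPGroup.iff_card.mp hp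
  rw [hj]
  apply Nat.pow_le_pow_right (Fact.out : p.Prime).pos
  rw [← padicValNat_dvd_iff_le (Nat.factorial_ne_zero n), ← hj, ← hα, ← Nat.card_perm]
  exact N.card_subgroup_dvd_card

section Orbit

variable {G : Type*} [Group G] [Finite G] {X : Type*} [Finite X] [MulAction G X]
  [IsPretransitive G X]

omit [Finite G] [Finite X] in
theorem ncard_orbit_dvd (M : Subgroup G) [M.Normal] (x : X) :
    (orbit M x).ncard ∣ Nat.card X ∧ (orbit M x).ncard ∣ Nat.card M := by
  refine ⟨IsBlock.ncard_dvd_card (IsBlock.orbit_of_normal x) ⟨x, mem_orbit_self x⟩, ?_⟩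
  rw [← MulAction.index_stabilizer]
  exact Subgroup.index_dvd_card _

omit [Finite X] in
/-- A transitive nilpotent group of prime power degree is a `p`-group. -/
theorem isPGroup_of_prime_pow [FaithfulSMul G X] (hG : Group.IsNilpotent G) {p a : ℕ}
    [hp : Fact p.Prime] (hX : Nat.card X = p ^ a) : IsPGroup p G := by
  have hne : Nat.card G ≠ 0 := Nat.card_pos.ne'
  refine IsPGroup.iff_card.mpr ⟨(Nat.card G).primeFactorsList.length,
    Nat.eq_prime_pow_of_unique_prime_dvd hne fun {q} hq hqG => ?_⟩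
  by_contra hqp
  have : Fact q.Prime := ⟨hq⟩
  obtain Q : Sylow q G := default
  have hQn : (Q : Subgroup G).Normal :=
    Q.normal_of_normalizerCondition Group.normalizerCondition_of_isNilpotent
  apply Q.ne_bot_of_dvd_card hqG
  rw [Subgroup.eq_bot_iff_forall]
  intro g hg
  refine eq_of_smul_eq_smul (α := X) fun x => ?_
  obtain ⟨h1, h2⟩ := ncard_orbit_dvd (Q : Subgroup G) x
  obtain ⟨j, hj⟩ := IsPGroup.iff_card.mp Q.isPGroup'
  rw [hX] at h1
  rw [hj] at h2
  have h : (orbit (Q : Subgroup G) x).ncard = 1 := Nat.eq_one_of_dvd_coprimes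
    (((Nat.coprime_primes hp.out hq).mpr (Ne.symm hqp)).pow a j) h1 h2
  obtain ⟨y, hy⟩ := Set.ncard_eq_one.mp h
  have e1 : x ∈ orbit (Q : Subgroup G) x := mem_orbit_self x
  have e2 : (⟨g, hg⟩ : (Q : Subgroup G)) • x ∈ orbit (Q : Subgroup G) x := mem_orbit _ _
  rw [hy, Set.mem_singleton_iff] at e1 e2
  rw [Subgroup.mk_smul] at e2
  rw [e2, one_smul, e1]

end Orbit

/-- A normal subgroup commuting with a supplement acts faithfully on each of its orbits. -/
theorem card_le_of_orbit {G : Type*} [Group G] [Finite G] {X : Type u} [Finite X] [MulAction G X]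
    [IsPretransitive G X] [FaithfulSMul G X] (hG : Group.IsNilpotent G) (M C : Subgroup G)
    (hgen : ∀ g : G, ∃ c ∈ C, ∃ m ∈ M, g = c * m) (hcomm : ∀ m ∈ M, ∀ c ∈ C, Commute m c)
    (x : X) (hB : Bd.{u} (orbit M x).ncard) : Nat.card M ≤ bnd (orbit M x).ncard := by
  have hinj : Function.Injective (MulAction.toPermHom M (orbit M x)) := by
    rw [injective_iff_map_eq_one]
    intro b hb
    apply Subtype.ext
    refine eq_of_smul_eq_smul (α := X) fun y => ?_
    obtain ⟨g, rfl⟩ := exists_smul_eq G x y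
    obtain ⟨c, hc, m, hm, rfl⟩ := hgen g
    have hfix : ((b : G) * m) • x = m • x := by
      have := congrArg Subtype.val
        (DFunLike.congr_fun hb (⟨m • x, ⟨⟨m, hm⟩, rfl⟩⟩ : orbit M x))
      simpa [mul_smul, Subgroup.smul_def] using this
    rw [OneMemClass.coe_one, one_smul, ← mul_smul, ← mul_assoc, (hcomm b b.2 c hc).eq, mul_assoc,
      mul_smul, hfix, ← mul_smul]
  rw [Nat.card_congr (MonoidHom.ofInjective hinj).toEquiv]
  exact hB _ (Nat.card_coe_set_eq _) _ (isNilpotent_range (Subgroup.isNilpotent M) _)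

/-- The trichotomy for a transitive nilpotent group. -/
theorem trans_bound {k : ℕ} (hk : 2 ≤ k) (IH : ∀ m < k, Bd.{u} m) {α : Type u} [Finite α]
    (hα : Nat.card α = k) (N : Subgroup (Equiv.Perm α)) (hN : Group.IsNilpotent N)
    [IsPretransitive N α] :
    Nat.card N ≤ bnd k ∧ ((∀ a, k ≠ 2 ^ a) →
      (k ∉ ({3, 5, 9} : Finset ℕ) → 2 * Nat.card N < bnd k) ∧
      (k ∈ ({3, 5, 9} : Finset ℕ) → Odd (Nat.card N) ∧
        (k = 3 ∧ Nat.card N ≤ 3 ∨ k = 5 ∧ Nat.card N ≤ 5 ∨ k = 9 ∧ Nat.card N ≤ 81))) := by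
  set p := k.minFac with hp
  have hpp : p.Prime := Nat.minFac_prime (by omega)
  have : Fact p.Prime := ⟨hpp⟩
  set a := k.factorization p with ha
  have hPr : p ^ a * (k / p ^ a) = k := Nat.ordProj_mul_ordCompl_eq_self k p
  by_cases hr : k / p ^ a = 1
  · rw [hr, mul_one] at hPr
    have hpG := isPGroup_of_prime_pow hN (hα.trans hPr.symm)
    have hle := card_le_two_pow_e2 hα hpG
    by_cases h2 : p = 2
    · rw [h2] at hle hPr
      exact ⟨hle.trans (two_pow_e2_le k).1, fun h => absurd hPr.symm (h a)⟩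
    · obtain ⟨hg1, hg2⟩ := gP_le_bnd p a h2
      unfold gP at hg1 hg2
      rw [hPr] at hg1 hg2
      refine ⟨hle.trans hg1, fun _ => ⟨fun h359 => ?_, fun h359 => ⟨?_, ?_⟩⟩⟩
      · exact lt_of_le_of_lt (Nat.mul_le_mul_left 2 hle)
          (hg2 (by simp only [Finset.mem_insert, Finset.mem_singleton] at h359 ⊢; omega))
      · obtain ⟨j, hj⟩ := IsPGroup.iff_card.mp hpG
        rw [hj]
        exact (hpp.odd_of_ne_two h2).pow
      · simp only [Finset.mem_insert, Finset.mem_singleton] at h359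
        rcases h359 with rfl | rfl | rfl
        · have : p = 3 := by rw [hp]; norm_num
          rw [this] at hle
          refine Or.inl ⟨rfl, hle.trans (le_of_eq ?_)⟩
          norm_num [Nat.factorial, padicValNat.eq_zero_of_not_dvd]
          have := gP_prime 3
          norm_num [gP, Nat.factorial] at this
          exact this
        · have : p = 5 := by rw [hp]; norm_num
          rw [this] at hle
          refine Or.inr (Or.inl ⟨rfl, hle.trans (le_of_eq ?_)⟩)
          have : Fact (Nat.Prime 5) := ⟨by norm_num⟩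
          exact gP_prime 5
        · have : p = 3 := by rw [hp]; norm_num
          rw [this] at hle
          refine Or.inr (Or.inr ⟨rfl, hle.trans (le_of_eq ?_)⟩)
          have h9 := gP_mul 3 3
          rw [gP_prime] at h9
          norm_num [gP] at h9
          exact h9
  · set P := p ^ a with hP
    set r := k / P with hr'
    have hak : a ≠ 0 := by
      rw [ha, ← Nat.pos_iff_ne_zero]
      exact hpp.factorization_pos_of_dvd (by omega) k.minFac_dvd
    have hP2 : 2 ≤ P := hpp.two_le.trans (Nat.le_self_pow hak p)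
    have hr0 : r ≠ 0 := fun h => by rw [h, mul_zero] at hPr; omega
    have hr2 : 2 ≤ r := (Nat.two_le_iff r).mpr ⟨hr0, hr⟩
    have hpr : p.Coprime r := Nat.coprime_ordCompl hpp (by omega)
    have hcop : P.Coprime r := hpr.pow_left a
    obtain Q : Sylow p N := default
    have hQn : (Q : Subgroup N).Normal :=
      Q.normal_of_normalizerCondition Group.normalizerCondition_of_isNilpotent
    obtain ⟨B, hB⟩ := Subgroup.exists_right_complement'_of_coprime (N := (Q : Subgroup N))
      Q.card_coprime_index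
    have hcardB : (Nat.card (Q : Subgroup N)).Coprime (Nat.card B) := by
      have := Q.card_coprime_index
      rwa [← hB.symm.index_eq_card]
    have hcomm : ∀ m ∈ (Q : Subgroup N), ∀ c ∈ B, Commute m c := fun m hm c hc => by
      refine CfsgLib.OddLocal.commute_of_coprime_of_isNilpotent hN ?_
      exact hcardB.of_dvd (Subgroup.orderOf_dvd_natCard _ hm) (Subgroup.orderOf_dvd_natCard _ hc)
    have hgen : ∀ g : N, ∃ c ∈ (Q : Subgroup N), ∃ m ∈ B, g = c * m := fun g => by
      obtain ⟨⟨c, m⟩, h⟩ := hB.2 g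
      exact ⟨c, c.2, m, m.2, h.symm⟩
    have hgen' : ∀ g : N, ∃ c ∈ B, ∃ m ∈ (Q : Subgroup N), g = c * m := fun g => by
      obtain ⟨c, hc, m, hm, rfl⟩ := hgen g
      exact ⟨m, hm, c, hc, (hcomm c hc m hm).eq⟩
    have hBn : B.Normal := ⟨fun b hb g => by
      obtain ⟨c, hc, m, hm, rfl⟩ := hgen g
      rw [show c * m * b * (c * m)⁻¹ = c * (m * b * m⁻¹) * c⁻¹ by group,
        (hcomm c hc _ (B.mul_mem (B.mul_mem hm hb) (B.inv_mem hm))).eq, mul_inv_cancel_right]
      exact B.mul_mem (B.mul_mem hm hb) (B.inv_mem hm)⟩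
    obtain ⟨x⟩ : Nonempty α := by
      rw [← not_isEmpty_iff]
      intro h
      rw [Nat.card_of_isEmpty] at hα
      omega
    obtain ⟨hs1, hs2⟩ := ncard_orbit_dvd (Q : Subgroup N) x
    obtain ⟨ht1, ht2⟩ := ncard_orbit_dvd B x
    obtain ⟨j, hj⟩ := IsPGroup.iff_card.mp Q.isPGroup'
    set s := (orbit (Q : Subgroup N) x).ncard with hs
    set t := (orbit B x).ncard with ht
    rw [hα, ← hPr] at hs1 ht1
    rw [hj] at hs2
    have hsP : s ∣ P :=
      (Nat.Coprime.of_dvd_left hs2 (hpr.pow_left j)).dvd_of_dvd_mul_right hs1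
    have hPcard : P.Coprime (Nat.card B) := by
      refine Nat.Coprime.pow_left a ?_
      refine hpp.coprime_iff_not_dvd.mpr fun h => ?_
      rcases Nat.eq_zero_or_pos j with rfl | hj0
      · have hd : p ∣ Nat.card N := h.trans B.card_subgroup_dvd_card
        have := Q.ne_bot_of_dvd_card hd
        exact this (Subgroup.card_eq_one.mp (by simpa using hj))
      · exact hpp.not_dvd_one ((hj ▸ hcardB) ▸ Nat.dvd_gcd (dvd_pow_self p hj0.ne') h)
    have htr : t ∣ r :=
      ((hPcard.of_dvd_right ht2).symm).dvd_of_dvd_mul_left ht1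
    have hslt : s < k := by
      have := Nat.le_of_dvd (by omega) hsP
      nlinarith
    have htlt : t < k := by
      have := Nat.le_of_dvd (by omega) htr
      nlinarith
    have hQle := card_le_of_orbit hN (Q : Subgroup N) B hgen' hcomm x (IH s hslt)
    have hBle := card_le_of_orbit hN B (Q : Subgroup N) hgen
      (fun m hm c hc => (hcomm c hc m hm).symm) x (IH t htlt)
    have hlt : 2 * Nat.card N < bnd k := by
      rw [← hB.card_mul_card]
      refine lt_of_le_of_lt (Nat.mul_le_mul_left 2 (Nat.mul_le_mul hQle hBle)) ?_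
      rw [← hPr]
      exact two_mul_bnd_mul_lt hP2 hr2 hcop hsP htr
    refine ⟨by omega, fun _ => ⟨fun _ => hlt, fun h359 => absurd hr ?_⟩⟩
    simp only [Finset.mem_insert, Finset.mem_singleton] at h359
    have hpow : ∀ q b, q.Prime → k = q ^ b → r = 1 := fun q b hq hkq => by
      rcases Nat.eq_zero_or_pos b with rfl | hb
      · simp at hkq; omega
      · have hpq : p = q := by
          rw [hp, hkq, Nat.Prime.pow_minFac hq hb.ne']
        rw [hr', hP, ha, hpq, hkq, hq.factorization_pow, Finsupp.single_eq_same,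
          Nat.div_self (pow_pos hq.pos b)]
    rcases h359 with h | h | h
    · exact not_not.mpr (hpow 3 1 (by norm_num) (by simp [h]))
    · exact not_not.mpr (hpow 5 1 (by norm_num) (by simp [h]))
    · exact not_not.mpr (hpow 3 2 (by norm_num) (by simp [h]))

/-! ### Splitting along an invariant set -/

/-- The embedding `Perm β × Perm γ → Perm α` along `β ⊕ γ ≃ α`. -/
def fe {α β γ : Type*} (e : β ⊕ γ ≃ α) : Equiv.Perm β × Equiv.Perm γ →* Equiv.Perm α :=
  e.permCongrHom.toMonoidHom.comp (Equiv.Perm.sumCongrHom β γ)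

theorem fe_injective {α β γ : Type*} (e : β ⊕ γ ≃ α) : Function.Injective (fe e) :=
  e.permCongrHom.injective.comp Equiv.Perm.sumCongrHom_injective

theorem fe_apply {α β γ : Type*} (e : β ⊕ γ ≃ α) (s : Equiv.Perm β × Equiv.Perm γ) :
    fe e s = e.permCongr (Equiv.sumCongr s.1 s.2) := rfl

theorem sign_fe {α β γ : Type*} [Fintype α] [DecidableEq α] [Fintype β] [DecidableEq β]
    [Fintype γ] [DecidableEq γ] (e : β ⊕ γ ≃ α) (s : Equiv.Perm β × Equiv.Perm γ) :
    Equiv.Perm.sign (fe e s) = Equiv.Perm.sign s.1 * Equiv.Perm.sign s.2 := by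
  rw [fe_apply, Equiv.Perm.sign_permCongr]
  exact Equiv.Perm.sign_sumCongr _ _

/-- Odd order permutations are even. -/
theorem sign_eq_one_of_odd_card {α : Type*} [Fintype α] [DecidableEq α]
    {N : Subgroup (Equiv.Perm α)} (h : Odd (Nat.card N)) {g : Equiv.Perm α} (hg : g ∈ N) :
    Equiv.Perm.sign g = 1 := by
  have h1 : Equiv.Perm.sign g ^ Nat.card N = 1 := by
    rw [← map_pow]
    have : (⟨g, hg⟩ : N) ^ Nat.card N = 1 := pow_card_eq_one'
    have h' := congrArg Subtype.val this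
    simp only [SubmonoidClass.coe_pow, OneMemClass.coe_one] at h'
    rw [h', map_one]
  rcases Int.units_eq_one_or (Equiv.Perm.sign g) with h2 | h2
  · exact h2
  · rw [h2, h.neg_one_pow] at h1
    exact absurd h1 (by decide)

/-- The split of a nilpotent group along an orbit. -/
theorem split {α : Type u} [Finite α] (N : Subgroup (Equiv.Perm α)) (hN : Group.IsNilpotent N)
    (x : α) : ∃ (β γ : Type u) (_ : Finite β) (_ : Finite γ) (e : β ⊕ γ ≃ α)
      (N₁ : Subgroup (Equiv.Perm β)) (N₂ : Subgroup (Equiv.Perm γ)),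
      Nat.card β + Nat.card γ = Nat.card α ∧ Nat.card β = (orbit N x).ncard ∧
      Group.IsNilpotent N₁ ∧ Group.IsNilpotent N₂ ∧ IsPretransitive N₁ β ∧
      Nat.card N ≤ Nat.card N₁ * Nat.card N₂ ∧ Nat.card N₁ ∣ Nat.card N ∧
      N ≤ (N₁.prod N₂).map (fe e) ∧
      (∀ g ∈ N, ∃ s : Equiv.Perm β × Equiv.Perm γ, fe e s = g) ∧
      ∀ b ∈ N₂, ∃ a ∈ N₁, fe e (a, b) ∈ N := by
  classical
  have hmem : ∀ g ∈ N, ∀ y, g y ∈ orbit N x ↔ y ∈ orbit N x := fun g hg y => by
    rw [orbit_eq_iff.symm, orbit_eq_iff.symm]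
    rw [show g y = (⟨g, hg⟩ : N) • y from rfl, orbit_smul]
  let e := Equiv.sumCompl (· ∈ orbit N x)
  have hmem' : ∀ g ∈ N, ∀ y, ¬g y ∈ orbit N x ↔ ¬y ∈ orbit N x := fun g hg y => (hmem g hg y).not
  let r₁ : N →* Equiv.Perm {y // y ∈ orbit N x} :=
    { toFun := fun g => (g : Equiv.Perm α).subtypePerm (hmem g g.2)
      map_one' := by ext; rfl
      map_mul' := fun a b => by ext; rfl }
  let r₂ : N →* Equiv.Perm {y // ¬y ∈ orbit N x} :=
    { toFun := fun g => (g : Equiv.Perm α).subtypePerm (hmem' g g.2)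
      map_one' := by ext; rfl
      map_mul' := fun a b => by ext; rfl }
  have hfe : ∀ g : N, fe e (r₁ g, r₂ g) = g := fun g => by
    ext y
    rw [fe_apply, Equiv.permCongr_apply]
    obtain ⟨z, rfl⟩ := e.surjective y
    rw [Equiv.symm_apply_apply]
    rcases z with z | z <;> rfl
  refine ⟨_, _, inferInstance, inferInstance, e, r₁.range, r₂.range, ?_, ?_,
    isNilpotent_range hN _, isNilpotent_range hN _, ⟨?_⟩, ?_, ?_, ?_, ?_, ?_⟩
  · rw [← Nat.card_sum]; exact Nat.card_congr e
  · exact Nat.card_coe_set_eq _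
  · rintro ⟨y, hy⟩ ⟨z, hz⟩
    rw [← orbit_eq_iff.mpr hy] at hz
    obtain ⟨g, hg⟩ := hz
    exact ⟨⟨r₁ g, g, rfl⟩, Subtype.ext hg⟩
  · rw [← Nat.card_prod]
    refine Nat.card_le_card_of_injective (fun g => (⟨r₁ g, g, rfl⟩, ⟨r₂ g, g, rfl⟩)) ?_
    intro a b hab
    have h1 : r₁ a = r₁ b := congrArg (fun z => Subtype.val (Prod.fst z)) hab
    have h2 : r₂ a = r₂ b := congrArg (fun z => Subtype.val (Prod.snd z)) hab
    apply Subtype.ext
    rw [← hfe a, ← hfe b, h1, h2]
  · exact Subgroup.card_range_dvd r₁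
  · exact fun g hg => ⟨(r₁ ⟨g, hg⟩, r₂ ⟨g, hg⟩), ⟨⟨⟨g, hg⟩, rfl⟩, ⟨⟨g, hg⟩, rfl⟩⟩, hfe _⟩
  · exact fun g hg => ⟨(r₁ ⟨g, hg⟩, r₂ ⟨g, hg⟩), hfe _⟩
  · rintro _ ⟨g, rfl⟩
    exact ⟨r₁ g, ⟨g, rfl⟩, by rw [hfe]; exact g.2⟩

/-- The largest order of a nilpotent subgroup of `S_n`. -/
theorem bd_all : ∀ n, Bd.{u} n := by
  intro n
  induction n using Nat.strong_induction_on with
  | _ n IH =>
    intro α _ hα N hN
    rcases Nat.lt_or_ge n 2 with hn | hn
    · have : Subsingleton α := Finite.card_le_one_iff_subsingleton.mp (by omega)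
      rw [Subgroup.eq_bot_of_subsingleton N, Subgroup.card_bot]
      exact bnd_pos n
    obtain ⟨x⟩ : Nonempty α := by
      rw [← not_isEmpty_iff]; intro h; rw [Nat.card_of_isEmpty] at hα; omega
    obtain ⟨β, γ, _, _, e, N₁, N₂, hsum, hk, hN₁, hN₂, htr, hle, -, -, -, -⟩ := split N hN x
    have hk0 : 0 < Nat.card β := by
      rw [hk]; exact (Set.ncard_pos (Set.toFinite _)).mpr ⟨x, mem_orbit_self x⟩
    rw [hα] at hsum
    have h1 : Nat.card N₁ ≤ bnd (Nat.card β) := by
      rcases Nat.lt_or_ge (Nat.card β) n with h | h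
      · exact IH _ h β rfl N₁ hN₁
      · exact (trans_bound (by omega) (fun m hm => IH m (by omega)) rfl N₁ hN₁).1
    have h2 : Nat.card N₂ ≤ bnd (Nat.card γ) := IH _ (by omega) γ rfl N₂ hN₂
    refine hle.trans ((Nat.mul_le_mul h1 h2).trans ((bnd_add_le _ _).trans (le_of_eq ?_)))
    rw [hsum]

/-- A group that is not a `2`-group has an orbit of length not a power of `2`. -/
theorem exists_orbit {α : Type u} [Finite α] (N : Subgroup (Equiv.Perm α))
    (hN : Group.IsNilpotent N) (h2 : ¬IsPGroup 2 N) :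
    ∃ x : α, ∀ a, (orbit N x).ncard ≠ 2 ^ a := by
  by_contra hcon
  push Not at hcon
  refine h2 fun g => ?_
  have : Fact (Nat.Prime 2) := ⟨Nat.prime_two⟩
  have key : ∀ x, ∃ j, ((g : Equiv.Perm α) ^ 2 ^ j) x = x := fun x => by
    obtain ⟨a, ha⟩ := hcon x
    have hr : IsPretransitive N (orbit N x) := inferInstance
    set f := MulAction.toPermHom N (orbit N x) with hf
    have : IsPretransitive f.range (orbit N x) := ⟨fun y z => by
      obtain ⟨g, hg⟩ := exists_smul_eq N y z
      exact ⟨⟨f g, g, rfl⟩, hg⟩⟩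
    have hp := isPGroup_of_prime_pow (isNilpotent_range hN f) (X := orbit N x)
      ((Nat.card_coe_set_eq _).trans ha)
    obtain ⟨j, hj⟩ := hp ⟨f g, g, rfl⟩
    refine ⟨j, ?_⟩
    have h' := congrArg Subtype.val (DFunLike.congr_fun (congrArg Subtype.val hj)
      (⟨x, mem_orbit_self x⟩ : orbit N x))
    simp only [SubmonoidClass.coe_pow, ← map_pow, OneMemClass.coe_one, Equiv.Perm.one_apply] at h'
    rw [← SubmonoidClass.coe_pow]
    exact h'
  choose j hj using key
  have := Fintype.ofFinite α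
  refine ⟨Finset.univ.sup j, Subtype.ext (Equiv.ext fun x => ?_)⟩
  obtain ⟨d, hd⟩ := Nat.exists_eq_add_of_le (Finset.le_sup (f := j) (Finset.mem_univ x))
  rw [SubmonoidClass.coe_pow, hd, pow_add, pow_mul, OneMemClass.coe_one, Equiv.Perm.one_apply,
    Equiv.Perm.pow_apply_eq_self_of_apply_eq_self (hj x)]

/-- The bound for subgroups of `A_n`. -/
theorem alt_bound (n : ℕ) : ∀ (α : Type u) [Fintype α] [DecidableEq α], Nat.card α = n →
    ∀ N : Subgroup (Equiv.Perm α), Group.IsNilpotent N → N ≤ alternatingGroup α →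
      n ∉ ({0, 1, 3, 5, 6, 9} : Finset ℕ) → 2 * Nat.card N ≤ bnd n ∧
      (¬IsPGroup 2 N → 2 * Nat.card N = bnd n →
        ∃ x : α, (orbit N x).ncard = 3) := by
  induction n using Nat.strong_induction_on with
  | _ n IH =>
  intro α _ _ hα N hN hA hn
  simp only [Finset.mem_insert, Finset.mem_singleton, not_or] at hn
  by_cases h2 : IsPGroup 2 N
  · refine ⟨?_, fun h => absurd h2 h⟩
    have : Fact (Nat.Prime 2) := ⟨Nat.prime_two⟩
    have : Nontrivial α := Finite.one_lt_card_iff_nontrivial.mp (by omega)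
    obtain ⟨j, hj⟩ := IsPGroup.iff_card.mp h2
    have h : 2 ^ (j + 1) ∣ n.factorial := by
      have hc := two_mul_card_alternatingGroup (α := α)
      rw [← Nat.card_eq_fintype_card, ← Nat.card_eq_fintype_card, Nat.card_perm, hα] at hc
      rw [pow_succ', ← hj, ← hc]
      exact Nat.mul_dvd_mul_left 2 (Subgroup.card_dvd_of_le hA)
    rw [padicValNat_dvd_iff_le (Nat.factorial_ne_zero n)] at h
    rw [hj, ← pow_succ']
    exact (Nat.pow_le_pow_right (by norm_num) h).trans (two_pow_e2_le n).1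
  obtain ⟨x, hx⟩ := exists_orbit N hN h2
  obtain ⟨β, γ, _, _, e, N₁, N₂, hsum, hk, hN₁, hN₂, htr, hle, -, -, -, hback⟩ := split N hN x
  rw [hα] at hsum
  rw [← hk] at hx
  have hk2 : 2 ≤ Nat.card β := by
    have h0 : 0 < Nat.card β := by
      rw [hk]; exact (Set.ncard_pos (Set.toFinite _)).mpr ⟨x, mem_orbit_self x⟩
    have h1 := hx 0
    simp at h1
    omega
  obtain ⟨-, hrest⟩ := trans_bound hk2 (fun m _ => bd_all.{u} m) rfl N₁ hN₁
  obtain ⟨hgen, hspec⟩ := hrest hx
  have hb2 : Nat.card N₂ ≤ bnd (Nat.card γ) := bd_all _ γ rfl N₂ hN₂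
  by_cases h359 : Nat.card β ∈ ({3, 5, 9} : Finset ℕ)
  swap
  · have h1 := hgen h359
    have : 2 * Nat.card N < bnd n := by
      rw [← hsum]
      refine lt_of_lt_of_le (lt_of_le_of_lt ?_ (Nat.mul_lt_mul_of_pos_right h1
        (bnd_pos (Nat.card γ)))) (bnd_add_le _ _)
      rw [mul_assoc]
      exact Nat.mul_le_mul_left 2 (hle.trans (Nat.mul_le_mul_left _ hb2))
    exact ⟨this.le, fun _ h => absurd h this.ne⟩
  obtain ⟨hodd, hcases⟩ := hspec h359
  have := Fintype.ofFinite β
  have := Fintype.ofFinite γ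
  classical
  have hA2 : N₂ ≤ alternatingGroup γ := fun b hb => by
    obtain ⟨a, ha, hab⟩ := hback b hb
    have := Equiv.Perm.mem_alternatingGroup.mp (hA hab)
    rw [sign_fe, sign_eq_one_of_odd_card hodd ha, one_mul] at this
    exact Equiv.Perm.mem_alternatingGroup.mpr this
  obtain ⟨b2, b3, b4, b5, b6, b7, b8, b9, b10, b11, b12, b14, b15, b18, b27⟩ := bnd_small
  have hmul : Nat.card N ≤ Nat.card N₁ * Nat.card N₂ := hle
  by_cases hr : Nat.card γ ∈ ({0, 1, 3, 5, 6, 9} : Finset ℕ)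
  · simp only [Finset.mem_insert, Finset.mem_singleton] at hr
    have : 2 * Nat.card N < bnd n := by
      have hm := fun c (hc : Nat.card N₁ ≤ c) => hle.trans (Nat.mul_le_mul hc hb2)
      rcases hcases with ⟨hb, hc⟩ | ⟨hb, hc⟩ | ⟨hb, hc⟩ <;>
        rcases hr with hr | hr | hr | hr | hr | hr <;>
        rw [hb, hr] at hsum <;> subst hsum <;>
        first
        | omega
        | (have := hm _ hc
           rw [hr] at this
           norm_num [bnd_zero, bnd_one, b2, b3, b4, b5, b6, b7, b8, b9, b10, b11, b12, b14, b15,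
             b18] at this ⊢
           omega)
    exact ⟨this.le, fun _ h => absurd h this.ne⟩
  have hI := (IH _ (by omega) γ rfl N₂ hN₂ hA2 hr).1
  rcases hcases with ⟨hb, hc⟩ | hcases
  · refine ⟨?_, fun _ _ => ⟨x, hk ▸ hb⟩⟩
    have h3 := bnd_add_le 3 (Nat.card γ)
    rw [b3, show 3 + Nat.card γ = n by omega] at h3
    calc 2 * Nat.card N ≤ 2 * (3 * Nat.card N₂) :=
          Nat.mul_le_mul_left 2 (hle.trans (Nat.mul_le_mul_right _ hc))
      _ ≤ bnd n := by omega
  · have : 2 * Nat.card N < bnd n := by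
      have hpos := bnd_pos (Nat.card γ)
      rcases hcases with ⟨hb, hc⟩ | ⟨hb, hc⟩ <;> rw [hb] at hsum <;> subst hsum
      · have h3 := bnd_add_le 5 (Nat.card γ)
        rw [b5] at h3
        have := Nat.mul_le_mul hc (le_refl (Nat.card N₂))
        omega
      · have h3 := bnd_add_le 9 (Nat.card γ)
        rw [b9] at h3
        have := Nat.mul_le_mul hc (le_refl (Nat.card N₂))
        omega
    exact ⟨this.le, fun _ h => absurd h this.ne⟩

/-- In `S_n`, reaching the bound with `n ≡ 3 (mod 4)` forces an orbit of length `3`. -/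
theorem sym_eq_orbit {n : ℕ} (hn : n % 4 = 3) {α : Type u} [Finite α] (hα : Nat.card α = n)
    (N : Subgroup (Equiv.Perm α)) (hN : Group.IsNilpotent N) (heq : Nat.card N = bnd n) :
    ∃ x : α, (orbit N x).ncard = 3 := by
  have : Fact (Nat.Prime 2) := ⟨Nat.prime_two⟩
  obtain ⟨hb, he⟩ := (two_pow_e2_le n).2.2 hn
  have h2 : ¬IsPGroup 2 N := fun h => by
    have := card_le_two_pow_e2 hα h
    rw [show padicValNat 2 n.factorial = e2 n from rfl, he, heq, hb, pow_succ] at this
    have := Nat.two_pow_pos (e2 (n - 3))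
    omega
  obtain ⟨x, hx⟩ := exists_orbit N hN h2
  obtain ⟨β, γ, _, _, e, N₁, N₂, hsum, hk, hN₁, hN₂, htr, hle, -, -, -, -⟩ := split N hN x
  rw [hα] at hsum
  rw [← hk] at hx
  have hk2 : 2 ≤ Nat.card β := by
    have h0 : 0 < Nat.card β := by
      rw [hk]; exact (Set.ncard_pos (Set.toFinite _)).mpr ⟨x, mem_orbit_self x⟩
    have h1 := hx 0
    simp at h1
    omega
  obtain ⟨-, hrest⟩ := trans_bound hk2 (fun m _ => bd_all.{u} m) rfl N₁ hN₁
  obtain ⟨hgen, hspec⟩ := hrest hx
  have hb2 : Nat.card N₂ ≤ bnd (Nat.card γ) := bd_all _ γ rfl N₂ hN₂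
  by_contra hcon
  have hne3 : Nat.card β ≠ 3 := fun h => hcon ⟨x, hk ▸ h⟩
  have h1 : Nat.card N₁ < bnd (Nat.card β) := by
    by_cases h359 : Nat.card β ∈ ({3, 5, 9} : Finset ℕ)
    · rcases (hspec h359).2 with ⟨h, hc⟩ | ⟨h, hc⟩ | ⟨h, hc⟩
      · exact absurd h hne3
      · rw [h, bnd_small.2.2.2.1]; omega
      · rw [h, bnd_small.2.2.2.2.2.2.2.1]; omega
    · have := hgen h359; omega
  have : Nat.card N < bnd n := by
    rw [← hsum]
    exact lt_of_le_of_lt (hle.trans (Nat.mul_le_mul_left _ hb2))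
      (lt_of_lt_of_le (Nat.mul_lt_mul_of_pos_right h1 (bnd_pos _)) (bnd_add_le _ _))
  omega

end CfsgLib.KnownA.Nil
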