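import Mathlib.GroupTheory.Sylow
import Mathlib.GroupTheory.SpecificGroups.Cyclic
import Cfsg.Agent.Lib.KnownA.NilPerm

/-!
Nilpotent subgroups of largest order in `S_n` and `A_n`.
-/

set_option autoImplicit false

namespace CfsgLib.KnownA.Nil

open MulAction
open scoped Pointwise

theorem card_sylow_sym (n : ℕ) (P : Sylow 2 (Equiv.Perm (Fin n))) :
    Nat.card P = 2 ^ e2 n := by
  rw [P.card_eq_multiplicity, Nat.card_perm, Nat.card_fin, Nat.factorization_def _ Nat.prime_two]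
  rfl

theorem card_sylow_alt {n : ℕ} (hn : 2 ≤ n) (P : Sylow 2 (alternatingGroup (Fin n))) :
    2 * Nat.card P = 2 ^ e2 n := by
  have : Fact (Nat.Prime 2) := ⟨Nat.prime_two⟩
  have : Nontrivial (Fin n) := Fin.nontrivial_iff_two_le.mpr hn
  have h := two_mul_card_alternatingGroup (α := Fin n)
  rw [← Nat.card_eq_fintype_card, ← Nat.card_eq_fintype_card, Nat.card_perm, Nat.card_fin] at h
  rw [P.card_eq_multiplicity, e2, ← Nat.factorization_def _ Nat.prime_two, ← h,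
    Nat.factorization_mul two_ne_zero Nat.card_pos.ne']
  rw [Finsupp.add_apply, Nat.prime_two.factorization_self, pow_add, pow_one]

/-- A subgroup with the order of a Sylow subgroup is conjugate into it. -/
theorem exists_conj_of_card {G : Type*} [Group G] [Finite G] {p : ℕ} [Fact p.Prime]
    (P : Sylow p G) {Q : Subgroup G} (h : Nat.card Q = Nat.card P) :
    ∃ g : G, ∀ x ∈ Q, g⁻¹ * x * g ∈ P := by
  obtain ⟨j, hj⟩ := IsPGroup.iff_card.mp P.isPGroup'
  obtain ⟨R, hR⟩ := (IsPGroup.of_card (h.trans hj)).exists_le_sylow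
  obtain ⟨g, hg⟩ := MulAction.exists_smul_eq G P R
  refine ⟨g, fun x hx => ?_⟩
  have hx' := hR hx
  rw [← hg] at hx'
  have : x ∈ MulAut.conj g • (P : Subgroup G) := hx'
  rw [Subgroup.mem_pointwise_smul_iff_inv_smul_mem] at this
  simp [MulAut.smul_def] at this
  exact this

theorem fe_sumCongr_trans {α β γ β' γ' : Type*} (e : β ⊕ γ ≃ α) (b : β' ≃ β) (c : γ' ≃ γ)
    (s : Equiv.Perm β' × Equiv.Perm γ') :
    fe ((b.sumCongr c).trans e) s = fe e (b.permCongr s.1, c.permCongr s.2) := by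
  ext y
  simp only [fe_apply, Equiv.permCongr_apply, Equiv.symm_trans_apply, Equiv.trans_apply]
  rcases e.symm y with z | z <;> simp

theorem fe_conj {α β γ : Type*} (e₁ e₂ : β ⊕ γ ≃ α) (s : Equiv.Perm β × Equiv.Perm γ) :
    fe e₂ s = (e₁.symm.trans e₂ : Equiv.Perm α) * fe e₁ s * (e₁.symm.trans e₂)⁻¹ := by
  ext y
  simp [fe_apply, Equiv.Perm.mul_apply, Equiv.Perm.inv_def]

/-- The standard subgroup `A₃ × P₀` along `Fin 3 ⊕ Fin r ≃ α`. -/
def std {α : Type*} {r : ℕ} (e : Fin 3 ⊕ Fin r ≃ α) (P₀ : Subgroup (Equiv.Perm (Fin r))) :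
    Subgroup (Equiv.Perm α) :=
  ((alternatingGroup (Fin 3)).prod P₀).map (fe e)

theorem card_alt3 : Nat.card (alternatingGroup (Fin 3)) = 3 := by
  rw [nat_card_alternatingGroup]
  simp [Nat.factorial]

theorem card_std {α : Type*} {r : ℕ} (e : Fin 3 ⊕ Fin r ≃ α)
    (P₀ : Subgroup (Equiv.Perm (Fin r))) : Nat.card (std e P₀) = 3 * Nat.card P₀ := by
  rw [std, Subgroup.card_map_of_injective (fe_injective e),
    Nat.card_congr (Subgroup.prodEquiv _ _).toEquiv, Nat.card_prod, card_alt3]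

/-- The isomorphism of the standard subgroup with `P₀ × C₃`. -/
theorem nonempty_std_equiv {α : Type*} {r : ℕ} (e : Fin 3 ⊕ Fin r ≃ α)
    (P₀ : Subgroup (Equiv.Perm (Fin r))) :
    Nonempty (std e P₀ ≃* P₀ × Multiplicative (ZMod 3)) := by
  have : Fact (Nat.Prime 3) := ⟨by norm_num⟩
  refine ⟨((Subgroup.equivMapOfInjective _ _ (fe_injective e)).symm.trans
    (Subgroup.prodEquiv _ _)).trans (MulEquiv.prodComm.trans
      (MulEquiv.prodCongr (MulEquiv.refl _) ?_))⟩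
  exact mulEquivOfPrimeCardEq (p := 3) card_alt3 (by simp)

theorem std_nilpotent {α : Type*} {r : ℕ} (e : Fin 3 ⊕ Fin r ≃ α)
    (P₀ : Subgroup (Equiv.Perm (Fin r))) (h : Group.IsNilpotent P₀) :
    Group.IsNilpotent (std e P₀) := by
  obtain ⟨φ⟩ := nonempty_std_equiv e P₀
  have : Group.IsNilpotent P₀ := h
  exact Group.nilpotent_of_mulEquiv φ.symm

theorem sign_eq_one_of_mem_std {α : Type*} [Fintype α] [DecidableEq α] {r : ℕ}
    (e : Fin 3 ⊕ Fin r ≃ α) {P₀ : Subgroup (Equiv.Perm (Fin r))}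
    (hP : P₀ ≤ alternatingGroup (Fin r)) : std e P₀ ≤ alternatingGroup α := by
  rintro _ ⟨⟨a, b⟩, ⟨ha, hb⟩, rfl⟩
  rw [Equiv.Perm.mem_alternatingGroup, sign_fe, Equiv.Perm.mem_alternatingGroup.mp ha,
    Equiv.Perm.mem_alternatingGroup.mp (hP hb), one_mul]

theorem std_conj {α : Type*} {r : ℕ} (e₁ e₂ : Fin 3 ⊕ Fin r ≃ α)
    (P₀ : Subgroup (Equiv.Perm (Fin r))) :
    std e₂ P₀ = (std e₁ P₀).map (MulAut.conj (e₁.symm.trans e₂ : Equiv.Perm α)).toMonoidHom := by
  unfold std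
  rw [Subgroup.map_map]
  congr 1
  ext1 s
  exact fe_conj e₁ e₂ s

/-- A transposition of the first block keeps the standard subgroup. -/
theorem std_swap {α : Type*} [Finite α] {r : ℕ} (e : Fin 3 ⊕ Fin r ≃ α)
    (P₀ : Subgroup (Equiv.Perm (Fin r))) :
    std (((Equiv.swap (0 : Fin 3) 1).sumCongr (Equiv.refl (Fin r))).trans e) P₀ = std e P₀ := by
  refine Subgroup.eq_of_le_of_card_ge ?_ (by rw [card_std, card_std])
  rintro _ ⟨⟨a, b⟩, ⟨ha, hb⟩, rfl⟩
  refine ⟨((Equiv.swap (0 : Fin 3) 1).permCongr a, b), ⟨?_, hb⟩, ?_⟩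
  · refine Equiv.Perm.mem_alternatingGroup.mpr ?_
    rw [Equiv.Perm.sign_permCongr]
    exact Equiv.Perm.mem_alternatingGroup.mp ha
  · rw [fe_sumCongr_trans]; simp [← Equiv.Perm.one_def]

/-- A nilpotent group with an orbit of length `3` of largest order is standard. -/
theorem eq_std {α : Type} [Fintype α] [DecidableEq α] {r : ℕ} (hα : Nat.card α = 3 + r)
    {c : ℕ} (hc : 0 < c) (N : Subgroup (Equiv.Perm α)) (hN : Group.IsNilpotent N)
    (hcard : Nat.card N = 3 * c) (x : α) (hx : (orbit N x).ncard = 3)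
    (T P₀ : Subgroup (Equiv.Perm (Fin r))) (hP₀ : Nat.card P₀ = c)
    (hT : ∀ (e : Fin 3 ⊕ Fin r ≃ α) a b, Equiv.Perm.sign a = 1 → fe e (a, b) ∈ N → b ∈ T)
    (hQ : ∀ Q : Subgroup (Equiv.Perm (Fin r)), Q ≤ T → Group.IsNilpotent Q →
      Nat.card Q ≤ c ∧ (Nat.card Q = c → ∃ g, ∀ y ∈ Q, g⁻¹ * y * g ∈ P₀)) :
    ∃ e : Fin 3 ⊕ Fin r ≃ α, N = std e P₀ := by
  obtain ⟨β, γ, _, _, e, N₁, N₂, hsum, hk, hN₁, hN₂, htr, hle, -, hsub, -, hback⟩ :=
    split N hN x
  classical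
  have := Fintype.ofFinite β
  have := Fintype.ofFinite γ
  rw [hx] at hk
  have hγ : Nat.card γ = r := by omega
  let b : Fin 3 ≃ β := (Finite.equivFinOfCardEq hk).symm
  let cγ : Fin r ≃ γ := (Finite.equivFinOfCardEq hγ).symm
  have hle1 : Nat.card N₁ ≤ 3 ∧ Odd (Nat.card N₁) := by
    have h := ((trans_bound (by omega) (fun m _ => bd_all.{0} m) rfl N₁ hN₁).2 (fun a ha => by
      rw [hk] at ha
      rcases a with _ | _ | a <;> simp [pow_succ] at ha
      omega)).2 (by rw [hk]; simp)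
    refine ⟨?_, h.1⟩
    rcases h.2 with ⟨-, h'⟩ | ⟨h', -⟩ | ⟨h', -⟩
    · exact h'
    · omega
    · omega
  have hsign : ∀ a ∈ N₁, Equiv.Perm.sign a = 1 := fun a ha => sign_eq_one_of_odd_card hle1.2 ha
  set Q := N₂.map (cγ.symm.permCongrHom).toMonoidHom with hQdef
  have hQc : Nat.card Q = Nat.card N₂ :=
    Subgroup.card_map_of_injective (cγ.symm.permCongrHom).injective
  have hQnil : Group.IsNilpotent Q := by
    have : Group.IsNilpotent N₂ := hN₂
    exact Group.nilpotent_of_mulEquiv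
      (Subgroup.equivMapOfInjective _ _ (cγ.symm.permCongrHom).injective)
  have hQT : Q ≤ T := by
    rintro _ ⟨y, hy, rfl⟩
    obtain ⟨a, ha, hay⟩ := hback y hy
    refine hT ((b.sumCongr cγ).trans e) (b.symm.permCongr a) _ ?_ ?_
    · rw [Equiv.Perm.sign_permCongr]; exact hsign a ha
    · rw [fe_sumCongr_trans]
      convert hay using 3
      · ext z; simp
      · ext z; simp
  obtain ⟨hQle, hQeq⟩ := hQ Q hQT hQnil
  have hboth : Nat.card N₁ = 3 ∧ Nat.card N₂ = c := by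
    rw [hQc] at hQle
    rw [hcard] at hle
    constructor
    · by_contra h
      have h' : Nat.card N₁ ≤ 2 := by omega
      have := Nat.mul_le_mul h' hQle
      omega
    · by_contra h
      have h' : Nat.card N₂ + 1 ≤ c := by omega
      have := Nat.mul_le_mul hle1.1 h'
      rw [Nat.mul_add] at this
      have := Nat.one_le_iff_ne_zero.mpr (Nat.card_pos (α := N₁)).ne'
      nlinarith
  obtain ⟨g, hg⟩ := hQeq (hQc.trans hboth.2)
  refine ⟨((b.sumCongr ((g : Fin r ≃ Fin r).trans cγ))).trans e, ?_⟩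
  refine Subgroup.eq_of_le_of_card_ge ?_ (by rw [card_std, hP₀, hcard])
  intro y hy
  obtain ⟨⟨a, d⟩, ⟨ha, hd⟩, rfl⟩ := hsub hy
  refine ⟨(b.symm.permCongr a, g⁻¹ * cγ.symm.permCongr d * g),
    ⟨?_, hg _ ⟨d, hd, rfl⟩⟩, ?_⟩
  · refine Equiv.Perm.mem_alternatingGroup.mpr ?_
    rw [Equiv.Perm.sign_permCongr]
    exact hsign a ha
  · rw [fe_sumCongr_trans]
    congr 2
    · ext z; simp
    · ext z; simp [Equiv.Perm.inv_def]

/-- `finSumFinEquiv` with the sum normalised. -/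
def sumFin {n : ℕ} (hn : 3 ≤ n) : Fin 3 ⊕ Fin (n - 3) ≃ Fin n :=
  finSumFinEquiv.trans (finCongr (by omega))

end CfsgLib.KnownA.Nil
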