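import Cfsg.Agent.Lib.KnownA.Cores
import Cfsg.Agent.Lib.StructB.StemOfCentral

/-!
Central extensions of a subgroup given by tables of a two-cocycle, and the stem extension of the
whole group they give by corestriction.
-/

set_option autoImplicit false

namespace CfsgLib.KnownA.TableExt

open scoped IsMulCommutative

universe u

/-- A table for a subgroup `L '' [0, N)` and a two-cocycle on it with values in `A`. -/
structure Tab (G : Type u) [Group G] (A : Type) [AddCommGroup A] where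
  N : ℕ
  n : ℕ
  L : ℕ → G
  gen : ℕ → G
  act : ℕ → ℕ → ℕ
  prd : ℕ → ℕ → ℕ
  m : ℕ → ℕ → A
  c : ℕ → ℕ → A
  pos : 0 < N
  L_zero : L 0 = 1
  L_inj : ∀ s < N, ∀ t < N, L s = L t → s = t
  act_spec : ∀ s < N, ∀ i < n, act s i < N ∧ L (act s i) = L s * gen i
  parent : ∀ t < N, t = 0 ∨ ∃ t' < t, ∃ i < n, act t' i = t
  prd_zero : ∀ s < N, prd s 0 = s
  prd_zero_left : ∀ t < N, prd 0 t = t
  prd_act : ∀ s < N, ∀ t < N, ∀ i < n, prd s (act t i) = act (prd s t) i
  c_zero : ∀ s < N, c s 0 = 0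
  c_zero_left : ∀ t < N, c 0 t = 0
  c_act : ∀ s < N, ∀ t < N, ∀ i < n, c s t + m (prd s t) i = m t i + c s (act t i)

variable {G : Type u} [Group G] {A : Type} [AddCommGroup A] (D : Tab G A)

theorem Tab.induct {P : ℕ → Prop} (h0 : P 0)
    (hs : ∀ t < D.N, ∀ i < D.n, P t → P (D.act t i)) : ∀ t < D.N, P t := by
  intro t
  induction t using Nat.strong_induction_on with
  | _ t ih =>
    intro ht
    rcases D.parent t ht with rfl | ⟨t', hlt, i, hi, e⟩
    · exact h0
    · exact e ▸ hs t' (hlt.trans ht) i hi (ih t' hlt (hlt.trans ht))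

theorem Tab.prd_spec {s t : ℕ} (hs : s < D.N) (ht : t < D.N) :
    D.prd s t < D.N ∧ D.L (D.prd s t) = D.L s * D.L t := by
  revert ht
  suffices h : ∀ t < D.N, D.prd s t < D.N ∧ D.L (D.prd s t) = D.L s * D.L t from h t
  refine D.induct ?_ fun t ht i hi h => ?_
  · rw [D.prd_zero s hs, D.L_zero, mul_one]
    exact ⟨hs, rfl⟩
  · rw [D.prd_act s hs t ht i hi, (D.act_spec _ h.1 i hi).2, (D.act_spec t ht i hi).2, h.2, mul_assoc]
    exact ⟨(D.act_spec _ h.1 i hi).1, rfl⟩

theorem Tab.prd_assoc {s t u : ℕ} (hs : s < D.N) (ht : t < D.N) (hu : u < D.N) :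
    D.prd (D.prd s t) u = D.prd s (D.prd t u) := by
  have h1 := D.prd_spec (D.prd_spec hs ht).1 hu
  have h2 := D.prd_spec hs (D.prd_spec ht hu).1
  refine D.L_inj _ h1.1 _ h2.1 ?_
  rw [h1.2, h2.2, (D.prd_spec hs ht).2, (D.prd_spec ht hu).2, mul_assoc]

theorem Tab.c_assoc {s t u : ℕ} (hs : s < D.N) (ht : t < D.N) (hu : u < D.N) :
    D.c s t + D.c (D.prd s t) u = D.c t u + D.c s (D.prd t u) := by
  revert hu
  suffices h : ∀ u < D.N, D.c s t + D.c (D.prd s t) u = D.c t u + D.c s (D.prd t u) from h u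
  refine D.induct ?_ fun u hu i hi h => ?_
  · rw [D.prd_zero t ht, D.c_zero _ (D.prd_spec hs ht).1, D.c_zero t ht]; abel
  · have e1 := D.c_act _ (D.prd_spec hs ht).1 u hu i hi
    have e2 := D.c_act t ht u hu i hi
    have e3 := D.c_act s hs _ (D.prd_spec ht hu).1 i hi
    rw [D.prd_assoc hs ht hu] at e1
    rw [D.prd_act t ht u hu i hi]
    linear_combination (norm := abel) h - e1 + e2 + e3

/-- The extension. -/
@[ext] structure Carrier {G : Type u} [Group G] {A : Type} [AddCommGroup A] (D : Tab G A) where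
  st : Fin D.N
  a : A

variable {D}

instance : Mul (Carrier D) :=
  ⟨fun x y => ⟨⟨D.prd x.st y.st, (D.prd_spec x.st.2 y.st.2).1⟩, x.a + y.a + D.c x.st y.st⟩⟩

instance : One (Carrier D) := ⟨⟨⟨0, D.pos⟩, 0⟩⟩

@[simp] theorem mul_st (x y : Carrier D) : ((x * y).st : ℕ) = D.prd x.st y.st := rfl
@[simp] theorem mul_a (x y : Carrier D) : (x * y).a = x.a + y.a + D.c x.st y.st := rfl
@[simp] theorem one_st : ((1 : Carrier D).st : ℕ) = 0 := rfl
@[simp] theorem one_a : (1 : Carrier D).a = 0 := rfl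

theorem exists_left_inv (s : Fin D.N) : ∃ t : Fin D.N, D.prd t s = 0 := by
  let f : Fin D.N → Fin D.N := fun t => ⟨D.prd t s, (D.prd_spec t.2 s.2).1⟩
  have hf : Function.Injective f := fun t t' e => Fin.ext (D.L_inj _ t.2 _ t'.2 (by
    have e' : D.prd t s = D.prd t' s := congrArg Fin.val e
    have := (D.prd_spec t.2 s.2).2.symm.trans ((congrArg D.L e').trans (D.prd_spec t'.2 s.2).2)
    exact mul_right_cancel this))
  obtain ⟨t, ht⟩ := Finite.injective_iff_surjective.1 hf ⟨0, D.pos⟩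
  exact ⟨t, congrArg Fin.val ht⟩

noncomputable instance : Inv (Carrier D) :=
  ⟨fun x => ⟨Classical.choose (exists_left_inv x.st),
    -(x.a + D.c (Classical.choose (exists_left_inv x.st) : Fin D.N) x.st)⟩⟩

noncomputable instance : Group (Carrier D) :=
  Group.ofLeftAxioms
    (fun x y w => Carrier.ext (Fin.ext (D.prd_assoc x.st.2 y.st.2 w.st.2)) (by
      simp only [mul_a, mul_st]
      linear_combination (norm := abel) D.c_assoc x.st.2 y.st.2 w.st.2))
    (fun x => Carrier.ext (Fin.ext (D.prd_zero_left _ x.st.2))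
      (by simp [D.c_zero_left _ x.st.2]))
    (fun x => Carrier.ext (Fin.ext (Classical.choose_spec (exists_left_inv x.st))) (by
      show -(x.a + D.c (Classical.choose (exists_left_inv x.st) : Fin D.N) x.st) + x.a +
        D.c (Classical.choose (exists_left_inv x.st) : Fin D.N) x.st = (0 : A)
      abel))

instance [Finite A] : Finite (Carrier D) :=
  Finite.of_injective (fun x => (x.st, x.a)) fun x y e => Carrier.ext (congrArg Prod.fst e) (congrArg Prod.snd e)

/-- The projection. -/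
noncomputable def proj : Carrier D →* G := MonoidHom.mk' (fun x => D.L x.st) fun x y => (D.prd_spec x.st.2 y.st.2).2

theorem mem_ker_proj {x : Carrier D} : x ∈ proj.ker ↔ (x.st : ℕ) = 0 := by
  constructor
  · intro h
    exact D.L_inj _ x.st.2 _ D.pos ((show D.L x.st = 1 from h).trans D.L_zero.symm)
  · intro h
    show D.L x.st = 1
    rw [h, D.L_zero]

theorem ker_proj_le_center : (proj (D := D)).ker ≤ Subgroup.center _ := by
  intro x hx
  have h := mem_ker_proj.1 hx
  refine Subgroup.mem_center_iff.2 fun y => Carrier.ext (Fin.ext ?_) ?_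
  · simp [h, D.prd_zero _ y.st.2, D.prd_zero_left _ y.st.2]
  · simp [h, D.c_zero _ y.st.2, D.c_zero_left _ y.st.2, add_comm]

/-- The kernel values. -/
noncomputable def kerOf : Multiplicative A →* (proj (D := D)).ker :=
  MonoidHom.mk' (fun a => ⟨⟨⟨0, D.pos⟩, a.toAdd⟩, mem_ker_proj.2 rfl⟩) fun a b => Subtype.ext (Carrier.ext
    (Fin.ext (D.prd_zero 0 D.pos).symm) (by simp [D.c_zero 0 D.pos]))

/-- A table of coset representatives. -/
structure Cosets (D : Tab G A) where
  k : ℕ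
  T : ℕ → G
  key : G → ℕ
  card_eq : Nat.card G = k * D.N
  key_mul : ∀ j < k, ∀ s < D.N, key (T j * D.L s) = key (T j)
  key_inj : ∀ j < k, ∀ l < k, key (T j) = key (T l) → j = l

/-- Two commuting elements and their action on the representatives. -/
structure Pair (C : Cosets D) where
  x : G
  y : G
  jx : ℕ → ℕ
  sx : ℕ → ℕ
  jy : ℕ → ℕ
  sy : ℕ → ℕ
  comm : x * y = y * x
  x_spec : ∀ j < C.k, jx j < C.k ∧ sx j < D.N ∧ x * C.T (jx j) = C.T j * D.L (sx j)
  y_spec : ∀ j < C.k, jy j < C.k ∧ sy j < D.N ∧ y * C.T (jy j) = C.T j * D.L (sy j)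

/-- The value of the commutator of a pair. -/
def Pair.value {C : Cosets D} (P : Pair C) : A :=
  ∑ j ∈ Finset.range C.k, (D.c (P.sx j) (P.sy (P.jx j)) - D.c (P.sy j) (P.sx (P.jy j)))

/-- The stem extension. -/
theorem exists_stem {G : Type u} [Group G] [Finite G] {A : Type} [AddCommGroup A] [Finite A]
    {D : Tab G A} (C : Cosets D) {ι' : Type} (P : ι' → Pair C)
    (hgen : AddSubgroup.closure (Set.range fun i => (P i).value) = ⊤) :
    ∃ (Γ : Type u) (_ : Group Γ) (_ : Finite Γ) (τ : Γ →* G),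
      Cfsg.IsStemExtension τ ∧ Nat.card A ∣ Nat.card τ.ker := by
  classical
  set H : Subgroup G := (proj (D := D)).range with hH
  have hHmem : ∀ s < D.N, D.L s ∈ H := fun s hs => ⟨⟨⟨s, hs⟩, 0⟩, rfl⟩
  have hHcard : Nat.card H = D.N := by
    have hb : Function.Bijective fun s : Fin D.N => (⟨D.L s, hHmem s s.2⟩ : H) := by
      refine ⟨fun s t e => Fin.ext (D.L_inj _ s.2 _ t.2 (congrArg Subtype.val e)), ?_⟩
      rintro ⟨_, e, rfl⟩
      exact ⟨e.st, rfl⟩
    rw [← Nat.card_eq_of_bijective _ hb, Nat.card_fin]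
  let Φ : Fin C.k → G ⧸ H := fun j => QuotientGroup.mk (C.T j)
  have hΦ : Function.Bijective Φ := by
    refine (Nat.bijective_iff_injective_and_card Φ).2 ⟨fun j l e => ?_, ?_⟩
    · obtain ⟨e', he'⟩ := QuotientGroup.eq.1 e
      refine Fin.ext (C.key_inj _ j.2 _ l.2 ?_)
      rw [← C.key_mul j j.2 _ e'.st.2, show D.L e'.st = (C.T j)⁻¹ * C.T l from he', mul_inv_cancel_left]
    · rw [Nat.card_fin]
      have h := H.card_mul_index
      rw [hHcard, C.card_eq, mul_comm] at h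
      exact (Nat.eq_of_mul_eq_mul_right D.pos h).symm
  let e := Equiv.ofBijective Φ hΦ
  let t : G ⧸ H → G := fun i => C.T (e.symm i)
  have hmk : ∀ i, QuotientGroup.mk (t i) = i := fun i => e.apply_symm_apply i
  have ht : ∀ g i, (t i)⁻¹ * g * t (g⁻¹ • i) ∈ (proj (D := D)).range := by
    intro g i
    rw [← hH, mul_assoc]
    refine QuotientGroup.eq.1 ?_
    rw [hmk, show QuotientGroup.mk (g * t (g⁻¹ • i)) = g • (QuotientGroup.mk (t (g⁻¹ • i)) : G ⧸ H) from rfl,
      hmk, smul_inv_smul]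
  obtain ⟨E', _, _, σ, ι, hσ, hc, hinj, hle, hcomm⟩ :=
    Cores.exists_cores (QuotientGroup.mk 1 : G ⧸ H) proj ker_proj_le_center t ht
  have hstep : ∀ (x : G) (jx sx : ℕ → ℕ),
      (∀ j < C.k, jx j < C.k ∧ sx j < D.N ∧ x * C.T (jx j) = C.T j * D.L (sx j)) →
      ∀ j : Fin C.k, ((e.symm (x⁻¹ • e j) : Fin C.k) : ℕ) = jx j := by
    intro x jx sx h j
    obtain ⟨hj, hs, he⟩ := h j j.2
    have : e ⟨jx j, hj⟩ = x⁻¹ • e j := by
      show (QuotientGroup.mk (C.T (jx j)) : G ⧸ H) = x⁻¹ • QuotientGroup.mk (C.T j)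
      rw [eq_inv_smul_iff, MulAction.Quotient.smul_mk, smul_eq_mul, he,
        QuotientGroup.mk_mul_of_mem _ (hHmem _ hs)]
    rw [← this, Equiv.symm_apply_apply]
  let lift : ℕ → Carrier D := fun s =>
    if h : s < D.N then ⟨⟨s, h⟩, 0⟩ else 1
  have hlift : ∀ s (h : s < D.N), lift s = ⟨⟨s, h⟩, 0⟩ := fun s h => dif_pos h
  have hXY : ∀ (x : G) (jx sx : ℕ → ℕ),
      (∀ j < C.k, jx j < C.k ∧ sx j < D.N ∧ x * C.T (jx j) = C.T j * D.L (sx j)) →
      ∀ i, proj (lift (sx (e.symm i))) = (t i)⁻¹ * x * t (x⁻¹ • i) := by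
    intro x jx sx h i
    obtain ⟨j, rfl⟩ := e.surjective i
    obtain ⟨hj, hs, he⟩ := h j j.2
    simp only [t, hstep x jx sx h j, Equiv.symm_apply_apply]
    rw [hlift _ hs, mul_assoc, he, inv_mul_cancel_left]
    rfl
  let _ : Fintype (G ⧸ H) := Fintype.ofFinite _
  have hpair : ∀ Q : Pair C, ι (kerOf (Multiplicative.ofAdd Q.value)) ∈ commutator E' := by
    intro Q
    let X : G ⧸ H → Carrier D := fun i => lift (Q.sx (e.symm i))
    let Y : G ⧸ H → Carrier D := fun i => lift (Q.sy (e.symm i))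
    let ζ : G ⧸ H → (proj (D := D)).ker := fun i => kerOf (Multiplicative.ofAdd
      (D.c (Q.sx (e.symm i)) (Q.sy (Q.jx (e.symm i))) - D.c (Q.sy (e.symm i)) (Q.sx (Q.jy (e.symm i)))))
    have hζ : ∀ i, X i * Y (Q.x⁻¹ • i) = ζ i * (Y i * X (Q.y⁻¹ • i)) := by
      intro i
      obtain ⟨j, rfl⟩ := e.surjective i
      obtain ⟨hj, hs, he⟩ := Q.x_spec j j.2
      obtain ⟨hj', hs', he'⟩ := Q.y_spec j j.2
      obtain ⟨-, hs2, he2⟩ := Q.y_spec _ hj
      obtain ⟨-, hs2', he2'⟩ := Q.x_spec _ hj'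
      simp only [X, Y, ζ, hstep Q.x Q.jx Q.sx Q.x_spec j, hstep Q.y Q.jy Q.sy Q.y_spec j,
        Equiv.symm_apply_apply, hlift _ hs, hlift _ hs', hlift _ hs2, hlift _ hs2']
      have hp1 := D.prd_spec hs hs2
      have hp2 := D.prd_spec hs' hs2'
      have hj2 : Q.jy (Q.jx j) = Q.jx (Q.jy j) := by
        have a1 : ((e.symm (Q.y⁻¹ • (Q.x⁻¹ • e j)) : Fin C.k) : ℕ) = Q.jy (Q.jx j) := by
          have : Q.x⁻¹ • e j = e ⟨Q.jx j, hj⟩ := by
            rw [← e.apply_symm_apply (Q.x⁻¹ • e j)]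
            exact congrArg e (Fin.ext (hstep Q.x Q.jx Q.sx Q.x_spec j))
          rw [this]
          exact hstep Q.y Q.jy Q.sy Q.y_spec ⟨_, hj⟩
        have a2 : ((e.symm (Q.x⁻¹ • (Q.y⁻¹ • e j)) : Fin C.k) : ℕ) = Q.jx (Q.jy j) := by
          have : Q.y⁻¹ • e j = e ⟨Q.jy j, hj'⟩ := by
            rw [← e.apply_symm_apply (Q.y⁻¹ • e j)]
            exact congrArg e (Fin.ext (hstep Q.y Q.jy Q.sy Q.y_spec j))
          rw [this]
          exact hstep Q.x Q.jx Q.sx Q.x_spec ⟨_, hj'⟩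
        rw [← a1, ← a2, ← mul_smul, ← mul_smul, ← mul_inv_rev, ← mul_inv_rev, Q.comm]
      have hprd : D.prd (Q.sx j) (Q.sy (Q.jx j)) = D.prd (Q.sy j) (Q.sx (Q.jy j)) := by
        refine D.L_inj _ hp1.1 _ hp2.1 (mul_left_cancel (a := C.T j) ?_)
        rw [hp1.2, hp2.2, ← mul_assoc, ← he, ← mul_assoc (C.T j), ← he', mul_assoc, ← he2, mul_assoc,
          ← he2', ← mul_assoc, ← mul_assoc, Q.comm, hj2]
      refine Carrier.ext (Fin.ext ?_) ?_
      · show _ = D.prd 0 (D.prd (Q.sy j) (Q.sx (Q.jy j)))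
        rw [D.prd_zero_left _ hp2.1]
        exact hprd
      · show (0 : A) + 0 + D.c (Q.sx j) (Q.sy (Q.jx j)) =
          (D.c (Q.sx j) (Q.sy (Q.jx j)) - D.c (Q.sy j) (Q.sx (Q.jy j))) +
            (0 + 0 + D.c (Q.sy j) (Q.sx (Q.jy j))) + D.c 0 (D.prd (Q.sy j) (Q.sx (Q.jy j)))
        rw [D.c_zero_left _ hp2.1]
        abel
    have hone : ι (kerOf (Multiplicative.ofAdd Q.value)) ∈ commutator E' := by
      refine hcomm Q.x Q.y Q.comm X Y ζ (hXY Q.x Q.jx Q.sx Q.x_spec) (hXY Q.y Q.jy Q.sy Q.y_spec) hζ _ ?_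
      let ψ : Multiplicative A →* Subgroup.center (Carrier D) :=
        (Subgroup.inclusion ker_proj_le_center).comp kerOf
      show ∏ i, ψ _ = ψ (Multiplicative.ofAdd Q.value)
      rw [← map_prod, ← ofAdd_sum, ← Equiv.sum_comp e]
      simp only [Equiv.symm_apply_apply]
      rw [Fin.sum_univ_eq_sum_range
        (fun j => D.c (Q.sx j) (Q.sy (Q.jx j)) - D.c (Q.sy j) (Q.sx (Q.jy j)))]
      rfl
    exact hone
  let w : Multiplicative A →* E' := ι.comp kerOf
  have hall : ∀ a, w a ∈ commutator E' := by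
    intro a
    have ha : a.toAdd ∈ AddSubgroup.closure (Set.range fun i => (P i).value) := hgen ▸ trivial
    suffices ∀ b ∈ AddSubgroup.closure (Set.range fun i => (P i).value),
        w (Multiplicative.ofAdd b) ∈ commutator E' from this _ ha
    intro b hb
    induction hb using AddSubgroup.closure_induction with
    | mem b hb =>
      obtain ⟨i, rfl⟩ := hb
      exact hpair (P i)
    | zero => rw [ofAdd_zero, map_one]; exact one_mem _
    | add b c _ _ hb hc => rw [ofAdd_add, map_mul]; exact mul_mem hb hc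
    | neg b _ hb => rw [ofAdd_neg, map_inv]; exact inv_mem hb
  obtain ⟨Γ, _, _, τ, hτ, ψ, hψ⟩ := StructB.exists_stem_of_central σ hσ hc
  refine ⟨Γ, inferInstance, inferInstance, τ, hτ, ?_⟩
  let w' : Multiplicative A →* σ.ker := w.codRestrict σ.ker fun a => hle ⟨_, rfl⟩
  have hker : Function.Injective (kerOf (D := D)) := fun a b e' =>
    congrArg (fun k : (proj (D := D)).ker => Multiplicative.ofAdd (k : Carrier D).a) e'
  have hw : Function.Injective w' := fun a b e' =>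
    hker (hinj (congrArg Subtype.val e'))
  rw [← Nat.card_congr Multiplicative.ofAdd.symm, show Nat.card (Multiplicative A) = Nat.card w'.range from Nat.card_congr (MonoidHom.ofInjective hw).toEquiv]
  refine (Subgroup.card_dvd_of_le (show w'.range ≤ ψ.range from ?_)).trans (Subgroup.card_range_dvd ψ)
  rintro _ ⟨a, rfl⟩
  exact hψ _ (hall a)

end CfsgLib.KnownA.TableExt
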